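import Groth.Agent.L10.DRing.Perfect
import Mathlib.Algebra.Homology.DerivedCategory.SingleTriangle
import Mathlib.Algebra.Homology.DerivedCategory.FullyFaithful
import Mathlib.RingTheory.Noetherian.Basic

/-!
Pseudo-coherence of modules; small consequences of devissage.
-/

set_option autoImplicit false
set_option backward.isDefEq.respectTransparency false
set_option backward.isDefEq.respectTransparency.types false

universe u

open CategoryTheory CategoryTheory.Limits CategoryTheory.Pretriangulated MonoidalCategory CochainComplex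

attribute [local instance] HasDerivedCategory.standard

namespace Groth.L10.DR

variable {A : Type u} [CommRing A]

open Groth.L02.PC

theorem isZero_HH_single (n i : ℤ) (M : ModuleCat.{u} A) (h : i ≠ n) :
    IsZero ((HH i).obj (single n M)) := by
  refine IsZero.of_iso ?_ ((HH i).mapIso ((DerivedCategory.singleFunctorIsoCompQ _ n).app M))
  refine (isZero_HH_Q_iff _ i).2 ?_
  exact HomologicalComplex.isZero_single_obj_homology (ComplexShape.up ℤ) n M i h

theorem LEH_inD (M : Type u) [AddCommGroup M] [Module A M] : LEH (Dual.inD A M) 0 := fun i hi =>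
  isZero_HH_single 0 i (ModuleCat.of A M) (by omega)

noncomputable def HHinD (M : Type u) [AddCommGroup M] [Module A M] :
    (HH 0).obj (Dual.inD A M) ≅ ModuleCat.of A M :=
  (DerivedCategory.singleFunctorCompHomologyFunctorIso (ModuleCat.{u} A) 0).app (ModuleCat.of A M)

theorem pcModule_zero (M : Type u) [AddCommGroup M] [Module A M] [Module.Finite A M] :
    DRing.IsPseudoCoherentModule A 0 M :=
  pc_of_finite_HH (LEH_inD M) (Module.Finite.equiv (HHinD (A := A) M).toLinearEquiv.symm)

theorem finite_of_pcModule_zero {M : Type u} [AddCommGroup M] [Module A M]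
    (h : DRing.IsPseudoCoherentModule A 0 M) : Module.Finite A M :=
  haveI := pc_finite h (LEH_inD M)
  Module.Finite.equiv (HHinD (A := A) M).toLinearEquiv

theorem finitePresentation_of_pcModule {M : Type u} [AddCommGroup M] [Module A M]
    (h : DRing.IsPseudoCoherentModule A (-1) M) : Module.FinitePresentation A M :=
  haveI : Module.FinitePresentation A ((HH 0).obj (Dual.inD A M)) := pc_finitePresentation (m := -1) h (LEH_inD M)
  Module.FinitePresentation.of_equiv (HHinD (A := A) M).toLinearEquiv

theorem pcModule_free (n : ℕ) (m : ℤ) : DRing.IsPseudoCoherentModule A m (Fin n → A) := by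
  refine pc_of_iso ((DerivedCategory.singleFunctorIsoCompQ (ModuleCat.{u} A) 0).app (ModuleCat.of A (Fin n → A))).symm
    (pc_of_bounded_free (a := 0) (b := 0)
      (fun i hi => HomologicalComplex.isZero_single_obj_X (ComplexShape.up ℤ) 0 _ i (by omega)) (fun i => ?_) m)
  rcases eq_or_ne i 0 with rfl | hi
  · let e := (HomologicalComplex.singleObjXSelf (ComplexShape.up ℤ) 0 (ModuleCat.of A (Fin n → A))).toLinearEquiv
    exact ⟨Module.Finite.equiv e.symm, Module.Free.of_equiv e.symm⟩
  · have hz := HomologicalComplex.isZero_single_obj_X (ComplexShape.up ℤ) 0 (ModuleCat.of A (Fin n → A)) i hi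
    haveI := ModuleCat.subsingleton_of_isZero hz
    exact ⟨inferInstanceAs (Module.Finite A
      (((HomologicalComplex.single _ (ComplexShape.up ℤ) 0).obj (ModuleCat.of A (Fin n → A))).X i)),
      inferInstanceAs (Module.Free A
      (((HomologicalComplex.single _ (ComplexShape.up ℤ) 0).obj (ModuleCat.of A (Fin n → A))).X i))⟩

/-- the step of syzygies -/
theorem pcModule_step {M : Type u} [AddCommGroup M] [Module A M] (n : ℕ) (f : (Fin n → A) →ₗ[A] M)
    (hf : Function.Surjective f) (k : ℤ) (hk : DRing.IsPseudoCoherentModule A (k + 1) (LinearMap.ker f)) :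
    DRing.IsPseudoCoherentModule A k M := by
  let S : ShortComplex (ModuleCat.{u} A) := ShortComplex.mk (ModuleCat.ofHom (LinearMap.ker f).subtype)
    (ModuleCat.ofHom f) (ModuleCat.hom_ext (LinearMap.ext fun x => x.2))
  have hS : S.ShortExact :=
    { exact := (ShortComplex.ShortExact.moduleCat_exact_iff_function_exact _).2 f.exact_subtype_ker_map
      mono_f := ConcreteCategory.mono_of_injective _ Subtype.val_injective
      epi_g := ConcreteCategory.epi_of_surjective _ hf }
  exact pc_third hS.singleTriangle hS.singleTriangle_distinguished k hk (pcModule_free n k)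

theorem pcModule_negOne (M : Type u) [AddCommGroup M] [Module A M] [Module.FinitePresentation A M] :
    DRing.IsPseudoCoherentModule A (-1) M := by
  obtain ⟨n, f, hf⟩ := Module.Finite.exists_fin' A M
  haveI : Module.Finite A (LinearMap.ker f) :=
    Module.Finite.iff_fg.2 (Module.FinitePresentation.fg_ker f hf)
  exact pcModule_step n f hf (-1) (pcModule_zero _)

theorem pcModule_noetherian [IsNoetherianRing A] (k : ℕ) :
    ∀ (M : Type u) [AddCommGroup M] [Module A M] [Module.Finite A M],
      DRing.IsPseudoCoherentModule A (-(k : ℤ)) M := by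
  induction k with
  | zero => intro M _ _ _; exact pcModule_zero M
  | succ k ih =>
    intro M _ _ _
    obtain ⟨n, f, hf⟩ := Module.Finite.exists_fin' A M
    refine pcModule_step n f hf _ ?_
    rw [show (-((k + 1 : ℕ) : ℤ)) + 1 = -(k : ℤ) by omega]
    exact ih _

theorem pcModule'_noetherian [IsNoetherianRing A] (M : Type u) [AddCommGroup M] [Module A M] [Module.Finite A M] :
    DRing.IsPseudoCoherentModule' A M :=
  pc'_of_forall fun m => pc_mono (show -((-m).toNat : ℤ) ≤ m by omega) (pcModule_noetherian _ M)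

theorem pc_single {M : ModuleCat.{u} A} (i m : ℤ) (h : DRing.IsPseudoCoherentModule A (m - i) M) :
    DRing.IsPseudoCoherent A m (single i M) :=
  pc_of_iso (singleShift i M) (pc_shift h (-i) m (by omega))

/-- devissage along cohomology, degree by degree -/
theorem pc_of_homology (m : ℤ) (K : Dual.D A) (b : ℤ) (hb : LEH K b)
    (h : ∀ i, m ≤ i → DRing.IsPseudoCoherent A m (single i ((HH i).obj K))) :
    DRing.IsPseudoCoherent A m K := by
  let t : Triangulated.TStructure (Dual.D A) := DerivedCategory.TStructure.t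
  have hLT : LEH ((t.truncLT m).obj K) (m - 1) := fun i hi =>
    Groth.L10.isZero_H_LT m i (by omega) K
  refine pc_second _ (t.triangleLTGE_distinguished m K) m (pc_mono (by omega) (pc_of_LEH hLT)) ?_
  let P : ObjectProperty (Dual.D A) := fun X => DRing.IsPseudoCoherent A m X
  haveI : P.IsClosedUnderIsomorphisms := ⟨fun e h => pc_of_iso e h⟩
  refine of_homology P (fun Z hZ => pc_mono (show m - 1 + 1 ≤ m by omega)
    (pc_of_LEH fun i _ => (HH i).map_isZero hZ))
    (fun T hT h1 h3 => pc_second T hT m h1 h3) ((t.truncGE m).obj K) m b ?_ ?_ fun i hi _ => ?_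
  · exact inferInstanceAs (((t.truncGE m).obj K).IsGE m)
  · refine (DerivedCategory.isLE_iff _ b).2 fun i hi => ?_
    by_cases hmi : m ≤ i
    · haveI := Groth.L10.isIso_H_π m i hmi K
      exact (hb i hi).of_iso (asIso ((HH i).map ((t.truncGEπ m).app K))).symm
    · exact Groth.L10.isZero_H_GE m i (by omega) K
  · haveI := Groth.L10.isIso_H_π m i hi K
    exact P.prop_of_iso ((DerivedCategory.singleFunctor _ i).mapIso
      (asIso ((HH i).map ((t.truncGEπ m).app K)))) (h i hi)

/-- devissage along the terms, degree by degree -/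
theorem pc_of_terms (m : ℤ) (K : DRing.Cx A) (b : ℤ) (hb : DRing.VanishesAbove K b)
    (h : ∀ i, m ≤ i → DRing.IsPseudoCoherent A m (single i (K.X i))) :
    DRing.IsPseudoCoherent A m (DRing.toD K) := by
  refine pc_of_approx _ (isApprox_truncι K m) ?_
  let P : ObjectProperty (Dual.D A) := fun X => DRing.IsPseudoCoherent A m X
  haveI : P.IsClosedUnderIsomorphisms := ⟨fun e h => pc_of_iso e h⟩
  refine of_termwise P (fun Z hZ => pc_mono (show m - 1 + 1 ≤ m by omega)
    (pc_of_LEH fun i _ => (HH i).map_isZero hZ))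
    (fun T hT h1 h3 => pc_second T hT m h1 h3) (trunc K m) m b (trunc_vanishesOutside K m b hb) fun i hi _ => ?_
  haveI : IsIso ((truncι K m).f i) :=
    (ConcreteCategory.isIso_iff_bijective _).2 (truncι_bijective K m hi)
  exact P.prop_of_iso ((DerivedCategory.singleFunctor _ i).mapIso (asIso ((truncι K m).f i))).symm (h i hi)

theorem perfect_of_isZero {Z : Dual.D A} (hZ : IsZero Z) : DRing.IsPerfect A Z :=
  perfect_of_pc'_amp
    (pc'_of_forall fun m => pc_mono (show (m - 1) + 1 ≤ m by omega)
      (pc_of_LEH fun j _ => (HH j).map_isZero hZ))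
    (amp_of_isZero hZ 0 0)

/-- a module of tor amplitude `[0, 0]` is flat -/
theorem flat_of_amp {M : Type u} [AddCommGroup M] [Module A M] {b : ℤ}
    (h : DRing.HasTorAmplitudeIn A 0 b (Dual.inD A M)) : Module.Flat A M := by
  obtain ⟨Q, hQb, hQf, -, ⟨e⟩, ht⟩ := exists_test h
  obtain ⟨E, hE, hEf, ⟨eE⟩⟩ := (amp_iff e hQb (flat_of_free hQf) 0 0).2 ⟨ht, LEH_inD M⟩
  haveI : E.IsStrictlyGE 0 := (CochainComplex.isStrictlyGE_iff E 0).2 fun i hi => hE i (Or.inl hi)
  haveI : E.IsStrictlyLE 0 := (CochainComplex.isStrictlyLE_iff E 0).2 fun i hi => hE i (Or.inr hi)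
  obtain ⟨N, ⟨eN⟩⟩ := CochainComplex.exists_iso_single E 0
  let i1 : N ≅ ModuleCat.of A M := (DerivedCategory.singleFunctor (ModuleCat.{u} A) 0).preimageIso
    ((DerivedCategory.singleFunctorIsoCompQ _ 0).app N ≪≫ DerivedCategory.Q.mapIso eN.symm ≪≫ eE)
  let i2 : E.X 0 ≅ N := (HomologicalComplex.eval (ModuleCat.{u} A) (ComplexShape.up ℤ) 0).mapIso eN ≪≫
    HomologicalComplex.singleObjXSelf (ComplexShape.up ℤ) 0 N
  haveI := hEf 0
  exact Module.Flat.of_linearEquiv (i2 ≪≫ i1).toLinearEquiv.symm

/-- `m - 1` pseudo-coherent of tor amplitude `[m, n]` is perfect -/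
theorem perfect_of_pc_amp {K : Dual.D A} {m n : ℤ} (hpc : DRing.IsPseudoCoherent A (m - 1) K)
    (h : DRing.HasTorAmplitudeIn A m n K) : DRing.IsPerfect A K := by
  obtain ⟨F, hF, hFf, ⟨eF⟩⟩ := h
  obtain ⟨E, b, α, hv, hff, hα⟩ := exists_witness_ge hpc
  haveI := isKProjective_bounded hv hff
  obtain ⟨f, hf⟩ := exists_chainMap (α ≫ eF.inv)
  have hfa : IsApprox (DerivedCategory.Q.map f) (m - 1) := hf ▸ hα.comp (IsApprox.of_isIso _ _)
  haveI : F.IsStrictlyGE m := (CochainComplex.isStrictlyGE_iff F m).2 fun i hi => hF i (Or.inl hi)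
  haveI : QuasiIso (CochainComplex.truncGEMap f m) :=
    (CochainComplex.quasiIso_truncGEMap_iff f m).2 fun i hi =>
      (quasiIsoAt_iff_isIso_homologyMap f i).2
        (Groth.L29.DC.isIso_homologyMap_of_Q f i (hfa.1 i (by omega)))
  let E' := E.truncGE m
  have hb : DRing.VanishesOutside E' m b := vanishesOutside_truncGE m b fun i hi => hv i (Or.inr hi)
  let eK : DRing.toD E' ≅ K := asIso (DerivedCategory.Q.map (CochainComplex.truncGEMap f m)) ≪≫
    (asIso (DerivedCategory.Q.map (F.πTruncGE m))).symm ≪≫ eF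
  have hfp : DRing.TermwiseFiniteProjective E := fun i => ⟨(hff i).1, haveI := (hff i).2; inferInstance⟩
  obtain ⟨T, hT, h2, ⟨e1⟩, ⟨e3⟩⟩ := exists_brutal_triangle E' m fun i hi => hb i (Or.inl hi)
  have a2 : DRing.HasTorAmplitudeIn A m (max n b) T.obj₂ :=
    h2 ▸ amp_mono (amp_of_iso eK.symm ⟨F, hF, hFf, ⟨eF⟩⟩) le_rfl (le_max_left _ _)
  have a1 : DRing.HasTorAmplitudeIn A (m + 1) (max n b + 1) T.obj₁ := by
    refine amp_of_iso e1.symm ⟨trunc E' (m + 1), fun i hi => ?_, fun i => ?_, ⟨Iso.refl _⟩⟩
    · by_cases hi' : m + 1 ≤ i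
      · haveI : IsIso ((truncι E' (m + 1)).f i) :=
          (ConcreteCategory.isIso_iff_bijective _).2 (truncι_bijective E' (m + 1) hi')
        exact (hb i (Or.inr (by omega))).of_iso (asIso ((truncι E' (m + 1)).f i))
      · exact isZero_trunc_X E' (m + 1) (by omega)
    · by_cases hi' : m + 1 ≤ i
      · haveI : IsIso ((truncι E' (m + 1)).f i) :=
          (ConcreteCategory.isIso_iff_bijective _).2 (truncι_bijective E' (m + 1) hi')
        haveI : Module.Flat A (E.X i) := by haveI := (hfp i).2; infer_instance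
        exact Module.Flat.of_linearEquiv (asIso ((truncι E' (m + 1)).f i) ≪≫
          CochainComplex.truncGEXIso E m i (by omega)).toLinearEquiv
      · haveI := ModuleCat.subsingleton_of_isZero (isZero_trunc_X E' (m + 1) (i := i) (by omega))
        exact inferInstance
  obtain ⟨eX⟩ := truncGE_X_iso E m
  have a3 := amp_shift (amp_of_iso e3 (amp_third T hT a1 a2)) m
  rw [sub_self] at a3
  have eS : (single m (E'.X m))⟦m⟧ ≅ Dual.inD A (E.X m ⧸ LinearMap.range (E.d (m - 1) m).hom) :=
    ((DerivedCategory.singleFunctors (ModuleCat.{u} A)).shiftIso m 0 m (by omega)).app _ ≪≫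
      (DerivedCategory.singleFunctor (ModuleCat.{u} A) 0).mapIso eX
  exact ⟨E', m, b, hb, finiteProjective_truncGE hfp m (flat_of_amp (amp_of_iso eS a3)), ⟨eK⟩⟩

theorem finiteFree_property (P : ObjectProperty (Dual.D A)) [P.IsClosedUnderIsomorphisms]
    (hR : P (Dual.inD A A))
    (hext : ∀ T : Triangle (Dual.D A), T ∈ distinguishedTriangles → P T.obj₁ → P T.obj₃ → P T.obj₂)
    (hzero : ∀ Z : Dual.D A, IsZero Z → P Z) : ∀ n : ℕ, P (Dual.inD A (Fin n → A)) := by
  intro n
  induction n with
  | zero =>
    exact hzero _ ((DerivedCategory.singleFunctor (ModuleCat.{u} A) 0).map_isZero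
      (ModuleCat.isZero_of_subsingleton (ModuleCat.of A (Fin 0 → A))))
  | succ n ih =>
    let S : ShortComplex (ModuleCat.{u} A) :=
      ShortComplex.mk (ModuleCat.ofHom (LinearMap.inl A A (Fin n → A)))
        (ModuleCat.ofHom (LinearMap.snd A A (Fin n → A))) (ModuleCat.hom_ext (LinearMap.ext fun _ => rfl))
    have hS : S.ShortExact :=
      { exact := (ShortComplex.ShortExact.moduleCat_exact_iff_function_exact _).2
          (LinearMap.exact_iff.2 (LinearMap.ker_snd A A (Fin n → A)))
        mono_f := ConcreteCategory.mono_of_injective _ LinearMap.inl_injective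
        epi_g := ConcreteCategory.epi_of_surjective _ LinearMap.snd_surjective }
    exact P.prop_of_iso ((DerivedCategory.singleFunctor (ModuleCat.{u} A) 0).mapIso
      (Fin.consLinearEquiv A (fun _ : Fin (n + 1) => A)).toModuleIso)
      (hext hS.singleTriangle hS.singleTriangle_distinguished hR ih)

end Groth.L10.DR
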