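import Groth.Agent.L02.PC.Basic
import Groth.Agent.L10.DerTrunc
import Mathlib.Algebra.Homology.DerivedCategory.ShortExact
import Mathlib.Algebra.Homology.HomologicalComplexAbelian
import Mathlib.Algebra.Homology.Embedding.CochainComplex

/-!
Devissage for properties of objects of the derived category of modules.
-/

set_option autoImplicit false
set_option backward.isDefEq.respectTransparency false

universe u

open CategoryTheory CategoryTheory.Limits CategoryTheory.Pretriangulated

attribute [local instance] HasDerivedCategory.standard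

namespace Groth.L10.DR

variable {A : Type u} [CommRing A]

/-- `M` in degree `n` -/
noncomputable abbrev single (n : ℤ) (M : ModuleCat.{u} A) : Dual.D A :=
  (DerivedCategory.singleFunctor (ModuleCat.{u} A) n).obj M

/-- shifting a module concentrated in one degree -/
noncomputable def singleShift (n : ℤ) (M : ModuleCat.{u} A) :
    (Dual.inD A M)⟦-n⟧ ≅ single n M :=
  ((DerivedCategory.singleFunctors (ModuleCat.{u} A)).shiftIso (-n) n 0 (by omega)).app M

/-- the brutal truncation triangle of a complex vanishing below `a` -/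
theorem exists_brutal_triangle (K : DRing.Cx A) (a : ℤ) (hK : ∀ i, i < a → IsZero (K.X i)) :
    ∃ T : Triangle (Dual.D A), T ∈ distinguishedTriangles ∧ T.obj₂ = DRing.toD K ∧
      Nonempty (T.obj₁ ≅ DRing.toD (Groth.L02.PC.trunc K (a + 1))) ∧
      Nonempty (T.obj₃ ≅ single a (K.X a)) := by
  let ι := Groth.L02.PC.truncι K (a + 1)
  have hbij : ∀ i, a + 1 ≤ i → IsIso (ι.f i) := fun i hi =>
    (ConcreteCategory.isIso_iff_bijective _).2 (Groth.L02.PC.truncι_bijective K (a + 1) hi)
  haveI : ∀ i, Mono (ι.f i) := fun i =>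
    ConcreteCategory.mono_of_injective _ Subtype.val_injective
  haveI : Mono ι := HomologicalComplex.mono_of_mono_f ι inferInstance
  let S : ShortComplex (DRing.Cx A) := ShortComplex.mk ι (cokernel.π ι) (cokernel.condition ι)
  have hS : S.ShortExact :=
    { exact := S.exact_of_g_is_cokernel (cokernelIsCokernel ι) }
  have hT := DerivedCategory.triangleOfSES_distinguished hS
  have hSi : ∀ i, (S.map (HomologicalComplex.eval _ _ i)).ShortExact := fun i =>
    hS.map_of_exact (HomologicalComplex.eval (ModuleCat.{u} A) (ComplexShape.up ℤ) i)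
  have hout : ∀ i, i ≠ a → IsZero (S.X₃.X i) := fun i hi => by
    by_cases hia : a + 1 ≤ i
    · haveI := hbij i hia
      have hg : (S.map (HomologicalComplex.eval _ _ i)).g = 0 :=
        (cancel_epi (ι.f i)).1 (((S.map (HomologicalComplex.eval _ _ i)).zero).trans comp_zero.symm)
      haveI := (hSi i).epi_g
      exact IsZero.of_epi_eq_zero _ hg
    · haveI := (hSi i).epi_g
      exact IsZero.of_epi (S.map (HomologicalComplex.eval _ _ i)).g (hK i (by omega))
  have hXa : IsIso (S.g.f a) := by
    haveI : Mono (S.g.f a) := (hSi a).exact.mono_g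
      ((Groth.L02.PC.isZero_trunc_X K (a + 1) (i := a) (by omega)).eq_of_src _ _)
    haveI : Epi (S.g.f a) := (hSi a).epi_g
    exact isIso_of_mono_of_epi _
  haveI : S.X₃.IsStrictlyGE a := (CochainComplex.isStrictlyGE_iff _ _).2 fun i hi => hout i (by omega)
  haveI : S.X₃.IsStrictlyLE a := (CochainComplex.isStrictlyLE_iff _ _).2 fun i hi => hout i (by omega)
  obtain ⟨M, ⟨e⟩⟩ := CochainComplex.exists_iso_single S.X₃ a
  have eM : K.X a ≅ M := asIso (S.g.f a) ≪≫
    (HomologicalComplex.eval (ModuleCat.{u} A) (ComplexShape.up ℤ) a).mapIso e ≪≫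
    HomologicalComplex.singleObjXSelf (ComplexShape.up ℤ) a M
  exact ⟨_, hT, rfl, ⟨Iso.refl _⟩, ⟨DerivedCategory.Q.mapIso e ≪≫
    ((DerivedCategory.singleFunctorIsoCompQ (ModuleCat.{u} A) a).app M).symm ≪≫
    (DerivedCategory.singleFunctor (ModuleCat.{u} A) a).mapIso eM.symm⟩⟩

variable (P : ObjectProperty (Dual.D A)) [P.IsClosedUnderIsomorphisms]
  (hzero : ∀ Z : Dual.D A, IsZero Z → P Z)
  (hext : ∀ T : Triangle (Dual.D A), T ∈ distinguishedTriangles → P T.obj₁ → P T.obj₃ → P T.obj₂)

include hzero hext in
/-- devissage along the terms of a bounded complex -/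
theorem of_termwise (K : DRing.Cx A) (a b : ℤ) (hK : DRing.VanishesOutside K a b)
    (h : ∀ i, a ≤ i → i ≤ b → P (single i (K.X i))) : P (DRing.toD K) := by
  suffices ∀ (k : ℕ) (a : ℤ) (K : DRing.Cx A), DRing.VanishesOutside K a (a + k - 1) →
      (∀ i, a ≤ i → i ≤ a + k - 1 → P (single i (K.X i))) → P (DRing.toD K) from
    this (b - a + 1).toNat a K (fun i hi => hK i (by omega)) (fun i h1 h2 => by
      by_cases hb : i ≤ b
      · exact h i h1 hb
      · omega)
  intro k
  induction k with
  | zero =>
    intro a K hK _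
    refine hzero _ (Functor.map_isZero DerivedCategory.Q ?_)
    rw [IsZero.iff_id_eq_zero]
    ext i : 1
    exact (hK i (by omega)).eq_of_src _ _
  | succ k ih =>
    intro a K hK h
    obtain ⟨T, hT, h2, ⟨e1⟩, ⟨e3⟩⟩ := exists_brutal_triangle K a fun i hi => hK i (Or.inl hi)
    have hbij : ∀ i, a + 1 ≤ i → IsIso ((Groth.L02.PC.truncι K (a + 1)).f i) := fun i hi =>
      (ConcreteCategory.isIso_iff_bijective _).2 (Groth.L02.PC.truncι_bijective K (a + 1) hi)
    have h3 : P T.obj₃ := P.prop_of_iso e3.symm (h a le_rfl (by omega))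
    have h1 : P (DRing.toD (Groth.L02.PC.trunc K (a + 1))) := by
      refine ih (a + 1) _ (fun i hi => ?_) (fun i hi hi' => ?_)
      · rcases hi with hi | hi
        · exact Groth.L02.PC.isZero_trunc_X K (a + 1) hi
        · by_cases hia : a + 1 ≤ i
          · haveI := hbij i hia
            exact (hK i (by omega)).of_iso (asIso ((Groth.L02.PC.truncι K (a + 1)).f i))
          · exact Groth.L02.PC.isZero_trunc_X K (a + 1) (by omega)
      · haveI := hbij i hi
        exact P.prop_of_iso ((DerivedCategory.singleFunctor _ i).mapIso (asIso ((Groth.L02.PC.truncι K (a + 1)).f i))).symm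
          (h i (by omega) (by omega))
    exact h2 ▸ hext T hT (P.prop_of_iso e1.symm h1) h3

include hzero hext in
/-- devissage along the cohomology of a bounded object -/
theorem of_homology (K : Dual.D A) (a b : ℤ) (ha : K.IsGE a) (hb : K.IsLE b)
    (h : ∀ i, a ≤ i → i ≤ b → P (single i ((Groth.L02.PC.HH i).obj K))) : P K := by
  suffices ∀ (k : ℕ) (Y : Dual.D A), Y.IsGE a → Y.IsLE (a + k - 1) →
      (∀ i, a ≤ i → i ≤ a + k - 1 → P (single i ((Groth.L02.PC.HH i).obj Y))) → P Y by
    refine this (b - a + 1).toNat K ha ?_ (fun i h1 h2 => ?_)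
    · exact DerivedCategory.TStructure.t.isLE_of_le K b _ (by omega)
    · by_cases hib : i ≤ b
      · exact h i h1 hib
      · omega
  intro k
  induction k with
  | zero =>
    intro Y h1 h2 _
    exact hzero _ (DerivedCategory.TStructure.t.isZero Y (a + (0 : ℕ) - 1) a (by omega))
  | succ k ih =>
    intro Y h1 h2 hY
    let t : Triangulated.TStructure (Dual.D A) := DerivedCategory.TStructure.t
    refine hext _ (t.triangleLTGE_distinguished (a + k) Y) (ih _ ?_ ?_ ?_) ?_
    · rw [DerivedCategory.isGE_iff]
      intro i hi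
      have := Groth.L10.isIso_H_ι (a + k) i (by omega) Y
      exact (DerivedCategory.isZero_of_isGE Y a i hi).of_iso
        (asIso ((Groth.L02.PC.HH i).map ((t.truncLTι (a + k)).app Y)))
    · exact t.isLE_truncLT_obj _ _ _ (by omega)
    · intro i hi hi'
      have := Groth.L10.isIso_H_ι (a + k) i (by omega) Y
      exact P.prop_of_iso ((DerivedCategory.singleFunctor _ i).mapIso
        (asIso ((Groth.L02.PC.HH i).map ((t.truncLTι (a + k)).app Y)))).symm (hY i hi (by omega))
    · change P ((t.truncGE (a + k)).obj Y)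
      have : DerivedCategory.IsGE ((t.truncGE (a + k)).obj Y) (a + k) := inferInstance
      have : DerivedCategory.IsLE ((t.truncGE (a + k)).obj Y) (a + k) := by
        rw [DerivedCategory.isLE_iff]
        intro i hi
        have := Groth.L10.isIso_H_π (a + k) i (by omega) Y
        exact (DerivedCategory.isZero_of_isLE Y (a + (k + 1 : ℕ) - 1) i (by omega)).of_iso
          (asIso ((Groth.L02.PC.HH i).map ((t.truncGEπ (a + k)).app Y))).symm
      obtain ⟨e⟩ := Groth.L10.exists_iso_single_H ((t.truncGE (a + k)).obj Y) (a + k)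
      have := Groth.L10.isIso_H_π (a + k) (a + k) le_rfl Y
      exact P.prop_of_iso ((DerivedCategory.singleFunctor _ (a + k)).mapIso
        (asIso ((Groth.L02.PC.HH (a + k)).map ((t.truncGEπ (a + k)).app Y))) ≪≫ e.symm)
        (hY _ (by omega) (by omega))

end Groth.L10.DR
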