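import Groth.Agent.L02.PC.Coherent
import Groth.Agent.L10.DRing.Devissage
import Groth.Agent.L29.DCoh.TorPerfect
import Mathlib.Algebra.Homology.HomotopyCategory.MappingCone

/-!
The tensor test for tor amplitude of bounded above complexes of flat modules.
-/

set_option autoImplicit false
set_option backward.isDefEq.respectTransparency false
set_option backward.isDefEq.respectTransparency.types false

universe u

open CategoryTheory CategoryTheory.Limits CategoryTheory.Pretriangulated MonoidalCategory CochainComplex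

attribute [local instance] HasDerivedCategory.standard

namespace Groth.L10.DR

variable {A : Type u} [CommRing A]

/-- `P ⊗ N` is exact in degree `i` for every module `N` -/
def TZ (P : DRing.Cx A) (i : ℤ) : Prop :=
  ∀ N : ModuleCat.{u} A, IsZero ((DRing.tensorCx P N).homology i)

theorem isZero_homology_iff_exact (P : DRing.Cx A) (i j k : ℤ) (hij : i + 1 = j) (hjk : j + 1 = k) :
    IsZero (P.homology j) ↔ Function.Exact (P.d i j).hom (P.d j k).hom := by
  rw [← HomologicalComplex.exactAt_iff_isZero_homology,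
    HomologicalComplex.exactAt_iff' _ i j k (by simp; omega) (by simp; omega),
    ShortComplex.ShortExact.moduleCat_exact_iff_function_exact]
  rfl

theorem tensor_exact_iff (P : DRing.Cx A) (N : ModuleCat.{u} A) (i j k : ℤ) (hij : i + 1 = j)
    (hjk : j + 1 = k) :
    IsZero ((DRing.tensorCx P N).homology j) ↔
      Function.Exact ((P.d i j).hom.rTensor N) ((P.d j k).hom.rTensor N) :=
  isZero_homology_iff_exact (DRing.tensorCx P N) i j k hij hjk

/-- a bounded above exact complex of flat modules stays exact after tensoring -/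
theorem tz_of_exact (P : DRing.Cx A) (B : ℤ) (hB : DRing.VanishesAbove P B) (hflat : DRing.TermwiseFlat P)
    (hex : ∀ i, IsZero (P.homology i)) (i : ℤ) : TZ P i := by
  intro N
  rw [tensor_exact_iff P N (i - 1) i (i + 1) (by omega) rfl]
  have hZ : ∀ n : ℤ, Module.Flat A (LinearMap.ker (P.d n (n + 1)).hom) := fun n =>
    Groth.L29.DC.flat_ker_of_exact P n B hflat hB
      (fun m _ => (P.exactAt_iff_isZero_homology m).2 (hex m)) n (by omega)
  have hE : ∀ a b c : ℤ, a + 1 = b → b + 1 = c → Function.Exact (P.d a b).hom (P.d b c).hom :=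
    fun a b c h h' => (isZero_homology_iff_exact P a b c h h').1 (hex b)
  have e0 := hE (i - 1) i (i + 1) (by omega) rfl
  have e1 := hE i (i + 1) (i + 1 + 1) rfl rfl
  have e2 := hE (i + 1) (i + 1 + 1) (i + 1 + 1 + 1) rfl rfl
  let g : P.X i →ₗ[A] LinearMap.ker (P.d (i + 1) (i + 1 + 1)).hom :=
    (P.d i (i + 1)).hom.codRestrict _ fun x => (e1 _).2 ⟨x, rfl⟩
  have hg : Function.Surjective g := fun z => by
    obtain ⟨x, hx⟩ := (e1 z.1).1 z.2
    exact ⟨x, Subtype.ext hx⟩
  have hexg : Function.Exact (P.d (i - 1) i).hom g := fun x => by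
    rw [Subtype.ext_iff]
    exact e0 x
  let q : P.X (i + 1) →ₗ[A] LinearMap.ker (P.d (i + 1 + 1) (i + 1 + 1 + 1)).hom :=
    (P.d (i + 1) (i + 1 + 1)).hom.codRestrict _ fun x => (e2 _).2 ⟨x, rfl⟩
  have hq : Function.Surjective q := fun z => by
    obtain ⟨x, hx⟩ := (e2 z.1).1 z.2
    exact ⟨x, Subtype.ext hx⟩
  have hexq : Function.Exact (LinearMap.ker (P.d (i + 1) (i + 1 + 1)).hom).subtype q := fun x => by
    rw [Subtype.ext_iff]
    exact ⟨fun hx => ⟨⟨x, hx⟩, rfl⟩, fun ⟨z, hz⟩ => hz ▸ z.2⟩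
  haveI := hZ (i + 1 + 1)
  have hinj : Function.Injective ((LinearMap.ker (P.d (i + 1) (i + 1 + 1)).hom).subtype.rTensor N) :=
    Groth.L02.universallyInjective_of_flat_coker _ q Subtype.val_injective hexq hq N
  intro z
  refine Iff.trans ?_ (rTensor_exact N hexg hg z)
  rw [show (P.d i (i + 1)).hom = (LinearMap.ker (P.d (i + 1) (i + 1 + 1)).hom).subtype ∘ₗ g from
    LinearMap.ext fun _ => rfl, LinearMap.rTensor_comp, LinearMap.comp_apply]
  exact map_eq_zero_iff _ hinj

/-- tensoring with `N` on complexes -/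
noncomputable abbrev tF (N : ModuleCat.{u} A) : DRing.Cx A ⥤ DRing.Cx A :=
  (tensorRight N).mapHomologicalComplex (ComplexShape.up ℤ)

theorem HH_iso_zero {K : Dual.D A} {P : DRing.Cx A} (e : DRing.toD P ≅ K) (i : ℤ) :
    IsZero ((Groth.L02.PC.HH i).obj K) ↔ IsZero (P.homology i) :=
  ((Groth.L02.PC.HH i).mapIso e).isZero_iff.symm.trans (Groth.L02.PC.isZero_HH_Q_iff P i)

theorem flat_coneX {P K : DRing.Cx A} (f : P ⟶ K) (hP : DRing.TermwiseFlat P) (hK : DRing.TermwiseFlat K) :
    DRing.TermwiseFlat (mappingCone f) := fun i => by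
  haveI := hP (i + 1); haveI := hK i
  haveI := Groth.L00.KFlat.flat_prod (A := A) (P.X (i + 1)) (K.X i)
  exact Module.Flat.of_linearEquiv (Groth.L02.PC.coneEquiv f i (i + 1) rfl)

theorem vanishesAbove_cone {P K : DRing.Cx A} (f : P ⟶ K) {b c : ℤ} (hP : DRing.VanishesAbove P b)
    (hK : DRing.VanishesAbove K c) : DRing.VanishesAbove (mappingCone f) (max (b - 1) c) := fun i hi => by
  haveI := ModuleCat.subsingleton_of_isZero (hP (i + 1) (by omega))
  haveI := ModuleCat.subsingleton_of_isZero (hK i (by omega))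
  haveI := (Groth.L02.PC.coneEquiv f i (i + 1) rfl).toEquiv.subsingleton
  exact ModuleCat.isZero_of_subsingleton _

/-- tensoring a quasi-isomorphism of bounded above flat complexes -/
theorem quasiIso_tF {P K : DRing.Cx A} (f : P ⟶ K) [QuasiIso f] {b c : ℤ}
    (hPb : DRing.VanishesAbove P b) (hP : DRing.TermwiseFlat P)
    (hKb : DRing.VanishesAbove K c) (hK : DRing.TermwiseFlat K) (N : ModuleCat.{u} A) :
    QuasiIso ((tF N).map f) := by
  have hC : ∀ i, IsZero ((mappingCone f).homology i) := fun i => by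
    have h := (Groth.L02.PC.isApprox_Q_map_iff f i).1
      ⟨fun j _ => inferInstance, inferInstance⟩ i le_rfl
    exact h
  have h2 : ∀ i, IsZero ((mappingCone ((tF N).map f)).homology i) := fun i =>
    ((tz_of_exact _ _ (vanishesAbove_cone f hPb hKb) (flat_coneX f hP hK) hC i) N).of_iso
      (asIso (HomologicalComplex.homologyMap (mappingCone.mapHomologicalComplexIso f (tensorRight N)).hom i)).symm
  rw [← DerivedCategory.isIso_Q_map_iff_quasiIso, DerivedCategory.isIso_iff]
  intro i
  have h := (Groth.L02.PC.isApprox_Q_map_iff ((tF N).map f) (i - 1)).2 fun j _ => h2 j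
  exact h.1 i (by omega)

theorem tz_congr {P K : DRing.Cx A} (f : P ⟶ K) [QuasiIso f] {b c : ℤ}
    (hPb : DRing.VanishesAbove P b) (hP : DRing.TermwiseFlat P)
    (hKb : DRing.VanishesAbove K c) (hK : DRing.TermwiseFlat K) (i : ℤ) : TZ P i ↔ TZ K i := by
  refine forall_congr' fun N => ?_
  haveI := quasiIso_tF f hPb hP hKb hK N
  exact (asIso (HomologicalComplex.homologyMap ((tF N).map f) i)).isZero_iff

theorem flat_of_free {P : DRing.Cx A} (h : ∀ i, Module.Free A (P.X i)) : DRing.TermwiseFlat P := fun i => by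
  haveI := h i; infer_instance

/-- isomorphic bounded above flat complexes have the same test -/
theorem tz_iff_of_iso {P K : DRing.Cx A} (e : DRing.toD P ≅ DRing.toD K) {b c : ℤ}
    (hPb : DRing.VanishesAbove P b) (hP : DRing.TermwiseFlat P)
    (hKb : DRing.VanishesAbove K c) (hK : DRing.TermwiseFlat K) (i : ℤ) : TZ P i ↔ TZ K i := by
  have hn : Groth.L02.PC.LEH (DRing.toD P) b := fun i hi => (Groth.L02.PC.isZero_HH_Q_iff P i).2
    ((P.exactAt_iff_isZero_homology i).1 (HomologicalComplex.ExactAt.of_isZero (hPb i hi)))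
  obtain ⟨Q, hQb, hQf, hQk, ⟨eQ⟩⟩ := Groth.L02.PC.exists_free_rep hn
  haveI := hQk
  obtain ⟨f, hf⟩ := Groth.L02.PC.exists_chainMap eQ.hom
  obtain ⟨g, hg⟩ := Groth.L02.PC.exists_chainMap (eQ ≪≫ e).hom
  haveI : QuasiIso f := (DerivedCategory.isIso_Q_map_iff_quasiIso _ f).1 (hf ▸ inferInstance)
  haveI : QuasiIso g := (DerivedCategory.isIso_Q_map_iff_quasiIso _ g).1 (hg ▸ inferInstance)
  exact (tz_congr f hQb (flat_of_free hQf) hPb hP i).symm.trans (tz_congr g hQb (flat_of_free hQf) hKb hK i)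

/-- exactness after tensoring makes the cokernel flat -/
theorem flat_coker_of_tz {P : DRing.Cx A} (hP : DRing.TermwiseFlat P) (a : ℤ) (h : TZ P (a - 1)) :
    Module.Flat A (P.X a ⧸ LinearMap.range (P.d (a - 1) a).hom) := by
  haveI := hP a
  refine Groth.L00.TorAmp.flat_of_shifted_exact (P.d (a - 1 - 1) (a - 1)).hom (P.d (a - 1) a).hom
    (LinearMap.range (P.d (a - 1) a).hom).mkQ
    (LinearMap.exact_map_mkQ_range _) (Submodule.mkQ_surjective _) ?_ fun I _ =>
      (tensor_exact_iff P (ModuleCat.of A (A ⧸ I)) (a - 1 - 1) (a - 1) a (by omega) (by omega)).1 (h _)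
  show ((P.d (a - 1 - 1) (a - 1)) ≫ P.d (a - 1) a).hom = 0
  rw [P.d_comp_d]; rfl

theorem truncGE_X_iso (P : DRing.Cx A) (a : ℤ) :
    Nonempty ((P.truncGE a).X a ≅ ModuleCat.of A (P.X a ⧸ LinearMap.range (P.d (a - 1) a).hom)) :=
  ⟨CochainComplex.truncGEXIsoOpcycles P a ≪≫
    IsColimit.coconePointUniqueUpToIso (P.opcyclesIsCokernel (a - 1) a (by simp))
      (ModuleCat.cokernelIsColimit (P.d (a - 1) a))⟩

theorem vanishesOutside_truncGE {P : DRing.Cx A} (a b : ℤ) (hPb : DRing.VanishesAbove P b) :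
    DRing.VanishesOutside (P.truncGE a) a b := by
  intro i hi
  by_cases hia : i < a
  · exact CochainComplex.isZero_of_isStrictlyGE (P.truncGE a) a i hia
  · haveI : P.IsStrictlyLE b := (CochainComplex.isStrictlyLE_iff P b).2 hPb
    haveI : (P.truncGE a).IsStrictlyLE b := inferInstance
    exact CochainComplex.isZero_of_isStrictlyLE (P.truncGE a) b i (by omega)

theorem toD_truncGE_iso {P : DRing.Cx A} (a : ℤ) (h : ∀ i, i < a → IsZero (P.homology i)) :
    Nonempty (DRing.toD P ≅ DRing.toD (P.truncGE a)) := by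
  haveI : P.IsGE a := (CochainComplex.isGE_iff P a).2 fun i hi =>
    (P.exactAt_iff_isZero_homology i).2 (h i hi)
  exact ⟨asIso (DerivedCategory.Q.map (P.πTruncGE a))⟩

theorem flat_truncGE {P : DRing.Cx A} (hP : DRing.TermwiseFlat P) (a : ℤ) (h : TZ P (a - 1)) :
    DRing.TermwiseFlat (P.truncGE a) := fun i => by
  rcases lt_trichotomy i a with hi | rfl | hi
  · haveI := ModuleCat.subsingleton_of_isZero (CochainComplex.isZero_of_isStrictlyGE (P.truncGE a) a i hi)
    exact inferInstance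
  · obtain ⟨e⟩ := truncGE_X_iso P i
    haveI := flat_coker_of_tz hP i h
    exact Module.Flat.of_linearEquiv e.toLinearEquiv
  · haveI := hP i
    exact Module.Flat.of_linearEquiv (CochainComplex.truncGEXIso P a i hi).toLinearEquiv

theorem tz_of_vanishesBelow {P : DRing.Cx A} {a : ℤ} (h : ∀ i, i < a → IsZero (P.X i)) (i : ℤ) (hi : i < a) :
    TZ P i := fun N =>
  (HomologicalComplex.exactAt_iff_isZero_homology _ i).1
    (HomologicalComplex.ExactAt.of_isZero ((tensorRight N).map_isZero (h i hi)))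

theorem tz_homology {P : DRing.Cx A} {i : ℤ} (h : TZ P i) : IsZero (P.homology i) := by
  rw [isZero_homology_iff_exact P (i - 1) i (i + 1) (by omega) rfl]
  exact Groth.L00.TorAmp.exact_of_rTensor_self _ _
    ((tensor_exact_iff P (ModuleCat.of A A) (i - 1) i (i + 1) (by omega) rfl).1 (h _))

/-- tor amplitude through any bounded above flat representative -/
theorem amp_iff {K : Dual.D A} {P : DRing.Cx A} (e : DRing.toD P ≅ K) {B : ℤ}
    (hPb : DRing.VanishesAbove P B) (hP : DRing.TermwiseFlat P) (a b : ℤ) :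
    DRing.HasTorAmplitudeIn A a b K ↔
      (∀ i, i < a → TZ P i) ∧ ∀ i, b < i → IsZero ((Groth.L02.PC.HH i).obj K) := by
  constructor
  · rintro ⟨E, hE, hEf, ⟨eE⟩⟩
    refine ⟨fun i hi => (tz_iff_of_iso (e ≪≫ eE.symm) hPb hP (c := b) (fun j hj => hE j (Or.inr hj)) hEf i).2
      (tz_of_vanishesBelow (fun j hj => hE j (Or.inl hj)) i hi), fun i hi => ?_⟩
    exact (HH_iso_zero eE i).2
      ((E.exactAt_iff_isZero_homology i).1 (HomologicalComplex.ExactAt.of_isZero (hE i (Or.inr hi))))
  · rintro ⟨h1, h2⟩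
    obtain ⟨Q, hQb, hQf, -, ⟨eQ⟩⟩ := Groth.L02.PC.exists_free_rep (K := K) (n := b) h2
    have h1' : ∀ i, i < a → TZ Q i := fun i hi =>
      (tz_iff_of_iso (e ≪≫ eQ.symm) hPb hP hQb (flat_of_free hQf) i).1 (h1 i hi)
    obtain ⟨e'⟩ := toD_truncGE_iso a fun i hi => tz_homology (h1' i hi)
    exact ⟨Q.truncGE a, vanishesOutside_truncGE a b hQb, flat_truncGE (flat_of_free hQf) a (h1' _ (by omega)),
      ⟨e'.symm ≪≫ eQ⟩⟩

end Groth.L10.DR
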