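import Groth.Agent.L10.DRing.ProjAmp
import Groth.Agent.L04.RegularPd
import Mathlib.Algebra.Category.ModuleCat.Ext.Basic

/-!
Modules of finite projective dimension in the derived category.
-/

set_option autoImplicit false
set_option backward.isDefEq.respectTransparency false
set_option backward.isDefEq.respectTransparency.types false

universe u

open CategoryTheory CategoryTheory.Limits CategoryTheory.Pretriangulated

attribute [local instance] HasDerivedCategory.standard

namespace Groth.L10.DR

variable {A : Type u} [CommRing A]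

theorem projRep_of_pd {M : Type u} [AddCommGroup M] [Module A M] (d : ℕ)
    (h : HasProjectiveDimensionLT (ModuleCat.of A M) (d + 1)) :
    ∃ P : DRing.Cx A, DRing.VanishesOutside P (-(d : ℤ)) 0 ∧ (∀ i : ℤ, Module.Projective A (P.X i)) ∧
      Nonempty (DRing.toD P ≅ Dual.inD A M) := by
  refine exists_projective_rep (fun n hn => ?_) fun N _ _ => ?_
  · exact ModuleCat.subsingleton_of_isZero (isZero_HH_single 0 n (ModuleCat.of A M) (by omega))
  · haveI : Subsingleton (Abelian.Ext (ModuleCat.of A M) (ModuleCat.of A N) (d + 1)) :=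
      subsingleton_of_forall_eq 0 fun e => (hasProjectiveDimensionLT_iff _ _).1 h (d + 1) le_rfl e
    rw [show -(-(d : ℤ)) + 1 = ((d + 1 : ℕ) : ℤ) by omega]
    exact (Abelian.Ext.homEquiv (X := ModuleCat.of A M) (Y := ModuleCat.of A N) (n := d + 1)).symm.subsingleton

theorem amp_of_pd {M : Type u} [AddCommGroup M] [Module A M] (d : ℕ)
    (h : HasProjectiveDimensionLT (ModuleCat.of A M) (d + 1)) :
    DRing.HasTorAmplitudeIn A (-(d : ℤ)) 0 (Dual.inD A M) := by
  obtain ⟨P, hv, hP, e⟩ := projRep_of_pd d h
  exact ⟨P, hv, fun i => by haveI := hP i; infer_instance, e⟩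

theorem perfectModule_of_regular [IsRegularRing A] (M : Type u) [AddCommGroup M] [Module A M]
    [Module.Finite A M] : DRing.IsPerfectModule A M := by
  obtain ⟨d, hd⟩ := Groth.L04.exists_hasProjectiveDimensionLE_of_isRegularRing (R := A) M
  exact perfect_of_pc'_amp (pcModule'_noetherian (A := A) M) (amp_of_pd d hd)

end Groth.L10.DR
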