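import Groth.Agent.L10.DRing.SplitTrunc
import Groth.Agent.L10.DRing.PD
import Groth.Agent.L10.DRing.Devissage
import Groth.Agent.S0563
import Groth.Agent.S5791
import Groth.Agent.S5804

/-! Morphisms across a cohomology gap over a regular ring of finite dimension. -/

universe u

open CategoryTheory CategoryTheory.Limits HomologicalComplex CategoryTheory.Pretriangulated

attribute [local instance] HasDerivedCategory.standard

set_option backward.defeqAttrib.useBackward true
set_option backward.isDefEq.respectTransparency false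
namespace Groth.L10.RegularGap

variable {R : Type u} [CommRing R]

local notation "tt" => DerivedCategory.TStructure.t

theorem pd_le [IsNoetherianRing R] (hreg : ∀ p : PrimeSpectrum R, IsRegularLocalRing (Localization.AtPrime p.asIdeal))
    (d : ℕ) (hd : ringKrullDim R = d) (M : Type u) [AddCommGroup M] [Module R M] :
    HasProjectiveDimensionLT (ModuleCat.of R M) (d + 1) := by
  refine Groth.Agent.S5804.result R d (fun I => ?_) M
  refine (Groth.Agent.S5791.result R (R ⧸ I) d).2 fun p => ?_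
  have := hreg p
  have h1 : ringKrullDim (Localization.AtPrime p.asIdeal) ≤ (d : WithBot ℕ∞) := by
    rw [← hd, IsLocalization.AtPrime.ringKrullDim_eq_height p.asIdeal]
    exact Ideal.height_le_ringKrullDim_of_ne_top p.isPrime.ne_top
  obtain ⟨e, he⟩ : ∃ e : ℕ, ringKrullDim (Localization.AtPrime p.asIdeal) = e := by
    rw [IsLocalization.AtPrime.ringKrullDim_eq_height p.asIdeal] at h1 ⊢
    obtain ⟨e, he⟩ := ENat.ne_top_iff_exists.1 (ne_top_of_le_ne_top (ENat.coe_ne_top d) (WithBot.coe_le_coe.1 h1))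
    exact ⟨e, by rw [← he]; rfl⟩
  rw [he] at h1
  have hle : e ≤ d := by exact_mod_cast h1
  have := Groth.Agent.S0563.result (Localization.AtPrime p.asIdeal) e he (LocalizedModule p.asIdeal.primeCompl (R ⧸ I))
  exact hasProjectiveDimensionLT_of_ge _ (e + 1) (d + 1) (by omega)

theorem hom_eq_zero [IsNoetherianRing R]
    (hreg : ∀ p : PrimeSpectrum R, IsRegularLocalRing (Localization.AtPrime p.asIdeal))
    (d : ℕ) (hd : ringKrullDim R = d) (K L : Dual.D R) (k : ℤ) (hK : (tt).IsGE K (k + 1))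
    (hb : ∃ b, K.IsLE b) (hL : (tt).IsLE L (k - d)) (f : K ⟶ L) : f = 0 := by
  obtain ⟨b, hb⟩ := hb
  have hGE : DerivedCategory.IsGE K (k + 1) := hK
  have hGE' : DerivedCategory.IsGE K (k - d) := (tt).isGE_of_ge K (k - d) (k + 1)
  let P : ObjectProperty (Dual.D R) := fun X =>
    ∀ (M : Type u) [AddCommGroup M] [Module R M] (x : X ⟶ (Dual.inD R M)⟦(-(k - d))⟧), x = 0
  have : P.IsClosedUnderIsomorphisms := ⟨fun e h M _ _ x => (cancel_epi e.hom).1 (by rw [h M (e.hom ≫ x), comp_zero])⟩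
  obtain ⟨-, hY, -⟩ := SplitTrunc.core K (k - d) b (Groth.L10.DR.of_homology P
    (fun Z hZ M _ _ x => hZ.eq_of_src _ _)
    (fun T hT h1 h3 M _ _ x => by
      obtain ⟨χ, hχ⟩ := Triangle.yoneda_exact₂ T hT x (h1 M _)
      rw [hχ, h3 M χ, comp_zero])
    K (k + 1) b hGE hb fun i hi hi' M _ _ x => by
      have hi2 : (d : ℤ) + 1 ≤ i - (k - d) := by omega
      let N := (Groth.L02.PC.HH i).obj K
      obtain ⟨Q, hQ1, hQ2, ⟨eQ⟩⟩ := Groth.L10.DR.projRep_of_pd (M := N) d (pd_le hreg d hd N)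
      have := Groth.L10.DR.subsingleton_of_projAmp hQ1 hQ2 eQ M (i - (k - d)) (by omega)
      let e1 := (shiftFunctorAdd' (Dual.D R) (i - (k - d)) (-i) (-(k - d)) (by omega)).app (Dual.inD R M)
      obtain ⟨y, hy⟩ := (shiftFunctor (Dual.D R) (-i)).map_surjective ((Groth.L10.DR.singleShift i N).hom ≫ x ≫ e1.hom)
      have hy0 : y = 0 := this.elim _ _
      rw [hy0, Functor.map_zero] at hy
      rw [← cancel_epi (Groth.L10.DR.singleShift i N).hom, ← cancel_mono e1.hom]
      simpa using hy.symm)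
  exact hY L hL f

theorem subsingleton_hom [IsNoetherianRing R]
    (hreg : ∀ p : PrimeSpectrum R, IsRegularLocalRing (Localization.AtPrime p.asIdeal))
    (d : ℕ) (hd : ringKrullDim R = d) (K L : Dual.D R) (hKb : ∃ b : ℤ, ∀ i : ℤ, b < i → Subsingleton (Dual.HD R K i))
    (k : ℤ) (hK : ∀ i : ℤ, i ≤ k → Subsingleton (Dual.HD R K i))
    (hL : ∀ i : ℤ, k - d + 1 ≤ i → Subsingleton (Dual.HD R L i)) : Subsingleton (K ⟶ L) := by
  have h1 : DerivedCategory.IsGE K (k + 1) :=
    (DerivedCategory.isGE_iff K (k + 1)).2 fun i hi => ModuleCat.isZero_of_iff_subsingleton.2 (hK i (by omega))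
  have h2 : DerivedCategory.IsLE L (k - d) :=
    (DerivedCategory.isLE_iff L (k - d)).2 fun i hi => ModuleCat.isZero_of_iff_subsingleton.2 (hL i (by omega))
  exact subsingleton_of_forall_eq 0 (hom_eq_zero hreg d hd K L k h1 (SplitTrunc.isLE_of_bound K hKb) h2)

theorem split_gap [IsNoetherianRing R]
    (hreg : ∀ p : PrimeSpectrum R, IsRegularLocalRing (Localization.AtPrime p.asIdeal))
    (d : ℕ) (hd1 : 1 ≤ d) (hd : ringKrullDim R = d) (K : Dual.D R) (hKb : ∃ b, K.IsLE b) (k : ℤ)
    (hgap : ∀ i : ℤ, k - d + 2 ≤ i → i ≤ k → Subsingleton (Dual.HD R K i)) :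
    ∃ e : K ≅ ((tt).truncLT (k - d + 2)).obj K ⊞ ((tt).truncGE (k + 1)).obj K,
      ((tt).truncLTι (k - d + 2)).app K ≫ e.hom = biprod.inl ∧
        e.hom ≫ biprod.snd = ((tt).truncGEπ (k + 1)).app K := by
  obtain ⟨b, hb⟩ := hKb
  let B := ((tt).truncGE (k - d + 2)).obj K
  have hGE : DerivedCategory.IsGE B (k - d + 2) := inferInstance
  have hB : DerivedCategory.IsGE B (k + 1) := (DerivedCategory.isGE_iff B (k + 1)).2 fun i hi => by
    by_cases h : i < k - d + 2
    · exact DerivedCategory.isZero_of_isGE B _ i h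
    · have := Groth.L10.isIso_H_π (k - d + 2) i (by omega) K
      exact (ModuleCat.isZero_of_iff_subsingleton.2 (hgap i (by omega) (by omega))).of_iso
        (asIso ((DerivedCategory.homologyFunctor (ModuleCat.{u} R) i).map (((tt).truncGEπ (k - d + 2)).app K))).symm
  have hge : (tt).IsGE B (k + 1) := hB
  let C := ((tt).truncGE (k + 1)).obj K
  have hgC : (tt).IsGE C (k - d + 2) := (tt).isGE_of_ge C (k - d + 2) (k + 1)
  let u : B ⟶ C := (tt).descTruncGE (((tt).truncGEπ (k + 1)).app K) (k - d + 2)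
  let v : C ⟶ B := (tt).descTruncGE (((tt).truncGEπ (k - d + 2)).app K) (k + 1)
  have hu : ((tt).truncGEπ (k - d + 2)).app K ≫ u = ((tt).truncGEπ (k + 1)).app K := (tt).π_descTruncGE _ _
  have hv : ((tt).truncGEπ (k + 1)).app K ≫ v = ((tt).truncGEπ (k - d + 2)).app K := (tt).π_descTruncGE _ _
  let i : B ≅ C := ⟨u, v, (tt).from_truncGE_obj_ext (by rw [reassoc_of% hu, hv]; exact (Category.comp_id _).symm),
    (tt).from_truncGE_obj_ext (by rw [reassoc_of% hv, hu]; exact (Category.comp_id _).symm)⟩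
  obtain ⟨e, he1, he2⟩ := SplitTrunc.split_of_core K (k - d + 2) fun f => hom_eq_zero hreg d hd _ _ k hB
    ⟨_, SplitTrunc.isLE_truncGE K b (k - d + 2)⟩ (by
      have : DerivedCategory.IsLE (((tt).truncLT (k - d + 2)).obj K) (k - d + 2 - 1) := inferInstance
      exact (tt).isLE_shift (((tt).truncLT (k - d + 2)).obj K) (k - d + 2 - 1) 1 (k - d) (by omega)) f
  refine ⟨e ≪≫ biprod.mapIso (Iso.refl _) i, ?_, ?_⟩
  · simp [reassoc_of% he1]
  · simp [← hu, reassoc_of% he2, i]

end Groth.L10.RegularGap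

namespace Groth.L10.RegularGap

variable {R : Type u} [CommRing R]

theorem isLE_of_perfect {K : Dual.D R} (h : DRing.IsPerfect R K) : ∃ b, K.IsLE b := by
  obtain ⟨E, a, b, hv, -, ⟨e⟩⟩ := h
  have : E.IsStrictlyLE b := (CochainComplex.isStrictlyLE_iff _ _).2 fun i hi => hv i (Or.inr hi)
  refine ⟨b, (DerivedCategory.isLE_iff K b).2 fun i hi => ?_⟩
  exact (DerivedCategory.isZero_of_isLE (DRing.toD E) b i hi).of_iso
    ((DerivedCategory.homologyFunctor (ModuleCat.{u} R) i).mapIso e.symm)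

end Groth.L10.RegularGap
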