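import Groth.Agent.L10.DRing.Amp
import Groth.Agent.L02.PC.Local

/-!
Pseudo-coherence of summands; perfect = pseudo-coherent of finite tor amplitude.
-/

set_option autoImplicit false
set_option backward.isDefEq.respectTransparency false
set_option backward.isDefEq.respectTransparency.types false

universe u

open CategoryTheory CategoryTheory.Limits CategoryTheory.Pretriangulated MonoidalCategory CochainComplex

attribute [local instance] HasDerivedCategory.standard

namespace Groth.L10.DR

variable {A : Type u} [CommRing A]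

open Groth.L02.PC in
theorem LEH_retract {K M : Dual.D A} (r : Retract K M) {n : ℤ} (h : LEH M n) : LEH K n := fun i hi => by
  rw [IsZero.iff_id_eq_zero]
  have := ((HH i).map r.i) ≫= (h i hi).eq_of_src ((HH i).map r.r) 0
  rw [comp_zero, ← Functor.map_comp, r.retract, CategoryTheory.Functor.map_id] at this
  exact this

open Groth.L02.PC in
/-- an `n + 1`-approximated object with finite `n`-th cohomology of the cone -/
theorem pc_of_finite_HH {K : Dual.D A} {n : ℤ} (h : LEH K n) (hf : Module.Finite A ((HH n).obj K)) :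
    DRing.IsPseudoCoherent A n K := by
  obtain ⟨P, hP, -, -, ⟨e⟩⟩ := exists_free_rep h
  have : Module.Finite A (P.homology n) :=
    haveI := hf
    Module.Finite.equiv (((HH n).mapIso e).symm ≪≫
      (DerivedCategory.homologyFunctorFactors (ModuleCat.{u} A) n).app P).toLinearEquiv
  exact pc_of_iso e (pc_of_finite P n fun i hi => (HH_iso_zero e i).1 (h i hi))

open Groth.L02.PC in
theorem pc_biprod_iff_aux (K L : Dual.D A) [HasBinaryBiproduct K L] (m : ℤ)
    (h : DRing.IsPseudoCoherent A m (K ⊞ L)) :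
    DRing.IsPseudoCoherent A m K ∧ DRing.IsPseudoCoherent A m L := by
  obtain ⟨n, hn⟩ := exists_LEH h
  let rK : Retract K (K ⊞ L) := ⟨biprod.inl, biprod.fst, biprod.inl_fst⟩
  let rL : Retract L (K ⊞ L) := ⟨biprod.inr, biprod.snd, biprod.inr_snd⟩
  suffices ∀ k : ℕ, ∀ p : ℤ, m ≤ p → n < p + k →
      DRing.IsPseudoCoherent A p K ∧ DRing.IsPseudoCoherent A p L from
    this (n + 1 - m).toNat m le_rfl (by omega)
  intro k
  induction k with
  | zero =>
    intro p _ hp
    exact ⟨pc_mono (by omega) (pc_of_LEH (LEH_retract rK hn)), pc_mono (by omega) (pc_of_LEH (LEH_retract rL hn))⟩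
  | succ k ih =>
    intro p hmp hp
    obtain ⟨hK, hL⟩ := ih (p + 1) (by omega) (by omega)
    obtain ⟨EK, aK, bK, α, vK, fK, aprK⟩ := (pc_iff _ _).1 hK
    obtain ⟨EL, aL, bL, β, vL, fL, aprL⟩ := (pc_iff _ _).1 hL
    let X := DRing.toD EK ⊞ DRing.toD EL
    let γ : X ⟶ K ⊞ L := biprod.map α β
    obtain ⟨C, g, δ, hT⟩ := distinguished_cocone_triangle γ
    haveI : ∀ i, PreservesBinaryBiproducts (HH (A := A) i) := fun i =>
      preservesBinaryBiproducts_of_preservesBiproducts _
    have hγ : IsApprox γ (p + 1) := by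
      have e : ∀ i, (HH i).map γ = (((HH (A := A) i)).mapBiprod (DRing.toD EK) (DRing.toD EL)).hom ≫
          biprod.map ((HH i).map α) ((HH i).map β) ≫ ((HH (A := A) i).mapBiprod K L).inv := fun i => by
        simp only [← Category.assoc]
        rw [Iso.eq_comp_inv]
        refine biprod.hom_ext _ _ ?_ ?_ <;> simp [γ, ← Functor.map_comp]
      refine ⟨fun i hi => ?_, ?_⟩
      · haveI := aprK.1 i hi; haveI := aprL.1 i hi
        haveI : IsIso (biprod.map ((HH i).map α) ((HH i).map β)) :=
          (biprod.mapIso (asIso ((HH i).map α)) (asIso ((HH i).map β))).isIso_hom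
        rw [e]; infer_instance
      · haveI := aprK.2; haveI := aprL.2
        rw [e]; infer_instance
    have hC : LEH C p := fun i hi => (isApprox_iff (Triangle.mk γ g δ) hT (p + 1)).1 hγ i (by omega)
    have hX : DRing.IsPseudoCoherent A (p + 1) X :=
      pc_second _ (binaryBiproductTriangle_distinguished (DRing.toD EK) (DRing.toD EL)) (p + 1)
        (pc_of_bounded_free vK fK _) (pc_of_bounded_free vL fL _)
    have hCpc : DRing.IsPseudoCoherent A p C := pc_third (Triangle.mk γ g δ) hT p hX (pc_mono hmp h)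
    haveI := pc_finite hCpc hC
    have key : ∀ {E K' : Dual.D A} (α' : E ⟶ K') (rE : Retract E X) (rK' : Retract K' (K ⊞ L)),
        α' ≫ rK'.i = rE.i ≫ γ → γ ≫ rK'.r = rE.r ≫ α' → IsApprox α' (p + 1) →
        (∀ q, DRing.IsPseudoCoherent A q E) → DRing.IsPseudoCoherent A p K' := by
      intro E K' α' rE rK' c1 c2 hα hE
      obtain ⟨C', g', δ', hT'⟩ := distinguished_cocone_triangle α'
      let φ := completeDistinguishedTriangleMorphism (Triangle.mk α' g' δ') (Triangle.mk γ g δ) hT' hT
        rE.i rK'.i c1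
      let ψ := completeDistinguishedTriangleMorphism (Triangle.mk γ g δ) (Triangle.mk α' g' δ') hT hT'
        rE.r rK'.r c2
      have hiso : IsIso (φ.hom₃ ≫ ψ.hom₃) := by
        haveI : IsIso (φ ≫ ψ).hom₁ := by
          rw [show (φ ≫ ψ).hom₁ = 𝟙 E from rE.retract]; exact inferInstanceAs (IsIso (𝟙 E))
        haveI : IsIso (φ ≫ ψ).hom₂ := by
          rw [show (φ ≫ ψ).hom₂ = 𝟙 K' from rK'.retract]; exact inferInstanceAs (IsIso (𝟙 K'))
        exact isIso₃_of_isIso₁₂ (φ ≫ ψ) hT' hT' inferInstance inferInstance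
      let e := asIso (φ.hom₃ ≫ ψ.hom₃)
      let rC : Retract C' C := ⟨φ.hom₃, ψ.hom₃ ≫ e.inv, by
        rw [← Category.assoc]; exact e.hom_inv_id⟩
      have : Module.Finite A ((HH p).obj C') := by
        refine Module.Finite.of_surjective ((HH p).map rC.r).hom fun x => ⟨(HH p).map rC.i x, ?_⟩
        rw [← ConcreteCategory.comp_apply, ← Functor.map_comp, rC.retract, CategoryTheory.Functor.map_id]
        rfl
      refine pc_second (Triangle.mk α' g' δ') hT' p (hE p)
        (pc_of_finite_HH (LEH_retract rC hC) this)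
    refine ⟨key α ⟨biprod.inl, biprod.fst, biprod.inl_fst⟩ rK (by simp [γ, rK]) (by simp [γ, rK]) aprK
        (pc_of_bounded_free vK fK),
      key β ⟨biprod.inr, biprod.snd, biprod.inr_snd⟩ rL (by simp [γ, rL]) (by simp [γ, rL]) aprL
        (pc_of_bounded_free vL fL)⟩

open Groth.L02.PC in
/-- a bounded above representative by finite free modules with the optimal bound -/
theorem exists_finiteFree_le {K : Dual.D A} (h : ∀ m, DRing.IsPseudoCoherent A m K) (n : ℤ) (hn : LEH K n) :
    ∃ P : DRing.Cx A, DRing.VanishesAbove P n ∧ DRing.TermwiseFiniteFree P ∧ Nonempty (DRing.toD P ≅ K) := by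
  have : K.IsLE n := (DerivedCategory.isLE_iff K n).2 hn
  obtain ⟨L, hL, ⟨e⟩⟩ := DerivedCategory.exists_iso_Q_obj_of_isLE K n
  obtain ⟨P, f, hP, hPF, hf⟩ := exists_finite_free_resolution L n ((vanishesAbove_iff L n).2 hL)
    fun W a φ i hW hWF _ hex => by
      have hpc : DRing.IsPseudoCoherent A i (DRing.toD (mappingCone φ)) :=
        pc_third _ (mappingCone_distinguished φ) i (pc_of_bounded_free hW hWF (i + 1)) (pc_of_iso e (h i))
      have := pc_finite hpc fun j hj => (isZero_HH_Q_iff _ j).2 (hex j hj)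
      have h' : Module.Finite A
          ((DerivedCategory.Q ⋙ DerivedCategory.homologyFunctor (ModuleCat.{u} A) i).obj (mappingCone φ)) := this
      exact Module.Finite.equiv
        ((DerivedCategory.homologyFunctorFactors _ i).app (mappingCone φ)).toLinearEquiv
  exact ⟨P, hP, hPF, ⟨asIso (DerivedCategory.Q.map f) ≪≫ e.symm⟩⟩

theorem finiteProjective_truncGE {P : DRing.Cx A} (hP : DRing.TermwiseFiniteProjective P) (a : ℤ)
    (h : Module.Flat A (P.X a ⧸ LinearMap.range (P.d (a - 1) a).hom)) :
    DRing.TermwiseFiniteProjective (P.truncGE a) := fun i => by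
  rcases lt_trichotomy i a with hi | rfl | hi
  · haveI := ModuleCat.subsingleton_of_isZero (CochainComplex.isZero_of_isStrictlyGE (P.truncGE a) a i hi)
    exact ⟨inferInstance, inferInstance⟩
  · obtain ⟨e⟩ := truncGE_X_iso P i
    haveI := h
    haveI := (hP i).1; haveI := (hP i).2; haveI := (hP (i - 1)).1
    haveI : Module.FinitePresentation A (P.X i) := Module.finitePresentation_of_projective A (P.X i)
    haveI : Module.FinitePresentation A (P.X i ⧸ LinearMap.range (P.d (i - 1) i).hom) :=
      Module.finitePresentation_of_surjective _ (Submodule.mkQ_surjective _)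
        (by rw [Submodule.ker_mkQ]; exact LinearMap.range_eq_map (P.d (i - 1) i).hom ▸
              (Module.Finite.fg_top (R := A) (M := P.X (i - 1))).map _)
    haveI : Module.Projective A (P.X i ⧸ LinearMap.range (P.d (i - 1) i).hom) :=
      Module.Flat.projective_of_finitePresentation
    exact ⟨Module.Finite.equiv e.toLinearEquiv.symm, Module.Projective.of_equiv e.toLinearEquiv.symm⟩
  · haveI := (hP i).1; haveI := (hP i).2
    exact ⟨Module.Finite.equiv (CochainComplex.truncGEXIso P a i hi).toLinearEquiv.symm,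
      Module.Projective.of_equiv (CochainComplex.truncGEXIso P a i hi).toLinearEquiv.symm⟩

/-- pseudo-coherent of tor amplitude `[a, b]`: a finite projective model in `[a, b]` -/
theorem exists_finiteProjective {K : Dual.D A} (hK : DRing.IsPseudoCoherent' A K) {a b : ℤ}
    (h : DRing.HasTorAmplitudeIn A a b K) :
    ∃ E : DRing.Cx A, DRing.VanishesOutside E a b ∧ DRing.TermwiseFiniteProjective E ∧
      Nonempty (DRing.toD E ≅ K) := by
  obtain ⟨P, hPb, hPf, ⟨e⟩⟩ := exists_finiteFree_le (fun m => Groth.L02.PC.pc_of_pc' hK m) b (amp_LEH h)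
  have hflat : DRing.TermwiseFlat P := flat_of_free fun i => (hPf i).2
  have ht := ((amp_iff e hPb hflat a b).1 h).1
  obtain ⟨e'⟩ := toD_truncGE_iso a fun i hi => tz_homology (ht i hi)
  refine ⟨P.truncGE a, vanishesOutside_truncGE a b hPb,
    finiteProjective_truncGE (fun i => ⟨(hPf i).1, ?_⟩) a (flat_coker_of_tz hflat a (ht _ (by omega))),
    ⟨e'.symm ≪≫ e⟩⟩
  haveI := (hPf i).2
  infer_instance

theorem perfect_of_pc'_amp {K : Dual.D A} (hK : DRing.IsPseudoCoherent' A K) {a b : ℤ}
    (h : DRing.HasTorAmplitudeIn A a b K) : DRing.IsPerfect A K := by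
  obtain ⟨E, h1, h2, h3⟩ := exists_finiteProjective hK h
  exact ⟨E, a, b, h1, h2, h3⟩

theorem amp_of_perfect {K : Dual.D A} (h : DRing.IsPerfect A K) : DRing.HasFiniteTorDimCx A K := by
  obtain ⟨E, a, b, h1, h2, h3⟩ := h
  exact ⟨a, b, E, h1, fun i => by haveI := (h2 i).2; infer_instance, h3⟩

theorem pc'_biprod (K L : Dual.D A) [HasBinaryBiproduct K L] (h : DRing.IsPseudoCoherent' A (K ⊞ L)) :
    DRing.IsPseudoCoherent' A K ∧ DRing.IsPseudoCoherent' A L :=
  ⟨Groth.L02.PC.pc'_of_forall fun m => (pc_biprod_iff_aux K L m (Groth.L02.PC.pc_of_pc' h m)).1,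
    Groth.L02.PC.pc'_of_forall fun m => (pc_biprod_iff_aux K L m (Groth.L02.PC.pc_of_pc' h m)).2⟩

theorem perfect_biprod (K L : Dual.D A) [HasBinaryBiproduct K L] (h : DRing.IsPerfect A (K ⊞ L)) :
    DRing.IsPerfect A K ∧ DRing.IsPerfect A L := by
  obtain ⟨a, b, hab⟩ := amp_of_perfect h
  obtain ⟨hK, hL⟩ := pc'_biprod K L (Groth.L29.PerfPC.isPseudoCoherent'_of_isPerfect h)
  exact ⟨perfect_of_pc'_amp hK (amp_retract ⟨biprod.inl, biprod.fst, biprod.inl_fst⟩ hab),
    perfect_of_pc'_amp hL (amp_retract ⟨biprod.inr, biprod.snd, biprod.inr_snd⟩ hab)⟩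

end Groth.L10.DR
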