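import Groth.Agent.L10.DRing.CompletionAdic
import Groth.Agent.L04.RGamma.CompleteSeparated
import Mathlib.RingTheory.AdicCompletion.AsTensorProduct

/-! Derived completion of complexes with finite cohomology. -/

universe u

open CategoryTheory CategoryTheory.Limits MonoidalCategory DerCA
open scoped TensorProduct

attribute [local instance] HasDerivedCategory.standard

set_option backward.defeqAttrib.useBackward true
set_option backward.isDefEq.respectTransparency false
set_option linter.style.haveILetI false

namespace Groth.L10.CompletionFinite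

open Groth.L10.CompletionFormula Groth.L10.CompletionBound

variable {A : Type u} [CommRing A]

theorem mapHomologyIso_id (S : ShortComplex (ModuleCat.{u} A)) :
    (S.mapHomologyIso (𝟭 (ModuleCat.{u} A))).hom = 𝟙 _ := by
  rw [S.leftHomologyData.mapHomologyIso_eq (𝟭 _)]
  rw [← cancel_epi (ShortComplex.homologyπ (S.map (𝟭 (ModuleCat.{u} A))))]
  simp only [Iso.trans_hom, Category.comp_id]
  rw [← Category.assoc, ShortComplex.LeftHomologyData.homologyπ_comp_homologyIso_hom, Category.assoc]
  have h1 : (S.leftHomologyData.map (𝟭 _)).cyclesIso.hom = S.leftHomologyData.cyclesIso.hom :=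
    (cancel_mono S.leftHomologyData.i).1 (((S.leftHomologyData.map (𝟭 _)).cyclesIso_hom_comp_i).trans
      S.leftHomologyData.cyclesIso_hom_comp_i.symm)
  rw [h1]
  rw [← cancel_mono S.leftHomologyData.homologyIso.hom]
  simp
  rw [show S.leftHomologyData.cyclesIso.hom = 𝟙 _ from (cancel_mono S.leftHomologyData.i).1
    (S.leftHomologyData.cyclesIso_hom_comp_i.trans (Category.id_comp _).symm)]
  exact Category.id_comp _

/-- `M ⟶ M ⊗ A^` -/
noncomputable def sigma (I : Ideal A) : 𝟭 (ModuleCat.{u} A) ⟶ tensorRight (ModuleCat.of A (AdicCompletion I A)) where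
  app M := (ρ_ M).inv ≫ M ◁ (ModuleCat.ofHom (AdicCompletion.of I A))
  naturality M M' f := by
    refine ModuleCat.hom_ext (LinearMap.ext fun (x : M) => ?_)
    rfl

/-- `W ⟶ W ⊗ A^` -/
noncomputable def etaW (I : Ideal A) (W : DRing.Cx A) :
    W ⟶ (CompletionAdic.tC (ModuleCat.of A (AdicCompletion I A))).obj W :=
  (NatTrans.mapHomologicalComplex (sigma I) (ComplexShape.up ℤ)).app W

theorem preservesHomology_tensorRight (L : ModuleCat.{u} A) [Module.Flat A L] :
    (tensorRight L).PreservesHomology := by
  haveI : PreservesFiniteColimits (tensorLeft L) := PreservesColimitsOfSize.preservesFiniteColimits.{u, u} _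
  haveI : PreservesFiniteColimits (tensorRight L) :=
    preservesFiniteColimits_of_natIso (BraidedCategory.tensorLeftIsoTensorRight L)
  exact Functor.preservesHomologyOfExact _

theorem cbij_etaW [IsNoetherianRing A] (I : Ideal A) (W : DRing.Cx A) :
    Cbij I (DerivedCategory.Q.map (etaW I W)) := by
  let N : ModuleCat.{u} A := ModuleCat.of A A
  haveI : Module.Flat A N := inferInstanceAs (Module.Flat A A)
  let r : W ≅ (CompletionAdic.tC N).obj W :=
    (NatIso.mapHomologicalComplex (Functor.rightUnitor (𝟭 _) ≪≫ NatIso.ofComponents (fun M => (ρ_ M).symm)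
      (fun f => MonoidalCategory.rightUnitor_inv_naturality f) : 𝟭 (ModuleCat.{u} A) ≅ tensorRight N)
      (ComplexShape.up ℤ)).app W
  have h : etaW I W = r.hom ≫ (CompletionAdic.tau (ModuleCat.ofHom (AdicCompletion.of I N))).app W := by
    ext n : 1
    simp [etaW, r, sigma, N]
  rw [h, Functor.map_comp]
  exact Cbij.comp I (cbij_iso I _) (CompletionAdic.cbij_tau I N W)

/-- `W ⊗ A^` computes completion when the cohomology is finite -/
theorem exists_homology_equiv [IsNoetherianRing A] (I : Ideal A) [DRing.HasDerivedCompletion I] (K : Dual.D A)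
    (hK : ∀ n : ℤ, Module.Finite A (Dual.HD A K n)) (n : ℤ) :
    ∃ e : Dual.HD A ((DRing.derivedCompletion I).obj K).obj n ≃ₗ[A] AdicCompletion I (Dual.HD A K n),
      ∀ x : Dual.HD A K n,
        e (((DerivedCategory.homologyFunctor (ModuleCat.{u} A) n).map (DRing.toDerivedCompletion I K)).hom x) =
          AdicCompletion.of I (Dual.HD A K n) x := by
  have hFG : I.FG := (isNoetherianRing_iff_ideal_fg A).1 inferInstance I
  let W := DerivedCategory.Q.objPreimage K
  let ψ : DRing.toD W ≅ K := DerivedCategory.Q.objObjPreimageIso K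
  let Ah : ModuleCat.{u} A := ModuleCat.of A (AdicCompletion I A)
  haveI : Module.Flat A Ah := AdicFlatTensor.flat_completion I A
  haveI := preservesHomology_tensorRight Ah
  let W' := (CompletionAdic.tC Ah).obj W
  let θ : ∀ j, Dual.HD A K j ≃ₗ[A] (W.homology j : ModuleCat.{u} A) := fun j =>
    ((HH j).mapIso ψ.symm ≪≫ hhIso W j).toLinearEquiv
  let ε : ∀ j, Dual.HD A (DRing.toD W') j ≃ₗ[A] AdicCompletion I (Dual.HD A K j) := fun j =>
    (hhIso W' j ≪≫ (W.sc j).mapHomologyIso (tensorRight Ah)).toLinearEquiv ≪≫ₗ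
      TensorProduct.comm A (W.homology j : ModuleCat.{u} A) (AdicCompletion I A) ≪≫ₗ
      LinearEquiv.lTensor (AdicCompletion I A) (θ j).symm ≪≫ₗ
      (haveI := hK j; (AdicCompletion.ofTensorProductEquivOfFiniteNoetherian I (Dual.HD A K j)).restrictScalars A)
  have hW' : DRing.IsDerivedComplete I (DRing.toD W') := by
    refine (L04.RGamma.isDerivedComplete_iff I _).2 fun f hf j => ?_
    haveI := AdicCompletion.isAdicComplete (M := Dual.HD A K j) hFG
    exact (L04.RGamma.TzMod.congr (ε j)).2 (L04.RGamma.tzMod_of_isAdicComplete I hf)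
  obtain ⟨e₀, he₀⟩ := exists_iso I (cbij_toDerivedCompletion I K)
    (Cbij.comp I (cbij_iso I ψ.inv) (cbij_etaW I W)) ((DRing.derivedCompletion I).obj K).property hW'
  refine ⟨((HH n).mapIso e₀).toLinearEquiv ≪≫ₗ ε n, fun x => ?_⟩
  have hη : HomologicalComplex.homologyMap (etaW I W) n ≫ ((W.sc n).mapHomologyIso (tensorRight Ah)).hom =
      (sigma I).app (W.homology n) := by
    rw [show (sigma I).app (W.homology n) = _ from NatTrans.app_homology (sigma I) (W.sc n),
      (show ((W.sc n).mapHomologyIso (𝟭 (ModuleCat.{u} A))).inv = 𝟙 _ by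
        rw [← cancel_epi ((W.sc n).mapHomologyIso (𝟭 (ModuleCat.{u} A))).hom, Iso.hom_inv_id,
          mapHomologyIso_id, Category.id_comp]; rfl)]
    exact (Category.id_comp _).symm
  have hn : (HH n).map (DerivedCategory.Q.map (etaW I W)) ≫ (hhIso W' n).hom =
      (hhIso W n).hom ≫ HomologicalComplex.homologyMap (etaW I W) n :=
    (DerivedCategory.homologyFunctorFactors (ModuleCat.{u} A) n).hom.naturality (etaW I W)
  have key : (HH n).map (DRing.toDerivedCompletion I K) ≫ ((HH n).mapIso e₀).hom ≫
      (hhIso W' n ≪≫ (W.sc n).mapHomologyIso (tensorRight Ah)).hom =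
      ((HH n).mapIso ψ.symm ≪≫ hhIso W n).hom ≫ (sigma I).app (W.homology n) := by
    rw [Functor.mapIso_hom, ← Functor.map_comp_assoc, he₀, Functor.map_comp, Iso.trans_hom, Category.assoc,
      reassoc_of% hn, hη]
    rfl
  have kx := LinearMap.congr_fun (congrArg ModuleCat.Hom.hom key) x
  change (ε n) (((HH n).map e₀.hom).hom (((HH n).map (DRing.toDerivedCompletion I K)).hom x)) = _
  simp only [ε, LinearEquiv.trans_apply]
  change ((AdicCompletion.ofTensorProductEquivOfFiniteNoetherian I (Dual.HD A K n)).restrictScalars A)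
    (LinearEquiv.lTensor (AdicCompletion I A) (θ n).symm (TensorProduct.comm A _ _
      ((hhIso W' n ≪≫ (W.sc n).mapHomologyIso (tensorRight Ah)).hom.hom
        (((HH n).map e₀.hom).hom (((HH n).map (DRing.toDerivedCompletion I K)).hom x))))) = _
  rw [show (hhIso W' n ≪≫ (W.sc n).mapHomologyIso (tensorRight Ah)).hom.hom
      (((HH n).map e₀.hom).hom (((HH n).map (DRing.toDerivedCompletion I K)).hom x)) =
      (θ n x) ⊗ₜ[A] AdicCompletion.of I A 1 from kx.trans rfl]
  rw [TensorProduct.comm_tmul, LinearEquiv.lTensor_tmul, LinearEquiv.symm_apply_apply]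
  change AdicCompletion.ofTensorProduct I (Dual.HD A K n) (AdicCompletion.of I A 1 ⊗ₜ x) = _
  rw [AdicCompletion.ofTensorProduct_tmul]
  exact one_smul _ _

end Groth.L10.CompletionFinite
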