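import Groth.Agent.L10.DTen.Base
import Groth.Agent.L10.DRing.TorTest
import Groth.Agent.L02.PC.BaseChange
import Groth.Agent.L00.SingleTotal
import Mathlib.Algebra.Homology.DerivedCategory.Fractions

/-! Derived base change and tensoring with a module, on K-flat complexes. -/

universe u

open CategoryTheory CategoryTheory.Limits CategoryTheory.Pretriangulated MonoidalCategory CochainComplex

attribute [local instance] HasDerivedCategory.standard

set_option backward.defeqAttrib.useBackward true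
set_option backward.isDefEq.respectTransparency false
namespace Groth.L10.KFlatLBC

open Groth.L02.PC Groth.L10.DR Groth.L10.KFlat

variable {A B : Type u} [CommRing A] [CommRing B] (φ : A →+* B)

/-- localization functor -/
noncomputable abbrev qQh : DRing.Cx A ⥤ Dual.D A :=
  HomotopyCategory.quotient (ModuleCat.{u} A) (ComplexShape.up ℤ) ⋙ DerivedCategory.Qh

instance isLocalization_qQh :
    (qQh (A := A)).IsLocalization (HomologicalComplex.quasiIso (ModuleCat.{u} A) (ComplexShape.up ℤ)) :=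
  Functor.IsLocalization.of_iso _ (DerivedCategory.quotientCompQhIso (ModuleCat.{u} A)).symm

/-- base change of complexes, localized -/
noncomputable abbrev Cxq : DRing.Cx A ⥤ Dual.D B :=
  HomotopyCategory.quotient (ModuleCat.{u} A) (ComplexShape.up ℤ) ⋙ DRing.baseChangeKh φ

/-- comparison with the termwise functor -/
noncomputable def cxqIso : Cxq φ ≅ bcCx φ ⋙ DerivedCategory.Q :=
  (Functor.associator _ _ _).symm ≪≫
    Functor.isoWhiskerRight ((ModuleCat.extendScalars.{u, u, u} φ).mapHomotopyCategoryFactors (ComplexShape.up ℤ)) _ ≪≫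
    Functor.associator _ _ _ ≪≫ Functor.isoWhiskerLeft _ (DerivedCategory.quotientCompQhIso (ModuleCat.{u} B))

theorem isIso_cxq_map {P Q : DRing.Cx A} (α : P ⟶ Q) [QuasiIso α]
    (hP : DRing.IsKFlat A P) (hQ : DRing.IsKFlat A Q) : IsIso ((Cxq φ).map α) := by
  haveI := Groth.L10.DTen.isIso_extQ_map φ α hP hQ
  exact (NatIso.isIso_map_iff (cxqIso φ) α).2 (Groth.L10.DTen.isIso_extQ_map φ α hP hQ)

theorem inverts : (HomologicalComplex.quasiIso (ModuleCat.{u} A) (ComplexShape.up ℤ)).IsInvertedBy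
    (R A ⋙ Cxq φ) :=
  fun P Q α hα => by
    haveI := (HomologicalComplex.mem_quasiIso_iff α).1 hα
    haveI := quasiIso_R_map α
    exact isIso_cxq_map φ _ (isKFlat_R P) (isKFlat_R Q)

/-- derived base change exists -/
theorem hasLBaseChange : DRing.HasLBaseChange φ := by
  let W := HomologicalComplex.quasiIso (ModuleCat.{u} A) (ComplexShape.up ℤ)
  haveI := Groth.L00.LeftDeriv.isRightKanExtension (Cxq φ) W qQh (R A) (r A)
    (fun K => (HomologicalComplex.mem_quasiIso_iff _).2 inferInstance) (inverts φ)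
    (fun K => isIso_cxq_map φ _ (isKFlat_R _) (isKFlat_R _))
  exact Groth.L00.LeftDeriv.hasLeftDerivedFunctor_of_quotient
    (HomotopyCategory.quotient (ModuleCat.{u} A) (ComplexShape.up ℤ))
    (fun Z => Z.as) (fun Z => rfl) (HomotopyCategory.quasiIso (ModuleCat.{u} A) (ComplexShape.up ℤ))
    DerivedCategory.Qh (DRing.baseChangeKh φ) (Groth.L00.LeftDeriv.LF (Cxq φ) W qQh (R A) (inverts φ))
    (Groth.L00.LeftDeriv.α (Cxq φ) W qQh (R A) (r A) (inverts φ))

theorem isIso_counit [DRing.HasLBaseChange φ] (P : DRing.Cx A) (hP : DRing.IsKFlat A P) :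
    IsIso (((DRing.baseChangeKh φ).totalLeftDerivedCounit DerivedCategory.Qh
      (HomotopyCategory.quasiIso (ModuleCat.{u} A) (ComplexShape.up ℤ))).app
        ((HomotopyCategory.quotient _ _).obj P)) := by
  let W := HomologicalComplex.quasiIso (ModuleCat.{u} A) (ComplexShape.up ℤ)
  haveI := Groth.L00.LeftDeriv.isRightKanExtension (Cxq φ) W qQh (R A) (r A)
    (fun K => (HomologicalComplex.mem_quasiIso_iff _).2 inferInstance) (inverts φ)
    (fun K => isIso_cxq_map φ _ (isKFlat_R _) (isKFlat_R _))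
  refine Groth.L00.LeftDeriv.isIso_totalCounit_of_quotient
    (HomotopyCategory.quotient (ModuleCat.{u} A) (ComplexShape.up ℤ))
    (fun Z => Z.as) (fun Z => rfl) (HomotopyCategory.quasiIso (ModuleCat.{u} A) (ComplexShape.up ℤ))
    DerivedCategory.Qh (DRing.baseChangeKh φ) (Groth.L00.LeftDeriv.LF (Cxq φ) W qQh (R A) (inverts φ))
    (Groth.L00.LeftDeriv.α (Cxq φ) W qQh (R A) (r A) (inverts φ)) P ?_
  rw [Groth.L00.LeftDeriv.α_app]
  haveI : IsIso ((Cxq φ).map ((r A).app P)) := isIso_cxq_map φ _ (isKFlat_R P) hP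
  infer_instance

/-- derived base change of a K-flat complex is termwise base change -/
noncomputable def lbcKF [DRing.HasLBaseChange φ] (P : DRing.Cx A) (hP : DRing.IsKFlat A P) :
    (DRing.LBaseChange φ).obj (DRing.toD P) ≅ DRing.toD ((bcCx φ).obj P) :=
  haveI := isIso_counit φ P hP
  (DRing.LBaseChange φ).mapIso ((DerivedCategory.quotientCompQhIso _).app P).symm ≪≫
    asIso (((DRing.baseChangeKh φ).totalLeftDerivedCounit DerivedCategory.Qh
      (HomotopyCategory.quasiIso (ModuleCat.{u} A) (ComplexShape.up ℤ))).app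
        ((HomotopyCategory.quotient _ _).obj P)) ≪≫
    (DerivedCategory.quotientCompQhIso _).app ((bcCx φ).obj P)

/-- tensor with a module placed in degree zero -/
noncomputable def singleTensorIso (P : DRing.Cx A) (N : ModuleCat.{u} A) :
    DRing.tensorCx P N ≅ (HomologicalComplex.single (ModuleCat.{u} A) (ComplexShape.up ℤ) 0).obj N ⊗ P :=
  (NatIso.mapHomologicalComplex (BraidedCategory.tensorLeftIsoTensorRight N).symm (ComplexShape.up ℤ)).app P ≪≫
    Groth.L00.SingleTotal.iso (curriedTensor (ModuleCat.{u} A)) N P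

theorem isZero_tensorCx_of_acyclic {C : DRing.Cx A} (hC : DRing.IsKFlat A C)
    (hacyc : ∀ i, IsZero (C.homology i)) (N : ModuleCat.{u} A) (j : ℤ) :
    IsZero ((DRing.tensorCx C N).homology j) :=
  (acyclic_tensor C hC hacyc _ j).of_iso
    ((HomologicalComplex.homologyFunctor _ _ j).mapIso (singleTensorIso C N))

theorem quasiIso_tF {P Q : DRing.Cx A} (f : P ⟶ Q) [QuasiIso f] (hP : DRing.IsKFlat A P)
    (hQ : DRing.IsKFlat A Q) (N : ModuleCat.{u} A) : QuasiIso ((tF N).map f) :=
  Groth.L00.Cell.quasiIso_of_acyclic_cone _ fun i =>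
    (isZero_tensorCx_of_acyclic (Groth.L10.KFlat.cone f hP hQ) (Groth.L00.ConeTransfer.acyclic_cone f) N i).of_iso
      ((HomologicalComplex.homologyFunctor _ _ i).mapIso
        (mappingCone.mapHomologicalComplexIso f (tensorRight N))).symm

/-- isomorphic K-flat complexes tensor alike -/
theorem tensor_congr {P Q : DRing.Cx A} (hP : DRing.IsKFlat A P) (hQ : DRing.IsKFlat A Q)
    (e : DRing.toD P ≅ DRing.toD Q) (N : ModuleCat.{u} A) (j : ℤ) :
    IsZero ((DRing.tensorCx P N).homology j) ↔ IsZero ((DRing.tensorCx Q N).homology j) := by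
  obtain ⟨X, s, hs, g, hfac⟩ := DerivedCategory.right_fac e.hom
  haveI : QuasiIso s := (DerivedCategory.isIso_Q_map_iff_quasiIso _ s).1 hs
  haveI : QuasiIso g := (DerivedCategory.isIso_Q_map_iff_quasiIso _ g).1 (by
    rw [show DerivedCategory.Q.map g = DerivedCategory.Q.map s ≫ e.hom by rw [hfac, IsIso.hom_inv_id_assoc]]
    infer_instance)
  haveI := quasiIso_tF ((r A).app X ≫ s) (isKFlat_R X) hP N
  haveI := quasiIso_tF ((r A).app X ≫ g) (isKFlat_R X) hQ N
  exact (asIso (HomologicalComplex.homologyMap ((tF N).map ((r A).app X ≫ s)) j)).isZero_iff.symm.trans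
    (asIso (HomologicalComplex.homologyMap ((tF N).map ((r A).app X ≫ g)) j)).isZero_iff

/-- K-flat representatives with flat terms -/
theorem exists_rep_flat (X : Dual.D A) :
    ∃ K : DRing.Cx A, DRing.IsKFlat A K ∧ DRing.TermwiseFlat K ∧ Nonempty (DRing.toD K ≅ X) := by
  let K₀ := DerivedCategory.Q.objPreimage X
  haveI := Groth.L10.KFlat.isIso_Q_map ((r A).app K₀) inferInstance
  exact ⟨(R A).obj K₀, isKFlat_R K₀,
    flat_res _ (fun n => flat_zero
      ((HomologicalComplex.eval (ModuleCat.{u} A) (ComplexShape.up ℤ) n).map_isZero HomologicalComplex.isZero_zero)),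
    ⟨asIso (DerivedCategory.Q.map ((r A).app K₀)) ≪≫ DerivedCategory.Q.objObjPreimageIso X⟩⟩

/-- derived base change is transitive on objects -/
theorem nonempty_comp_iso {C : Type u} [CommRing C] (φ : A →+* B) (ψ : B →+* C) (χ : A →+* C) (h : χ = ψ.comp φ)
    [DRing.HasLBaseChange φ] [DRing.HasLBaseChange ψ] [DRing.HasLBaseChange χ] (X : Dual.D A) :
    Nonempty ((DRing.LBaseChange ψ).obj ((DRing.LBaseChange φ).obj X) ≅ (DRing.LBaseChange χ).obj X) := by
  subst h
  obtain ⟨Q, hQ, -, ⟨e⟩⟩ := exists_rep_flat X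
  exact ⟨(DRing.LBaseChange ψ).mapIso ((DRing.LBaseChange φ).mapIso e.symm ≪≫ lbcKF φ Q hQ) ≪≫
    lbcKF ψ _ (Groth.L10.DTen.isKFlat_ext φ hQ) ≪≫
    DerivedCategory.Q.mapIso
      (((NatIso.mapHomologicalComplex (ModuleCat.extendScalarsComp.{u, u} φ ψ) (ComplexShape.up ℤ)).app Q).symm) ≪≫
    (lbcKF (ψ.comp φ) Q hQ).symm ≪≫ (DRing.LBaseChange (ψ.comp φ)).mapIso e⟩

end Groth.L10.KFlatLBC
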