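import Groth.Agent.L10.DRing.Modules
import Groth.Agent.L28.TorFacts
import Groth.Agent.L29.PerfPC
import Mathlib.CategoryTheory.Abelian.Projective.Extend

/-!
Tor dimension of modules and tor amplitude, projective resolutions of perfect modules.
-/

set_option autoImplicit false
set_option linter.all false
set_option backward.isDefEq.respectTransparency false
set_option backward.isDefEq.respectTransparency.types false

universe u

open CategoryTheory CategoryTheory.Limits MonoidalCategory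

attribute [local instance] HasDerivedCategory.standard

namespace Groth.L10.DR

variable {A : Type u} [CommRing A] {M : Type u} [AddCommGroup M] [Module A M]

theorem res_flat (R : ProjectiveResolution (ModuleCat.of A M)) :
    DRing.TermwiseFlat R.cochainComplex := fun i => by
  haveI : Module.Projective A (R.cochainComplex.X i) := (IsProjective.iff_projective _).mpr (inferInstance : CategoryTheory.Projective (R.cochainComplex.X i))
  infer_instance

theorem res_vanishesAbove (R : ProjectiveResolution (ModuleCat.of A M)) :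
    DRing.VanishesAbove R.cochainComplex 0 := fun i hi =>
  CochainComplex.isZero_of_isStrictlyLE R.cochainComplex 0 i hi

theorem res_toD (R : ProjectiveResolution (ModuleCat.of A M)) :
    Nonempty (DRing.toD R.cochainComplex ≅ Dual.inD A M) :=
  ⟨asIso (DerivedCategory.Q.map R.π') ≪≫
    ((DerivedCategory.singleFunctorIsoCompQ (ModuleCat.{u} A) 0).app (ModuleCat.of A M)).symm⟩

theorem isZero_tensor_iff_tor (R : ProjectiveResolution (ModuleCat.of A M)) (N : ModuleCat.{u} A) (n : ℕ) :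
    IsZero ((DRing.tensorCx R.cochainComplex N).homology (-(n + 1 : ℕ) : ℤ)) ↔
      IsZero (((CategoryTheory.Tor (ModuleCat.{u} A) (n + 1)).obj (ModuleCat.of A M)).obj N) := by
  obtain ⟨e⟩ := Groth.L28.TorFacts.nonempty_iso_left (M := ModuleCat.of A M) (N := N) R.complex (R.π.f 0)
    (Groth.L28.Balance.isRes_projectiveResolution R) (n + 1)
  rw [e.isZero_iff, Groth.L28.HomElt.isZero_homology_iff (i := n + 2) (k := n)
    ((ComplexShape.down ℕ).prev_eq' rfl) ((ComplexShape.down ℕ).next_eq' rfl),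
    tensor_exact_iff R.cochainComplex N (-(n + 2 : ℕ) : ℤ) (-(n + 1 : ℕ) : ℤ) (-(n : ℕ) : ℤ)
      (by push_cast; omega) (by push_cast; omega)]
  let E : ∀ k : ℕ, (R.cochainComplex.X (-(k : ℤ))) ≃ₗ[A] (R.complex.X k) :=
    fun k => (R.cochainComplexXIso (-(k : ℤ)) k rfl).toLinearEquiv
  have hd : ∀ k l : ℕ, ∀ x, (R.cochainComplex.d (-(k : ℤ)) (-(l : ℤ))).hom x =
      (E l).symm ((R.complex.d k l).hom (E k x)) := fun k l x => by
    rw [R.cochainComplex_d (-(k : ℤ)) (-(l : ℤ)) k l rfl rfl]; rfl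
  have hsq : ∀ k l : ℕ, (R.complex.d k l).hom.rTensor N ∘ₗ
      ((E k).rTensor N).toLinearMap =
      ((E l).rTensor N).toLinearMap ∘ₗ (R.cochainComplex.d (-(k : ℤ)) (-(l : ℤ))).hom.rTensor N := fun k l => by
    refine TensorProduct.ext' fun x y => ?_
    simp [hd]
  rw [← Function.Exact.iff_of_ladder_linearEquiv (hsq (n + 2) (n + 1)) (hsq (n + 1) n)]
  refine ⟨fun h x hx => (h x).1 hx, fun h x => ⟨fun hx => h x hx, ?_⟩⟩
  · rintro ⟨y, rfl⟩
    have h0 := LinearMap.congr_fun (congrArg ModuleCat.Hom.hom (R.complex.d_comp_d (n + 2) (n + 1) n))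
    rw [← LinearMap.comp_apply, ← LinearMap.rTensor_comp]
    rw [show (R.complex.d (n + 1) n).hom ∘ₗ (R.complex.d (n + 2) (n + 1)).hom = 0 from LinearMap.ext h0]
    simp

theorem hasTorDimLE_iff_amp (d : ℕ) :
    DRing.HasTorDimLE A d M ↔ DRing.HasTorAmplitudeIn A (-(d : ℤ)) 0 (Dual.inD A M) := by
  let R := projectiveResolution (ModuleCat.of A M)
  obtain ⟨e⟩ := res_toD R
  rw [amp_iff e (res_vanishesAbove R) (res_flat R) (-(d : ℤ)) 0]
  refine ⟨fun h => ⟨fun i hi N => ?_, LEH_inD M⟩, fun h N _ _ p hp => ?_⟩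
  · obtain ⟨n, rfl⟩ : ∃ n : ℕ, i = -((n + 1 : ℕ) : ℤ) := ⟨(-i - 1).toNat, by omega⟩
    rw [isZero_tensor_iff_tor]
    haveI := h N (n + 1) (by omega)
    exact ModuleCat.isZero_of_subsingleton _
  · obtain ⟨n, rfl⟩ : ∃ n : ℕ, p = n + 1 := ⟨p - 1, by omega⟩
    exact ModuleCat.subsingleton_of_isZero
      ((isZero_tensor_iff_tor R (ModuleCat.of A N) n).1 (h.1 _ (by omega) _))

theorem hasTorDimLE_zero_iff : DRing.HasTorDimLE A 0 M ↔ Module.Flat A M := by
  refine ⟨fun h => flat_of_amp (by simpa using (hasTorDimLE_iff_amp 0).1 h), fun h N _ _ p hp => ?_⟩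
  obtain ⟨n, rfl⟩ : ∃ n : ℕ, p = n + 1 := ⟨p - 1, by omega⟩
  exact ModuleCat.subsingleton_of_isZero
    (Groth.L28.TorFacts.isZero_of_flat_left (ModuleCat.of A M) (ModuleCat.of A N) n)

theorem finiteTorDim_iff_amp :
    DRing.HasFiniteTorDim A M ↔ DRing.HasFiniteTorDimCx A (Dual.inD A M) := by
  refine ⟨fun ⟨d, h⟩ => ⟨_, _, (hasTorDimLE_iff_amp d).1 h⟩, fun ⟨a, b, h⟩ => ⟨(-a).toNat, ?_⟩⟩
  let R := projectiveResolution (ModuleCat.of A M)
  obtain ⟨e⟩ := res_toD R
  rw [hasTorDimLE_iff_amp, amp_iff e (res_vanishesAbove R) (res_flat R)]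
  exact ⟨fun i hi => ((amp_iff e (res_vanishesAbove R) (res_flat R) a b).1 h).1 i (by omega), LEH_inD M⟩

/-- a resolution with projective terms -/
theorem exists_resolution_of_isRes (C : ChainComplex (ModuleCat.{u} A) ℕ) (ε : C.X 0 ⟶ ModuleCat.of A M)
    (h : Groth.L28.Balance.IsRes C ε) (hp : ∀ n, Module.Projective A (C.X n)) :
    ∃ P : ProjectiveResolution (ModuleCat.of A M), P.complex = C := by
  have hproj : ∀ n, CategoryTheory.Projective (C.X n) := fun n => (IsProjective.iff_projective _).mp (hp n)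
  have hd : C.d 1 0 ≫ ε = 0 := ModuleCat.hom_ext (LinearMap.ext fun x => (h.exact₀ _).mpr ⟨x, rfl⟩)
  let π : C ⟶ (ChainComplex.single₀ (ModuleCat.{u} A)).obj (ModuleCat.of A M) :=
    (C.toSingle₀Equiv _).symm ⟨ε, hd⟩
  have hπ : π.f 0 = ε := by simp [π]
  have hq : QuasiIso π := by
    refine Groth.L28.HomElt.quasiIso_of_bijective π fun j => ?_
    have hz : ∀ k, Subsingleton (((ChainComplex.single₀ (ModuleCat.{u} A)).obj (ModuleCat.of A M)).X (k + 1)) :=
      fun k => ModuleCat.subsingleton_of_isZero (HomologicalComplex.isZero_single_obj_X _ _ _ _ (Nat.succ_ne_zero k))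
    have hp : (ComplexShape.down ℕ).prev j = j + 1 := (ComplexShape.down ℕ).prev_eq' rfl
    cases j with
    | zero =>
      haveI := hz 0
      refine ⟨(Groth.L28.HomElt.injective_homologyMap_iff π hp rfl).mpr fun x w _ he => ?_,
        (Groth.L28.HomElt.surjective_homologyMap_iff π hp rfl).mpr fun y _ => ?_⟩
      · rw [Subsingleton.elim w 0, map_zero, hπ] at he
        obtain ⟨v, hv⟩ := (h.exact₀ x).mp he
        exact ⟨v, hv⟩
      · obtain ⟨x, hx⟩ := h.surj y
        refine ⟨x, 0, by simp, ?_⟩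
        rw [map_zero, add_zero, hπ]
        exact hx
    | succ k =>
      haveI := hz k
      haveI := hz (k + 1)
      have hn : (ComplexShape.down ℕ).next (k + 1) = k := (ComplexShape.down ℕ).next_eq' rfl
      refine ⟨(Groth.L28.HomElt.injective_homologyMap_iff π hp hn).mpr fun x w hx _ => ?_,
        (Groth.L28.HomElt.surjective_homologyMap_iff π hp hn).mpr fun y _ =>
          ⟨0, 0, map_zero _, Subsingleton.elim _ _⟩⟩
      obtain ⟨v, hv⟩ := (h.exact k x).mp hx
      exact ⟨v, hv⟩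
  exact ⟨{ complex := C, projective := hproj, π := π, quasiIso := hq }, rfl⟩

theorem perfectModule_iff_resolution :
    DRing.IsPerfectModule A M ↔ ∃ (P : ProjectiveResolution (ModuleCat.of A M)) (d : ℕ),
        (∀ i : ℕ, d < i → IsZero (P.complex.X i)) ∧ ∀ i : ℕ, Module.Finite A (P.complex.X i) := by
  constructor
  · intro h
    obtain ⟨a, b, hab⟩ := amp_of_perfect h
    have hpc : DRing.IsPseudoCoherent' A (Dual.inD A M) :=
      Groth.L29.PerfPC.isPseudoCoherent'_of_isPerfect h
    obtain ⟨d, hd⟩ := finiteTorDim_iff_amp.2 ⟨a, b, hab⟩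
    obtain ⟨E, hE, hEp, ⟨eE⟩⟩ := exists_finiteProjective hpc ((hasTorDimLE_iff_amp d).1 hd)
    have hex : ∀ i : ℤ, i < 0 → IsZero (E.homology i) := fun i hi =>
      (HH_iso_zero eE i).1 (isZero_HH_single 0 i (ModuleCat.of A M) (by omega))
    obtain ⟨e0⟩ := toD_truncGE_iso 0 hex
    have hT := vanishesOutside_truncGE (P := E) 0 0 (fun i hi => hE i (Or.inr hi))
    haveI : (E.truncGE 0).IsStrictlyLE 0 :=
      (CochainComplex.isStrictlyLE_iff _ 0).2 fun i hi => hT i (Or.inr hi)
    obtain ⟨N, ⟨eN⟩⟩ := CochainComplex.exists_iso_single (E.truncGE 0) 0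
    let i1 : N ≅ ModuleCat.of A M := (DerivedCategory.singleFunctor (ModuleCat.{u} A) 0).preimageIso
      ((DerivedCategory.singleFunctorIsoCompQ _ 0).app N ≪≫ DerivedCategory.Q.mapIso eN.symm ≪≫ e0.symm ≪≫ eE)
    let i2 : (E.truncGE 0).X 0 ≅ N :=
      (HomologicalComplex.eval (ModuleCat.{u} A) (ComplexShape.up ℤ) 0).mapIso eN ≪≫
        HomologicalComplex.singleObjXSelf (ComplexShape.up ℤ) 0 N
    obtain ⟨i3⟩ := truncGE_X_iso E 0
    let q := (LinearMap.range (E.d (0 - 1) 0).hom).mkQ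
    let t := (i3.symm ≪≫ i2 ≪≫ i1).toLinearEquiv
    let C := E.restriction ComplexShape.embeddingDownNat
    let ε : C.X 0 ⟶ ModuleCat.of A M := ModuleCat.ofHom (t.toLinearMap ∘ₗ q)
    have hres : Groth.L28.Balance.IsRes C ε := by
      refine ⟨t.surjective.comp (Submodule.mkQ_surjective _), ?_, fun n => ?_, fun n => ?_⟩
      · show Function.Exact (E.d (-((1 : ℕ) : ℤ)) (-((0 : ℕ) : ℤ))).hom (t.toLinearMap ∘ₗ q)
        intro x
        simp only [LinearMap.comp_apply, LinearEquiv.coe_coe, EmbeddingLike.map_eq_zero_iff, q]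
        exact Submodule.Quotient.mk_eq_zero _
      · show Function.Exact (E.d (-((n + 2 : ℕ) : ℤ)) (-((n + 1 : ℕ) : ℤ))).hom
          (E.d (-((n + 1 : ℕ) : ℤ)) (-((n : ℕ) : ℤ))).hom
        exact (isZero_homology_iff_exact E _ _ _ (by push_cast; omega) (by push_cast; omega)).1
          (hex _ (by omega))
      · haveI := (hEp (-(n : ℤ))).2
        show Module.Flat A (E.X (-(n : ℤ)))
        infer_instance
    obtain ⟨P, hP⟩ := exists_resolution_of_isRes C ε hres fun n => (hEp (-(n : ℤ))).2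
    refine ⟨P, d, fun i hi => ?_, fun i => ?_⟩
    · rw [hP]; exact hE (-(i : ℤ)) (Or.inl (by omega))
    · rw [hP]; exact (hEp (-(i : ℤ))).1
  · rintro ⟨P, d, hz, hf⟩
    obtain ⟨e⟩ := res_toD P
    refine ⟨P.cochainComplex, -(d : ℤ), 0, fun i hi => ?_, fun i => ?_, ⟨e⟩⟩
    · rcases hi with hi | hi
      · exact (hz _ (show d < (-i).toNat by omega)).of_iso (P.cochainComplexXIso i _ (by omega))
      · exact res_vanishesAbove P i hi
    · refine ⟨?_, (IsProjective.iff_projective _).mpr (inferInstance : CategoryTheory.Projective (P.cochainComplex.X i))⟩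
      by_cases hi : i ≤ 0
      · haveI := hf (-i).toNat
        exact Module.Finite.equiv (P.cochainComplexXIso i (-i).toNat (by omega)).toLinearEquiv.symm
      · haveI := ModuleCat.subsingleton_of_isZero (res_vanishesAbove P i (by omega))
        infer_instance

end Groth.L10.DR
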