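import Groth.Agent.L10.DRing.KFlatLBC
import Groth.Agent.L10.DTen.Proj
import Groth.Prelude.Def_DRing4

/-! Tor amplitude tested by K-flat resolutions of modules; `⊗^L` with a complex computed by K-flat complexes. -/

universe u

open CategoryTheory CategoryTheory.Limits MonoidalCategory

attribute [local instance] HasDerivedCategory.standard

set_option backward.defeqAttrib.useBackward true
set_option backward.isDefEq.respectTransparency false

namespace Groth.L10.AmpTest

open Groth.L10.KFlat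

variable {A : Type u} [CommRing A]

theorem isZero_homology_of_X {X : DRing.Cx A} {i : ℤ} (h : IsZero (X.X i)) : IsZero (X.homology i) :=
  (X.exactAt_iff_isZero_homology i).1 (HomologicalComplex.ExactAt.of_isZero h)

theorem homology_iff {X X' : DRing.Cx A} (e : DRing.toD X ≅ DRing.toD X') (i : ℤ) :
    IsZero (X.homology i) ↔ IsZero (X'.homology i) :=
  (Groth.L02.PC.isZero_HH_Q_iff X i).symm.trans (Groth.L10.DR.HH_iso_zero e.symm i)

theorem iso_homology {X X' : DRing.Cx A} (e : X ≅ X') (i : ℤ) :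
    IsZero (X.homology i) ↔ IsZero (X'.homology i) :=
  ((HomologicalComplex.homologyFunctor _ _ i).mapIso e).isZero_iff

theorem braid_homology (X Y : DRing.Cx A) (i : ℤ) :
    IsZero ((X ⊗ Y).homology i) ↔ IsZero ((Y ⊗ X).homology i) :=
  iso_homology (_root_.DTen.braidCx X Y) i

/-- isomorphic complexes stay so after tensoring with a K-flat complex -/
theorem test_congr {X X' : DRing.Cx A} (e : DRing.toD X ≅ DRing.toD X') {P : DRing.Cx A}
    (hP : DRing.IsKFlat A P) : Nonempty (DRing.toD (X ⊗ P) ≅ DRing.toD (X' ⊗ P)) := by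
  obtain ⟨W, s, hs, g, hfac⟩ := DerivedCategory.right_fac e.hom
  haveI : QuasiIso s := (DerivedCategory.isIso_Q_map_iff_quasiIso _ s).1 hs
  haveI : QuasiIso g := (DerivedCategory.isIso_Q_map_iff_quasiIso _ g).1 (by
    rw [show DerivedCategory.Q.map g = DerivedCategory.Q.map s ≫ e.hom by rw [hfac, IsIso.hom_inv_id_assoc]]
    infer_instance)
  haveI := Groth.L10.DTen.isIso_Q_tensor_left s hP
  haveI := Groth.L10.DTen.isIso_Q_tensor_left g hP
  exact ⟨(asIso (DerivedCategory.Q.map (s ▷ P))).symm ≪≫ asIso (DerivedCategory.Q.map (g ▷ P))⟩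

theorem test_congr' {X X' : DRing.Cx A} (e : DRing.toD X ≅ DRing.toD X') {P : DRing.Cx A}
    (hP : DRing.IsKFlat A P) (i : ℤ) : IsZero ((X ⊗ P).homology i) ↔ IsZero ((X' ⊗ P).homology i) :=
  let ⟨f⟩ := test_congr e hP
  homology_iff f i

/-- the unit resolves `A` -/
theorem isKFlat_one : DRing.IsKFlat A (𝟙_ (DRing.Cx A)) := isKFlat_unit

theorem isZero_tensor_module {E : DRing.Cx A} (hE : DRing.IsKFlat A E) {P : DRing.Cx A} (hP : DRing.IsKFlat A P)
    {N : ModuleCat.{u} A}
    (e : DRing.toD P ≅ DRing.toD ((HomologicalComplex.single (ModuleCat.{u} A) (ComplexShape.up ℤ) 0).obj N))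
    {X : DRing.Cx A} (e' : DRing.toD X ≅ DRing.toD E) (i : ℤ) :
    IsZero ((X ⊗ P).homology i) ↔ IsZero ((DRing.tensorCx E N).homology i) :=
  (test_congr' e' hP i).trans <| (braid_homology E P i).trans <| (test_congr' e hE i).trans
    (iso_homology (KFlatLBC.singleTensorIso E N) i).symm

/-- tor amplitude by testing against K-flat resolutions of modules -/
theorem amp_iff_test (X : DRing.Cx A) (a b : ℤ) :
    DRing.HasTorAmplitudeIn A a b (DRing.toD X) ↔
      ∀ (N : ModuleCat.{u} A) (P : DRing.Cx A), DRing.IsKFlat A P →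
        (DRing.toD P ≅ DRing.toD ((HomologicalComplex.single (ModuleCat.{u} A) (ComplexShape.up ℤ) 0).obj N)) →
          ∀ i : ℤ, i < a ∨ b < i → IsZero ((X ⊗ P).homology i) := by
  constructor
  · rintro ⟨E, hE, hEf, ⟨eE⟩⟩ N P hP eP i hi
    exact (isZero_tensor_module (of_bounded E b (fun j hj => hE j (Or.inr hj)) hEf) hP eP eE.symm i).2
      (isZero_homology_of_X ((tensorRight N).map_isZero (hE i hi)))
  · intro h
    have hX : ∀ i, i < a ∨ b < i → IsZero (X.homology i) := fun i hi =>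
      (iso_homology (ρ_ X) i).1 (h (𝟙_ _) (𝟙_ (DRing.Cx A)) isKFlat_one (Iso.refl _) i hi)
    obtain ⟨Q, hQb, hQf, -, ⟨eQ⟩⟩ := Groth.L02.PC.exists_free_rep (K := DRing.toD X) (n := b)
      fun i hi => (Groth.L02.PC.isZero_HH_Q_iff X i).2 (hX i (Or.inr hi))
    have hQ := Groth.L10.DR.flat_of_free hQf
    refine (Groth.L10.DR.amp_iff eQ hQb hQ a b).2 ⟨fun i hi N => ?_, fun i hi =>
      (Groth.L02.PC.isZero_HH_Q_iff X i).2 (hX i (Or.inr hi))⟩
    obtain ⟨P, hP, -, ⟨eP⟩⟩ := KFlatLBC.exists_rep_flat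
      (DRing.toD ((HomologicalComplex.single (ModuleCat.{u} A) (ComplexShape.up ℤ) 0).obj N))
    exact (isZero_tensor_module (of_bounded Q b hQb hQ) hP eP eQ.symm i).1 (h N P hP eP i (Or.inl hi))

theorem exists_bounded (Z : DRing.Cx A) (c d : ℤ) (hZ : ∀ i, i < c ∨ d < i → IsZero (Z.homology i)) :
    ∃ Z' : DRing.Cx A, DRing.VanishesOutside Z' c d ∧ Nonempty (DRing.toD Z ≅ DRing.toD Z') := by
  haveI : (DerivedCategory.Q.obj Z).IsGE c := (DerivedCategory.isGE_iff _ c).2 fun i hi =>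
    (Groth.L02.PC.isZero_HH_Q_iff Z i).2 (hZ i (Or.inl hi))
  haveI : (DerivedCategory.Q.obj Z).IsLE d := (DerivedCategory.isLE_iff _ d).2 fun i hi =>
    (Groth.L02.PC.isZero_HH_Q_iff Z i).2 (hZ i (Or.inr hi))
  obtain ⟨K, _, _, ⟨e⟩⟩ := DerivedCategory.exists_iso_Q_obj_of_isGE_of_isLE (DerivedCategory.Q.obj Z) c d
  exact ⟨K, fun i hi => hi.elim (fun h => CochainComplex.isZero_of_isStrictlyGE K c i h)
    (fun h => CochainComplex.isZero_of_isStrictlyLE K d i h), ⟨e⟩⟩

theorem isZero_tensor_X (X Y : DRing.Cx A) (n : ℤ)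
    (h : ∀ p q, p + q = n → IsZero (X.X p) ∨ IsZero (Y.X q)) : IsZero ((X ⊗ Y).X n) := by
  rw [IsZero.iff_id_eq_zero]
  refine HomologicalComplex.mapBifunctor.hom_ext fun p q hpq => ?_
  rcases h p q hpq with hp | hq
  · exact ((((curriedTensor (ModuleCat.{u} A)).flip.obj (Y.X q)).map_isZero hp)).eq_of_src _ _
  · exact ((((curriedTensor (ModuleCat.{u} A)).obj (X.X p)).map_isZero hq)).eq_of_src _ _

/-- tensoring with a bounded flat complex moves homological bounds -/
theorem isZero_tensor_bounded {E Z : DRing.Cx A} {a b c d : ℤ} (hE : DRing.VanishesOutside E a b)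
    (hEf : DRing.TermwiseFlat E) (hZ : ∀ i, i < c ∨ d < i → IsZero (Z.homology i)) (i : ℤ)
    (hi : i < a + c ∨ b + d < i) : IsZero ((Z ⊗ E).homology i) := by
  obtain ⟨Z', hZ', ⟨e⟩⟩ := exists_bounded Z c d hZ
  refine (test_congr' e (of_bounded E b (fun j hj => hE j (Or.inr hj)) hEf) i).2
    (isZero_homology_of_X (isZero_tensor_X _ _ i fun p q hpq => ?_))
  by_cases hp : p < c ∨ d < p
  · exact Or.inl (hZ' p hp)
  · exact Or.inr (hE q (by omega))

section LTensorCx

theorem tensorCxQ_inverted (E : DRing.Cx A) :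
    (HomologicalComplex.quasiIso (ModuleCat.{u} A) (ComplexShape.up ℤ)).IsInvertedBy
      (Groth.L10.KFlat.R A ⋙ DRing.tensorCxQ A E) := fun K K' f hf => by
  haveI : QuasiIso f := (HomologicalComplex.mem_quasiIso_iff _).1 hf
  haveI := quasiIso_R_map f
  exact isIso_Q_tensor_map E ((Groth.L10.KFlat.R A).map f) (isKFlat_R K) (isKFlat_R K')
where
  isIso_Q_tensor_map (E : DRing.Cx A) {P Q : DRing.Cx A} (f : P ⟶ Q) [QuasiIso f] (hP : DRing.IsKFlat A P)
      (hQ : DRing.IsKFlat A Q) : IsIso (DerivedCategory.Q.map (f ▷ E)) := by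
    haveI := Groth.L10.DTen.isIso_Q_tensor_right' hP hQ f E
    have hn : (f ⊗ₘ 𝟙 E) ≫ (_root_.DTen.braidCx Q E).hom = (_root_.DTen.braidCx P E).hom ≫ (𝟙 E ⊗ₘ f) :=
      _root_.DTen.braidCx_naturality f (𝟙 E)
    rw [MonoidalCategory.id_tensorHom, MonoidalCategory.tensorHom_id] at hn
    have he : f ▷ E = (_root_.DTen.braidCx P E).hom ≫ (E ◁ f) ≫ (_root_.DTen.braidCx Q E).inv := by
      rw [← Category.assoc, ← hn, Category.assoc, Iso.hom_inv_id, Category.comp_id]
    rw [he, Functor.map_comp, Functor.map_comp]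
    infer_instance

theorem hasLTensorCx (E : DRing.Cx A) : DRing.HasLTensorCx A E :=
  Groth.L00.LeftDeriv.hasLeftDerivedFunctor (DRing.tensorCxQ A E) _ DerivedCategory.Q
    (Groth.L10.KFlat.R A) (Groth.L10.KFlat.r A)
    (fun _ => (HomologicalComplex.mem_quasiIso_iff _).2 (quasiIso_r _))
    (tensorCxQ_inverted E)
    (fun _ => tensorCxQ_inverted.isIso_Q_tensor_map E _ (isKFlat_R _) (isKFlat_R _))

/-- `- ⊗^L E` on a K-flat complex is the tensor product -/
theorem compute (E : DRing.Cx A) [DRing.HasLTensorCx A E] {P : DRing.Cx A} (hP : DRing.IsKFlat A P)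
    {K : Dual.D A} (e : DRing.toD P ≅ K) :
    Nonempty ((DRing.LTensorCx A E).obj K ≅ DRing.toD (P ⊗ E)) := by
  haveI : (DRing.LTensorCx A E).IsRightKanExtension
      ((DRing.tensorCxQ A E).totalLeftDerivedCounit DerivedCategory.Q
        (HomologicalComplex.quasiIso (ModuleCat.{u} A) (ComplexShape.up ℤ))) :=
    Functor.IsLeftDerivedFunctor.isRightKanExtension _ _
      (HomologicalComplex.quasiIso (ModuleCat.{u} A) (ComplexShape.up ℤ))
  haveI := Groth.L10.DTen.isIso_counit (DRing.tensorCxQ A E)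
    (HomologicalComplex.quasiIso (ModuleCat.{u} A) (ComplexShape.up ℤ)) DerivedCategory.Q
    (Groth.L10.KFlat.R A) (Groth.L10.KFlat.r A)
    (fun _ => (HomologicalComplex.mem_quasiIso_iff _).2 (quasiIso_r _))
    (tensorCxQ_inverted E)
    (fun _ => tensorCxQ_inverted.isIso_Q_tensor_map E _ (isKFlat_R _) (isKFlat_R _))
    (DRing.LTensorCx A E) ((DRing.tensorCxQ A E).totalLeftDerivedCounit DerivedCategory.Q
        (HomologicalComplex.quasiIso (ModuleCat.{u} A) (ComplexShape.up ℤ))) P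
    (tensorCxQ_inverted.isIso_Q_tensor_map E _ (isKFlat_R P) hP)
  exact ⟨(DRing.LTensorCx A E).mapIso e.symm ≪≫ asIso
    (((DRing.tensorCxQ A E).totalLeftDerivedCounit DerivedCategory.Q
        (HomologicalComplex.quasiIso (ModuleCat.{u} A) (ComplexShape.up ℤ))).app P)⟩

end LTensorCx

end Groth.L10.AmpTest
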