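import Groth.Agent.L03.ComplExact
import Mathlib.RingTheory.AdicCompletion.Completeness
import Mathlib.RingTheory.AdicCompletion.Functoriality
import Mathlib.RingTheory.Filtration
import Mathlib.RingTheory.Flat.Basic
import Mathlib.RingTheory.Flat.Tensor
import Mathlib.LinearAlgebra.TensorProduct.Finiteness
import Mathlib.LinearAlgebra.TensorProduct.RightExactness
import Mathlib.RingTheory.Finiteness.Cardinality
import Mathlib.RingTheory.TensorProduct.Pi

/-! Adic completion of `M ⊗ N` for `M` finite and `N` flat over a Noetherian ring. -/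

universe u

open scoped TensorProduct

namespace Groth.L10.AdicFlatTensor

variable {A : Type u} [CommRing A] (I : Ideal A)
variable {M M' : Type u} [AddCommGroup M] [Module A M] [AddCommGroup M'] [Module A M']
variable (N : Type u) [AddCommGroup N] [Module A N]

theorem map_add (f g : M →ₗ[A] M') (x : AdicCompletion I M) :
    AdicCompletion.map I (f + g) x = AdicCompletion.map I f x + AdicCompletion.map I g x := by
  apply AdicCompletion.induction_on I M x
  intro a
  rfl

theorem map_smul (c : A) (f : M →ₗ[A] M') (x : AdicCompletion I M) :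
    AdicCompletion.map I (c • f) x = c • AdicCompletion.map I f x := by
  apply AdicCompletion.induction_on I M x
  intro a
  rfl

variable (M) in
/-- `m ⊗ y ↦ (m ⊗ -)^ y` -/
noncomputable def psi : M ⊗[A] AdicCompletion I N →ₗ[A] AdicCompletion I (M ⊗[A] N) :=
  TensorProduct.lift
    { toFun := fun m => (AdicCompletion.map I (TensorProduct.mk A M N m)).restrictScalars A
      map_add' := fun m m' => LinearMap.ext fun x => by
        simp only [_root_.map_add, LinearMap.add_apply, LinearMap.restrictScalars_apply]
        exact map_add I _ _ x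
      map_smul' := fun c m => LinearMap.ext fun x => by
        simp only [_root_.map_smul, RingHom.id_apply, LinearMap.smul_apply, LinearMap.restrictScalars_apply]
        exact map_smul I _ _ x }

theorem psi_tmul (m : M) (y : AdicCompletion I N) :
    psi I M N (m ⊗ₜ y) = AdicCompletion.map I (TensorProduct.mk A M N m) y := rfl

theorem psi_naturality (f : M →ₗ[A] M') (z : M ⊗[A] AdicCompletion I N) :
    psi I M' N (f.rTensor _ z) = AdicCompletion.map I (f.rTensor N) (psi I M N z) := by
  induction z using TensorProduct.induction_on with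
  | zero => simp
  | add a b ha hb => simp only [_root_.map_add, ha, hb]
  | tmul m y =>
    rw [LinearMap.rTensor_tmul, psi_tmul, psi_tmul, AdicCompletion.map_comp_apply]
    rfl

theorem psi_of (z : M ⊗[A] N) :
    psi I M N ((AdicCompletion.of I N).lTensor M z) = AdicCompletion.of I (M ⊗[A] N) z := by
  induction z using TensorProduct.induction_on with
  | zero => simp
  | add a b ha hb => simp only [_root_.map_add, ha, hb]
  | tmul m y => rw [LinearMap.lTensor_tmul, psi_tmul, AdicCompletion.map_of]; rfl

theorem bijective_psi_fin (n : ℕ) : Function.Bijective (psi I (Fin n → A) N) := by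
  let π : Fin n → ((Fin n → A) ⊗[A] N →ₗ[A] N) := fun i =>
    (TensorProduct.lid A N).toLinearMap ∘ₗ (LinearMap.proj i : (Fin n → A) →ₗ[A] A).rTensor N
  let e : Fin n → (Fin n → A) := fun i => Pi.single i 1
  have hπ : ∀ (m : Fin n → A) i, π i ∘ₗ TensorProduct.mk A _ N m = m i • LinearMap.id := fun m i =>
    LinearMap.ext fun y => by simp [π]
  let back : AdicCompletion I ((Fin n → A) ⊗[A] N) →ₗ[A] (Fin n → A) ⊗[A] AdicCompletion I N :=
    ∑ i, TensorProduct.mk A (Fin n → A) (AdicCompletion I N) (e i) ∘ₗ (AdicCompletion.map I (π i)).restrictScalars A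
  have h1 : ∀ z, back (psi I _ N z) = z := fun z => by
    induction z using TensorProduct.induction_on with
    | zero => simp
    | add a b ha hb => simp only [_root_.map_add, ha, hb]
    | tmul m y =>
      simp only [back, LinearMap.sum_apply, LinearMap.comp_apply, LinearMap.restrictScalars_apply,
        TensorProduct.mk_apply, psi_tmul, AdicCompletion.map_comp_apply, hπ, map_smul, AdicCompletion.map_id,
        LinearMap.id_apply, ← TensorProduct.smul_tmul, ← TensorProduct.sum_tmul]
      congr 1
      exact (pi_eq_sum_univ' m).symm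
  have hid : ∀ x : (Fin n → A) ⊗[A] N, ∑ i, e i ⊗ₜ[A] π i x = x := fun x => by
    induction x using TensorProduct.induction_on with
    | zero => simp
    | add a b ha hb => simp only [_root_.map_add, TensorProduct.tmul_add, Finset.sum_add_distrib, ha, hb]
    | tmul m y =>
      simp only [π, LinearMap.comp_apply, LinearMap.rTensor_tmul, LinearMap.proj_apply,
        LinearEquiv.coe_coe, TensorProduct.lid_tmul, ← TensorProduct.smul_tmul, ← TensorProduct.sum_tmul]
      congr 1
      exact (pi_eq_sum_univ' m).symm
  have hs : ∀ (s : Finset (Fin n)) (w : AdicCompletion I ((Fin n → A) ⊗[A] N)),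
      ∑ i ∈ s, AdicCompletion.map I (TensorProduct.mk A _ N (e i) ∘ₗ π i) w =
        AdicCompletion.map I (∑ i ∈ s, TensorProduct.mk A _ N (e i) ∘ₗ π i) w := fun s w => by
    induction s using Finset.cons_induction with
    | empty => simp [AdicCompletion.map_zero]
    | cons a s ha ih => rw [Finset.sum_cons, Finset.sum_cons, map_add, ih]
  refine Function.bijective_iff_has_inverse.2 ⟨back, h1, fun w => ?_⟩
  simp only [back, LinearMap.sum_apply, map_sum, LinearMap.comp_apply, LinearMap.restrictScalars_apply,
    TensorProduct.mk_apply, psi_tmul, AdicCompletion.map_comp_apply]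
  rw [hs]
  have : ∑ i, TensorProduct.mk A _ N (e i) ∘ₗ π i = LinearMap.id := LinearMap.ext fun x => by
    simpa using hid x
  rw [this, AdicCompletion.map_id, LinearMap.id_apply]

variable [IsNoetherianRing A] [Module.Flat A N]

/-- completion of the tensor with a flat module of a short exact sequence of finite modules -/
theorem exact_map_rTensor {K : Type u} [AddCommGroup K] [Module A K] [Module.Finite A M]
    {i : K →ₗ[A] M} {g : M →ₗ[A] M'} (hi : Function.Injective i) (hg : Function.Surjective g)
    (hig : Function.Exact i g) :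
    Function.Injective (AdicCompletion.map I (i.rTensor N)) ∧
      Function.Exact (AdicCompletion.map I (i.rTensor N)) (AdicCompletion.map I (g.rTensor N)) ∧
      Function.Surjective (AdicCompletion.map I (g.rTensor N)) := by
  obtain ⟨c, hc⟩ := I.exists_pow_inf_eq_pow_smul (LinearMap.range i)
  refine L03.ComplExact.exact_map c (fun n y hy => ?_) (LinearMap.rTensor_surjective N hg)
    (rTensor_exact N hig hg)
  let S : Submodule A K := I ^ n • ⊤
  let T : Submodule A M := S.map i ⊔ I ^ (n + c) • ⊤
  have hST : S ≤ T.comap i := Submodule.map_le_iff_le_comap.1 le_sup_left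
  let j : (K ⧸ S) →ₗ[A] (M ⧸ T) := Submodule.mapQ S T i hST
  have hj : Function.Injective j := by
    rw [← LinearMap.ker_eq_bot, LinearMap.ker_eq_bot']
    intro q
    induction q using Submodule.Quotient.induction_on with
    | _ x =>
      intro hx
      rw [Submodule.Quotient.mk_eq_zero]
      have hx' : i x ∈ T := (Submodule.Quotient.mk_eq_zero T).1 hx
      obtain ⟨_, ⟨s, hs, rfl⟩, t, ht, hst⟩ := Submodule.mem_sup.1 hx'
      have ht' : t ∈ I ^ (n + c) • ⊤ ⊓ LinearMap.range i := ⟨ht, x - s, by rw [map_sub, ← hst, add_sub_cancel_left]⟩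
      rw [hc (n + c) (Nat.le_add_left c n), Nat.add_sub_cancel] at ht'
      obtain ⟨u, hu, hut⟩ : t ∈ S.map i := by
        refine (Submodule.smul_mono le_rfl inf_le_right).trans ?_ ht'
        rw [Submodule.map_smul'', Submodule.map_top]
      have : x = s + u := hi (by rw [← hst, _root_.map_add, hut])
      rw [this]; exact add_mem hs hu
  have hjN := Module.Flat.rTensor_preserves_injective_linearMap (M := N) j hj
  have h0 : S.mkQ.rTensor N y = 0 := by
    apply hjN
    rw [_root_.map_zero, ← LinearMap.rTensor_comp_apply,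
      show j ∘ₗ S.mkQ = T.mkQ ∘ₗ i from LinearMap.ext fun x => rfl, LinearMap.rTensor_comp_apply]
    have hle : (I ^ (n + c) • ⊤ : Submodule A (M ⊗[A] N)) ≤ LinearMap.ker (T.mkQ.rTensor N) := by
      refine Submodule.smul_le.2 fun a ha x hx => ?_
      rw [LinearMap.mem_ker]
      clear hx
      induction x using TensorProduct.induction_on with
      | zero => simp
      | add p q hp hq => rw [smul_add, _root_.map_add, hp, hq, add_zero]
      | tmul m z =>
        rw [TensorProduct.smul_tmul', LinearMap.rTensor_tmul, Submodule.mkQ_apply,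
          (Submodule.Quotient.mk_eq_zero T).2 (Submodule.mem_sup_right (Submodule.smul_mem_smul ha trivial)),
          TensorProduct.zero_tmul]
    exact LinearMap.mem_ker.1 (hle hy)
  obtain ⟨w, rfl⟩ := (rTensor_exact N (LinearMap.exact_subtype_mkQ S) S.mkQ_surjective y).1 h0
  clear hy h0
  induction w using TensorProduct.induction_on with
  | zero => simp
  | add p q hp hq => rw [_root_.map_add]; exact add_mem hp hq
  | tmul s z =>
    rw [LinearMap.rTensor_tmul]
    have h1 : (s : K) ⊗ₜ[A] z ∈ Submodule.map ((TensorProduct.mk A K N).flip z) S := ⟨s, s.2, rfl⟩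
    simp only [S, Submodule.map_smul''] at h1
    exact Submodule.smul_mono le_rfl le_top h1

theorem surjective_psi [Module.Finite A M] : Function.Surjective (psi I M N) := by
  obtain ⟨n, g, hg⟩ := Module.Finite.exists_fin' A M
  intro w
  obtain ⟨v, rfl⟩ := (exact_map_rTensor I N (K := LinearMap.ker g) Subtype.val_injective hg
    (LinearMap.exact_subtype_ker_map g)).2.2 w
  obtain ⟨u, rfl⟩ := (bijective_psi_fin I N n).2 v
  exact ⟨g.rTensor _ u, psi_naturality I N g u⟩

/-- `M ⊗ N^ ≅ (M ⊗ N)^` -/
theorem bijective_psi [Module.Finite A M] : Function.Bijective (psi I M N) := by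
  refine ⟨?_, surjective_psi I N⟩
  obtain ⟨n, g, hg⟩ := Module.Finite.exists_fin' A M
  rw [← LinearMap.ker_eq_bot, LinearMap.ker_eq_bot']
  intro z hz
  obtain ⟨w, rfl⟩ := LinearMap.rTensor_surjective (AdicCompletion I N) hg z
  rw [psi_naturality] at hz
  obtain ⟨v, hv⟩ := ((exact_map_rTensor I N (K := LinearMap.ker g) Subtype.val_injective hg
    (LinearMap.exact_subtype_ker_map g)).2.1 _).1 hz
  obtain ⟨u, rfl⟩ := surjective_psi I N v
  rw [← psi_naturality] at hv
  rw [← (bijective_psi_fin I N n).1 hv, ← LinearMap.rTensor_comp_apply,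
    (LinearMap.exact_subtype_ker_map g).linearMap_comp_eq_zero, LinearMap.rTensor_zero, LinearMap.zero_apply]

/-- the completion of a flat module is flat -/
theorem flat_completion : Module.Flat A (AdicCompletion I N) := by
  refine Module.Flat.iff_rTensor_injective'.2 fun 𝔞 => ?_
  intro z z' h
  have h1 := (exact_map_rTensor I N (M' := A ⧸ 𝔞) (i := 𝔞.subtype) Subtype.val_injective 𝔞.mkQ_surjective
    (LinearMap.exact_subtype_mkQ 𝔞)).1
  exact (bijective_psi I N).1 (h1 (by rw [← psi_naturality, ← psi_naturality, h]))

/-- torsion modules do not see completion of a flat module -/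
theorem bijective_lTensor_of (hT : ∀ x : M, ∃ n : ℕ, ∀ a ∈ I ^ n, a • x = 0) :
    Function.Bijective ((AdicCompletion.of I N).lTensor M) := by
  have hFG : I.FG := (isNoetherianRing_iff_ideal_fg A).1 inferInstance I
  have hkill : ∀ (x : M) (n : ℕ), (∀ a ∈ I ^ n, a • x = 0) →
      ∀ d ∈ (I ^ n • ⊤ : Submodule A (AdicCompletion I N)), x ⊗ₜ[A] d = 0 := fun x n hn d hd => by
    have : (I ^ n • ⊤ : Submodule A (AdicCompletion I N)) ≤
        LinearMap.ker (TensorProduct.mk A M (AdicCompletion I N) x) :=
      Submodule.smul_le.2 fun a ha y _ => by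
        rw [LinearMap.mem_ker, _root_.map_smul, TensorProduct.mk_apply, TensorProduct.smul_tmul', hn a ha,
          TensorProduct.zero_tmul]
    exact this hd
  constructor
  · rw [← LinearMap.ker_eq_bot, LinearMap.ker_eq_bot']
    intro z hz
    obtain ⟨T₀, hfin, hsub⟩ := TensorProduct.exists_finite_submodule_left_of_setFinite {z} (Set.finite_singleton z)
    obtain ⟨z₀, rfl⟩ := hsub rfl
    haveI := flat_completion I N
    have h1 : (AdicCompletion.of I N).lTensor T₀ z₀ = 0 := by
      apply Module.Flat.rTensor_preserves_injective_linearMap (M := AdicCompletion I N) T₀.subtype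
        Subtype.val_injective
      rw [_root_.map_zero, ← LinearMap.comp_apply, LinearMap.rTensor_comp_lTensor,
        ← LinearMap.lTensor_comp_rTensor, LinearMap.comp_apply]
      exact hz
    obtain ⟨k, hk⟩ : ∃ k, ∀ a ∈ I ^ k, ∀ x : T₀, a • x = 0 := by
      classical
      obtain ⟨s, hs⟩ := hfin.fg_top
      choose d hd using fun x : T₀ => hT (x : M)
      refine ⟨s.sup d, fun a ha x => ?_⟩
      have hle : Submodule.span A (s : Set T₀) ≤ LinearMap.ker (a • (LinearMap.id : T₀ →ₗ[A] T₀)) :=
        Submodule.span_le.2 fun y hy => Subtype.ext (hd y a (Ideal.pow_le_pow_right (Finset.le_sup hy) ha))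
      exact hle (hs ▸ trivial : x ∈ Submodule.span A (s : Set T₀))
    have h2 : AdicCompletion.of I (T₀ ⊗[A] N) z₀ = 0 := by rw [← psi_of, h1, _root_.map_zero]
    have h3 : z₀ ∈ (I ^ k • ⊤ : Submodule A (T₀ ⊗[A] N)) :=
      (Submodule.Quotient.mk_eq_zero _).1 (congrArg (fun w => w.val k) h2)
    have h4 : (I ^ k • ⊤ : Submodule A (T₀ ⊗[A] N)) ≤ ⊥ := Submodule.smul_le.2 fun a ha x hx => by
      rw [Submodule.mem_bot]
      clear hx
      induction x using TensorProduct.induction_on with
      | zero => simp
      | add p q hp hq => rw [smul_add, hp, hq, add_zero]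
      | tmul m y => rw [TensorProduct.smul_tmul', hk a ha m, TensorProduct.zero_tmul]
    rw [(Submodule.mem_bot A).1 (h4 h3), _root_.map_zero]
  · intro z
    induction z using TensorProduct.induction_on with
    | zero => exact ⟨0, _root_.map_zero _⟩
    | add a b ha hb =>
      obtain ⟨a', rfl⟩ := ha
      obtain ⟨b', rfl⟩ := hb
      exact ⟨a' + b', _root_.map_add _ _ _⟩
    | tmul m y =>
      obtain ⟨n, hn⟩ := hT m
      obtain ⟨y0, hy0⟩ := Submodule.Quotient.mk_surjective _ (y.val n)
      refine ⟨m ⊗ₜ y0, ?_⟩
      rw [LinearMap.lTensor_tmul, ← sub_eq_zero, ← TensorProduct.tmul_sub]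
      refine hkill m n hn _ ?_
      rw [AdicCompletion.pow_smul_top_eq_ker_eval hFG, LinearMap.mem_ker, map_sub, sub_eq_zero]
      exact hy0

end Groth.L10.AdicFlatTensor
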