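import Groth.Agent.L10.DRing.CompletionFormula
import Mathlib.Algebra.Homology.DerivedCategory.SingleTriangle
import Mathlib.Algebra.Homology.DerivedCategory.TStructure
import Mathlib.Algebra.Category.ModuleCat.Projective

/-! Cohomological bounds for derived completion. -/

universe u

open CategoryTheory CategoryTheory.Limits MonoidalCategory CategoryTheory.Pretriangulated CochainComplex
  CochainComplex.HomComplex DerCA

attribute [local instance] HasDerivedCategory.standard

set_option backward.defeqAttrib.useBackward true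
set_option backward.isDefEq.respectTransparency false
set_option linter.style.haveILetI false

namespace Groth.L10.CompletionBound

open Groth.L10.CompletionFormula

variable {A : Type u} [CommRing A]

/-- shorthand for cohomology -/
noncomputable abbrev HH (n : ℤ) : Dual.D A ⥤ ModuleCat.{u} A :=
  DerivedCategory.homologyFunctor (ModuleCat.{u} A) n

/-- cohomology of an object given by a complex -/
noncomputable def hhIso (K : DRing.Cx A) (n : ℤ) : (HH n).obj (DRing.toD K) ≅ K.homology n :=
  (DerivedCategory.homologyFunctorFactors (ModuleCat.{u} A) n).app K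

theorem isZero_homCx_iff {S J : DRing.Cx A} [J.IsKInjective] (n : ℤ) :
    IsZero ((DRing.homCx S J).homology n) ↔ ∀ φ : DRing.toD S ⟶ (DRing.toD J)⟦n⟧, φ = 0 := by
  refine ⟨fun h φ => eq_zero_of_isZero_homCx n h φ, fun h => ?_⟩
  refine (L28.HomElt.isZero_homology_iff (i := n - 1) (k := n + 1) (CochainComplex.prev ℤ n)
    (CochainComplex.next ℤ n)).2 fun (z : Cochain S J n) (hz : δ n (n + 1) z = 0) => ?_
  let c := DerivedCategory.quotientCompQhIso (ModuleCat.{u} A)
  let q := HomotopyCategory.quotient (ModuleCat.{u} A) (ComplexShape.up ℤ)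
  let e := ((DerivedCategory.Q (C := ModuleCat.{u} A)).commShiftIso n).app J
  let a := Cocycle.equivHomShift.symm (Cocycle.mk z (n + 1) rfl hz)
  have hQ : DerivedCategory.Q.map a = 0 := by
    rw [← cancel_mono e.hom, zero_comp]
    exact h _
  have hq : q.map a = 0 := by
    refine (CochainComplex.IsKInjective.Qh_map_bijective (q.obj S) (J⟦n⟧)).1 ?_
    have hn := c.hom.naturality a
    rw [Functor.comp_map, hQ, comp_zero] at hn
    rw [Functor.map_zero]
    exact (cancel_mono (c.hom.app (J⟦n⟧))).1 (hn.trans zero_comp.symm)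
  refine (mem_coboundaries_iff (Cocycle.mk z (n + 1) rfl hz) (n - 1) (sub_add_cancel n 1)).1
    ((CohomologyClass.toHom_mk_eq_zero_iff _).1 ?_)
  rw [CohomologyClass.toHom_mk]
  exact hq

theorem exists_rep (Z : Dual.D A) : ∃ J : DRing.Cx A, J.IsKInjective ∧ (∀ n, Injective (J.X n)) ∧
    Nonempty (DRing.toD J ≅ Z) := by
  let M := DerivedCategory.Q.objPreimage Z
  haveI := Groth.L10.RHomCx.isIso_Q_map (Groth.L10.KInjRes.resι M)
  exact ⟨Groth.L10.KInjRes.res M, inferInstance, fun n => inferInstance,
    ⟨(asIso (DerivedCategory.Q.map (Groth.L10.KInjRes.resι M))).symm ≪≫ DerivedCategory.Q.objObjPreimageIso Z⟩⟩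

/-- maps out of a projective module detect cohomology -/
theorem projective_hom_eq_zero (P : ModuleCat.{u} A) [Projective P] (Z : Dual.D A) (m : ℤ)
    (h : IsZero ((HH m).obj Z)) (φ : (DerivedCategory.singleFunctor (ModuleCat.{u} A) 0).obj P ⟶ Z⟦m⟧) : φ = 0 := by
  obtain ⟨J, hJ, -, ⟨e⟩⟩ := exists_rep Z
  have hz : J.ExactAt m := (HomologicalComplex.exactAt_iff_isZero_homology _ _).2
    (h.of_iso ((hhIso J m).symm ≪≫ (HH m).mapIso e))
  rw [HomologicalComplex.exactAt_iff' J (m - 1) m (m + 1) (CochainComplex.prev ℤ m) (CochainComplex.next ℤ m)] at hz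
  have key : IsZero ((DRing.homCx ((CochainComplex.singleFunctor (ModuleCat.{u} A) 0).obj P) J).homology m) := by
    refine (L28.HomElt.isZero_homology_iff (i := m - 1) (k := m + 1) (CochainComplex.prev ℤ m)
      (CochainComplex.next ℤ m)).2 fun
        (z : Cochain ((CochainComplex.singleFunctor (ModuleCat.{u} A) 0).obj P) J m) (hd : δ m (m + 1) z = 0) => ?_
    obtain ⟨f, rfl⟩ := Cochain.fromSingleMk_surjective z m (zero_add m)
    rw [Cochain.δ_fromSingleMk f _ (m + 1) (m + 1) (zero_add _)] at hd
    have hf : f ≫ J.d m (m + 1) = 0 := by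
      have := congrArg (Cochain.fromSingleEquiv (zero_add (m + 1))) hd
      rwa [Cochain.fromSingleEquiv_fromSingleMk, map_zero] at this
    refine ⟨Cochain.fromSingleMk (hz.liftFromProjective f hf) (zero_add (m - 1)), ?_⟩
    change δ (m - 1) m (Cochain.fromSingleMk _ (zero_add (m - 1))) = _
    rw [Cochain.δ_fromSingleMk _ _ m m (zero_add _)]
    congr 1
    exact hz.liftFromProjective_comp f hf
  let i0 := (DerivedCategory.singleFunctorIsoCompQ (ModuleCat.{u} A) 0).app P
  haveI := hJ
  have := (isZero_homCx_iff (S := (CochainComplex.singleFunctor (ModuleCat.{u} A) 0).obj P) (J := J) m).1 key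
    (i0.inv ≫ φ ≫ e.inv⟦m⟧')
  rw [← cancel_epi i0.inv, ← cancel_mono (e.inv⟦m⟧'), Category.assoc, comp_zero, zero_comp]
  exact this

/-- localisations have projective dimension at most one -/
theorem away_hom_eq_zero (g : A) (Z : Dual.D A) (m : ℤ) (h : ∀ j, m - 1 ≤ j → IsZero ((HH j).obj Z))
    (φ : Dual.inD A (Localization.Away g) ⟶ Z⟦m⟧) : φ = 0 := by
  obtain ⟨e⟩ := Groth.L04.RGamma.nonempty_cokernel_iso g
  let S := ShortComplex.mk (Groth.L04.RGamma.locF g) (cokernel.π (Groth.L04.RGamma.locF g)) (cokernel.condition _)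
  haveI : Projective (Groth.L04.RGamma.R₁ A) := (IsProjective.iff_projective _).1 (inferInstanceAs (Module.Projective A A))
  haveI : Projective (∐ fun _ : ℕ => Groth.L04.RGamma.R₁ A) :=
    ⟨fun a b _ => ⟨Sigma.desc fun k => Projective.factorThru (Sigma.ι (fun _ : ℕ => Groth.L04.RGamma.R₁ A) k ≫ a) b,
      Sigma.hom_ext _ _ fun k => by simp⟩⟩
  haveI : Mono S.f := Groth.L04.RGamma.mono_locF g
  haveI : Epi S.g := inferInstanceAs (Epi (cokernel.π _))
  have hS : S.ShortExact := { exact := ShortComplex.exact_of_g_is_cokernel _ (cokernelIsCokernel _) }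
  let F := DerivedCategory.singleFunctor (ModuleCat.{u} A) 0
  suffices ∀ ψ : F.obj S.X₃ ⟶ Z⟦m⟧, ψ = 0 by
    rw [← cancel_epi (F.map e.hom), comp_zero]
    exact this _
  intro ψ
  obtain ⟨ψ', rfl⟩ := Triangle.yoneda_exact₃ _ hS.singleTriangle_distinguished ψ
    (projective_hom_eq_zero (∐ fun _ : ℕ => Groth.L04.RGamma.R₁ A) Z m (h m (by omega)) _)
  suffices h0 : ψ' = 0 by rw [h0, comp_zero]
  let E := (CategoryTheory.shiftFunctorAdd' (Dual.D A) (m - 1) 1 m (by omega)).app Z
  obtain ⟨χ, hχ⟩ := (CategoryTheory.shiftFunctor (Dual.D A) (1 : ℤ)).map_surjective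
    (X := F.obj S.X₁) (Y := Z⟦m - 1⟧) (ψ' ≫ E.hom)
  rw [← cancel_mono E.hom, zero_comp]
  refine hχ.symm.trans ?_
  rw [projective_hom_eq_zero (∐ fun _ : ℕ => Groth.L04.RGamma.R₁ A) Z (m - 1) (h (m - 1) le_rfl) χ,
    Functor.map_zero]

/-- localisation as a tensor product -/
noncomputable def locNatIso (S : Submonoid A) :
    locFunctor S ≅ tensorRight (ModuleCat.of A (Localization S)) :=
  NatIso.ofComponents
    (fun M => (((LocalizedModule.equivTensorProduct S M).restrictScalars A).trans
      (TensorProduct.comm A (Localization S) M)).toModuleIso)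
    (fun {M N} g => by
      refine ModuleCat.hom_ext (LinearMap.ext fun (x : LocalizedModule S M) => ?_)
      induction x using LocalizedModule.induction_on with
      | h a s =>
        change TensorProduct.comm A (Localization S) N (LocalizedModule.equivTensorProduct S N
            (IsLocalizedModule.map S (LocalizedModule.mkLinearMap S M) (LocalizedModule.mkLinearMap S N) g.hom
              (LocalizedModule.mk a s))) =
          LinearMap.rTensor _ g.hom (TensorProduct.comm A (Localization S) M
            (LocalizedModule.equivTensorProduct S M (LocalizedModule.mk a s)))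
        rw [IsLocalizedModule.map_LocalizedModules, LocalizedModule.equivTensorProduct_apply_mk,
          LocalizedModule.equivTensorProduct_apply_mk]
        simp)

/-- termwise localisation is tensoring -/
noncomputable def locCxIso (g : A) (E : DRing.Cx A) :
    (locCx (Submonoid.powers g)).obj E ≅
      (HomologicalComplex.single (ModuleCat.{u} A) (ComplexShape.up ℤ) 0).obj
        (ModuleCat.of A (Localization.Away g)) ⊗ E :=
  (NatIso.mapHomologicalComplex (locNatIso (Submonoid.powers g)) (ComplexShape.up ℤ)).app E ≪≫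
    KFlatLBC.singleTensorIso E (ModuleCat.of A (Localization.Away g))

theorem isZero_HH_C_above : ∀ (fs : List A) (J : DRing.Cx A) [J.IsKInjective] (i : ℤ),
    (∀ j, i ≤ j → IsZero (J.homology j)) → IsZero ((C fs J).homology i)
  | [], J, _, i, h => (h i le_rfl).of_iso ((HomologicalComplex.homologyFunctor _ _ i).mapIso (nilIso J))
  | f :: fs, J, _, i, h => by
    let E := extCech (ModuleCat.of A A) fs
    haveI := RHomComp.isKInjective_homCx (CechTorsion.isKFlat fs) J
    let L := (locCx (Submonoid.powers f)).obj E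
    have hC : ∀ j, i ≤ j → IsZero ((C fs J).homology j) := fun j hj =>
      isZero_HH_C_above fs J j fun k hk => h k (by omega)
    have hS := shortExact_of_split (preSplit (coconeSplit (locCxUnit (Submonoid.powers f) E)) J)
    have h3 : IsZero ((T f fs J).homology i) := by
      refine (isZero_homCx_iff i).2 fun φ => ?_
      have hL : ∀ ψ : DRing.toD L ⟶ (DRing.toD J)⟦i + 1⟧, ψ = 0 := by
        refine (isZero_homCx_iff (i + 1)).1 ?_
        haveI := RHomCx.quasiIso_homCxPre (locCxIso f E).inv J
        refine IsZero.of_iso ?_ (asIso (HomologicalComplex.homologyMap (RHomCx.homCxPre (locCxIso f E).inv J) (i + 1)))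
        refine IsZero.of_iso ?_ ((HomologicalComplex.homologyFunctor _ _ (i + 1)).mapIso
          (HomTensor.iso _ E J)).symm
        refine (isZero_homCx_iff (i + 1)).2 fun ψ => ?_
        let i0 := (DerivedCategory.singleFunctorIsoCompQ (ModuleCat.{u} A) 0).app
          (ModuleCat.of A (Localization.Away f))
        rw [← cancel_epi i0.hom, comp_zero]
        exact away_hom_eq_zero f _ (i + 1) (fun j hj => (hC j (by omega)).of_iso (hhIso _ j)) _
      let eL := ((DerivedCategory.Q (C := ModuleCat.{u} A)).commShiftIso (-1 : ℤ)).app L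
      apply (CategoryTheory.shiftFunctor (Dual.D A) (1 : ℤ)).map_injective
      rw [Functor.map_zero, ← cancel_epi ((CategoryTheory.shiftFunctor (Dual.D A) (1 : ℤ)).map eL.inv),
        ← cancel_epi ((shiftFunctorCompIsoId (Dual.D A) (-1 : ℤ) 1 (by norm_num)).inv.app (DRing.toD L)),
        ← cancel_mono ((CategoryTheory.shiftFunctorAdd' (Dual.D A) i 1 (i + 1) rfl).inv.app (DRing.toD J)), comp_zero,
        comp_zero, zero_comp]
      exact hL _
    exact (hS.homology_exact₂ i).isZero_X₂ ((hC i le_rfl).eq_of_src _ _) (h3.eq_of_tgt _ _)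

theorem isZero_HH_C_below (fs : List A) (J : DRing.Cx A) [J.IsKInjective] (i : ℤ)
    (h : ∀ j, j ≤ i + fs.length → IsZero (J.homology j)) : IsZero ((C fs J).homology i) := by
  refine (isZero_homCx_iff i).2 fun φ => ?_
  let E := extCech (ModuleCat.of A A) fs
  haveI : CochainComplex.IsStrictlyLE E fs.length :=
    (CochainComplex.isStrictlyLE_iff E _).2 fun n hn => CechTorsion.isZero_X _ fs n (Or.inr hn)
  haveI h1 : DerivedCategory.IsLE (DRing.toD E) fs.length := inferInstance
  haveI h2 : DerivedCategory.IsGE ((DRing.toD J)⟦i⟧) (fs.length + 1) := by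
    rw [DerivedCategory.isGE_iff]
    intro j hj
    exact (h (i + j) (by omega)).of_iso
      (((DerivedCategory.homologyFunctor (ModuleCat.{u} A) 0).shiftIso i j (i + j) rfl).app (DRing.toD J) ≪≫
        hhIso J (i + j))
  exact DerivedCategory.TStructure.t.zero φ (fs.length : ℤ) ((fs.length : ℤ) + 1) (by omega)

theorem isZero_completion (I : Ideal A) [DRing.HasDerivedCompletion I] (fs : List A)
    (hI : Ideal.span {x : A | x ∈ fs} = I) (K : Dual.D A) (i : ℤ)
    (h : (∀ j, i ≤ j → IsZero ((HH j).obj K)) ∨ (∀ j, j ≤ i + fs.length → IsZero ((HH j).obj K))) :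
    IsZero ((HH i).obj ((DRing.derivedCompletion I).obj K).obj) := by
  obtain ⟨J, hJ, -, ⟨eK⟩⟩ := exists_rep K
  haveI := hJ
  obtain ⟨e, -⟩ := exists_completion_iso I fs hI J
  have hh : ∀ j, IsZero ((HH j).obj K) → IsZero (J.homology j) := fun j hj =>
    hj.of_iso ((hhIso J j).symm ≪≫ (HH j).mapIso eK)
  have hC : IsZero ((C fs J).homology i) := by
    rcases h with h | h
    · exact isZero_HH_C_above fs J i fun j hj => hh j (h j hj)
    · exact isZero_HH_C_below fs J i fun j hj => hh j (h j hj)
  exact hC.of_iso ((HH i).mapIso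
    ((ObjectProperty.ι (DRing.IsDerivedComplete I)).mapIso ((DRing.derivedCompletion I).mapIso eK.symm) ≪≫ e) ≪≫
      hhIso _ i)

end Groth.L10.CompletionBound
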