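import Groth.Agent.L10.DRing.CechTorsLocal
import Groth.Agent.L10.DRing.AdicFlatTensor
import Groth.Agent.L10.DRing.CompletionBound
import Groth.Agent.L10.KFlat.Resolution

/-! Tensoring with the adic completion of a flat module is seen as bijective by derived complete objects. -/

universe u

open CategoryTheory CategoryTheory.Limits MonoidalCategory CategoryTheory.Pretriangulated CochainComplex
  CochainComplex.HomComplex DerCA
open scoped TensorProduct

attribute [local instance] HasDerivedCategory.standard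

set_option backward.defeqAttrib.useBackward true
set_option backward.isDefEq.respectTransparency false
set_option linter.style.haveILetI false

namespace Groth.L10.CompletionAdic

open Groth.L10.CompletionFormula

variable {A : Type u} [CommRing A]

theorem singleTensorIso_naturality {N N' : ModuleCat.{u} A} (ν : N ⟶ N') (P : DRing.Cx A) :
    (NatTrans.mapHomologicalComplex ((tensoringRight (ModuleCat.{u} A)).map ν) (ComplexShape.up ℤ)).app P ≫
        (KFlatLBC.singleTensorIso P N').hom =
      (KFlatLBC.singleTensorIso P N).hom ≫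
        (HomologicalComplex.single (ModuleCat.{u} A) (ComplexShape.up ℤ) 0).map ν ▷ P := by
  ext n : 1
  simp only [KFlatLBC.singleTensorIso, Iso.trans_hom, HomologicalComplex.comp_f]
  refine ModuleCat.hom_ext (TensorProduct.ext' fun x y => ?_)
  simp [Groth.L00.SingleTotal.iso, Groth.L00.SingleTotal.XIso]
  have h := congrArg (fun φ => φ.hom) (HomologicalComplex.ι_mapBifunctorMap
    ((HomologicalComplex.single (ModuleCat.{u} A) (ComplexShape.up ℤ) 0).map ν) (𝟙 P)
    (curriedTensor (ModuleCat.{u} A)) (ComplexShape.up ℤ) 0 n n (zero_add n))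
  refine Eq.trans ?_ (LinearMap.congr_fun h _).symm
  simp [HomologicalComplex.single_map_f_self]
  have e : ∀ w, ((HomologicalComplex.singleObjXSelf (ComplexShape.up ℤ) 0 N).hom ▷ P.X n).hom
      (((HomologicalComplex.singleObjXSelf (ComplexShape.up ℤ) 0 N).inv ▷ P.X n).hom w) = w := fun w =>
    LinearMap.congr_fun (congrArg ModuleCat.Hom.hom (MonoidalCategory.inv_hom_whiskerRight
      (HomologicalComplex.singleObjXSelf (ComplexShape.up ℤ) 0 N) (P.X n))) w
  exact (congrArg _ (congrArg _ (congrArg _ (e _)))).symm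

/-- tensor with a module -/
noncomputable abbrev tC (N : ModuleCat.{u} A) : DRing.Cx A ⥤ DRing.Cx A :=
  (tensorRight N).mapHomologicalComplex (ComplexShape.up ℤ)

/-- change of the module -/
noncomputable abbrev tau {N N' : ModuleCat.{u} A} (ν : N ⟶ N') : tC N ⟶ tC N' :=
  NatTrans.mapHomologicalComplex ((tensoringRight (ModuleCat.{u} A)).map ν) (ComplexShape.up ℤ)

/-- `(W ⊗ N) ⊗ E ≅ (W ⊗ E) ⊗ N` -/
noncomputable def swapIso (W E : DRing.Cx A) (N : ModuleCat.{u} A) : (tC N).obj W ⊗ E ≅ (tC N).obj (W ⊗ E) :=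
  whiskerRightIso (KFlatLBC.singleTensorIso W N) E ≪≫ α_ _ _ _ ≪≫ (KFlatLBC.singleTensorIso (W ⊗ E) N).symm

theorem swapIso_naturality {N N' : ModuleCat.{u} A} (ν : N ⟶ N') (W E : DRing.Cx A) :
    (tau ν).app W ▷ E ≫ (swapIso W E N').hom = (swapIso W E N).hom ≫ (tau ν).app (W ⊗ E) := by
  simp only [swapIso, Iso.trans_hom, whiskerRightIso_hom, Iso.symm_hom]
  rw [← MonoidalCategory.comp_whiskerRight_assoc, singleTensorIso_naturality, MonoidalCategory.comp_whiskerRight,
    Category.assoc, MonoidalCategory.associator_naturality_left_assoc]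
  simp only [Category.assoc]
  congr 2
  rw [← cancel_epi (KFlatLBC.singleTensorIso (W ⊗ E) N).hom, Iso.hom_inv_id_assoc,
    ← reassoc_of% (singleTensorIso_naturality ν (W ⊗ E))]
  simp

theorem quasiIso_tau {N N' : ModuleCat.{u} A} [Module.Flat A N] [Module.Flat A N'] (ν : N ⟶ N')
    (E : DRing.Cx A) (h : ∀ i, Function.Bijective (ν.hom.lTensor (E.homology i : ModuleCat.{u} A))) :
    QuasiIso ((tau ν).app E) := by
  have hP : ∀ (L : ModuleCat.{u} A) [Module.Flat A L], (tensorRight L).PreservesHomology := fun L _ => by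
    haveI : PreservesFiniteColimits (tensorLeft L) := PreservesColimitsOfSize.preservesFiniteColimits.{u, u} _
    haveI : PreservesFiniteColimits (tensorRight L) :=
      preservesFiniteColimits_of_natIso (BraidedCategory.tensorLeftIsoTensorRight L)
    exact Functor.preservesHomologyOfExact _
  haveI := hP N
  haveI := hP N'
  rw [quasiIso_iff]
  intro i
  rw [quasiIsoAt_iff_isIso_homologyMap]
  have e := NatTrans.app_homology ((tensoringRight (ModuleCat.{u} A)).map ν) (E.sc i)
  haveI : IsIso (((tensoringRight (ModuleCat.{u} A)).map ν).app (E.sc i).homology) :=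
    (ConcreteCategory.isIso_iff_bijective _).2 (h i)
  have h3 : IsIso (ShortComplex.homologyMap ((E.sc i).mapNatTrans ((tensoringRight (ModuleCat.{u} A)).map ν))) := by
    rw [show ShortComplex.homologyMap ((E.sc i).mapNatTrans ((tensoringRight (ModuleCat.{u} A)).map ν)) =
      ((E.sc i).mapHomologyIso (tensorRight N)).hom ≫ ((tensoringRight (ModuleCat.{u} A)).map ν).app (E.sc i).homology ≫
        ((E.sc i).mapHomologyIso (tensorRight N')).inv by rw [e]; simp]
    infer_instance
  exact h3

theorem homCxPre_homTensor {X Y L M : DRing.Cx A} (φ : X ⟶ Y) :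
    RHomCx.homCxPre φ (DRing.homCx L M) ≫ (HomTensor.iso X L M).hom =
      (HomTensor.iso Y L M).hom ≫ RHomCx.homCxPre (φ ▷ L) M := by
  ext i (z : Cochain Y (DRing.homCx L M) i) : 3
  refine HomTensor.ext_ins fun p a m h b hb x y => ?_
  change ((HomTensor.fwd ((Cochain.ofHom φ).comp z (zero_add i))).v m b hb).hom _ =
    (((Cochain.ofHom (φ ▷ L)).comp (HomTensor.fwd z) (zero_add i)).v m b hb).hom _
  rw [HomTensor.fwd_ins _ p a m h b hb (p + i) rfl, Cochain.zero_cochain_comp_v, Cochain.ofHom_v]
  have hι := LinearMap.congr_fun (congrArg (fun t => t.hom) (HomologicalComplex.ι_mapBifunctorMap φ (𝟙 L)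
    (curriedTensor (ModuleCat.{u} A)) (ComplexShape.up ℤ) p a m h)) (x ⊗ₜ y)
  refine Eq.trans ?_ (congrArg (((HomTensor.fwd z).v m b hb).hom) hι).symm
  refine Eq.trans ?_ (HomTensor.fwd_ins z p a m h b hb (p + i) rfl (φ.f p x) y).symm
  have hc : ((Cochain.ofHom φ).comp z (zero_add i)).v p (p + i) rfl = φ.f p ≫ z.v p (p + i) rfl := by
    rw [Cochain.zero_cochain_comp_v, Cochain.ofHom_v]
  exact congrArg (fun w : Cochain L M (p + i) => (w.v a b (by omega)).hom y)
    (LinearMap.congr_fun (congrArg ModuleCat.Hom.hom hc) x)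

theorem bijective_precomp {X Y P : DRing.Cx A} [P.IsKInjective] (φ : X ⟶ Y)
    [QuasiIso (RHomCx.homCxPre φ P)] :
    Function.Bijective fun b : DRing.toD Y ⟶ DRing.toD P => DerivedCategory.Q.map φ ≫ b := by
  let q := HomotopyCategory.quotient (ModuleCat.{u} A) (ComplexShape.up ℤ)
  let c := DerivedCategory.quotientCompQhIso (ModuleCat.{u} A)
  have rep : ∀ (E : DRing.Cx A) (t : DRing.toD E ⟶ DRing.toD P), ∃ a : E ⟶ P, DerivedCategory.Q.map a = t := by
    intro E t
    obtain ⟨a', ha⟩ := (CochainComplex.IsKInjective.Qh_map_bijective (q.obj E) P).2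
      (c.hom.app E ≫ t ≫ c.inv.app P)
    obtain ⟨a, rfl⟩ := q.map_surjective a'
    refine ⟨a, ?_⟩
    rw [← cancel_epi (c.hom.app E), ← cancel_mono (c.inv.app P), Category.assoc, Category.assoc, ← ha]
    have hn := c.hom.naturality a
    simp only [Functor.comp_map] at hn
    rw [← reassoc_of% hn, Iso.hom_inv_id_app]
    exact Category.comp_id _
  have heq : ∀ {E : DRing.Cx A} (a b : E ⟶ P), DerivedCategory.Q.map a = DerivedCategory.Q.map b →
      ∃ w : Cochain E P (-1), δ (-1) 0 w = Cochain.ofHom a - Cochain.ofHom b := fun {E} a b hab => by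
    have h1 : q.map a = q.map b := (CochainComplex.IsKInjective.Qh_map_bijective (q.obj E) P).1 (by
      rw [← cancel_mono (c.hom.app P)]
      exact (c.hom.naturality a).trans ((congrArg (c.hom.app E ≫ ·) hab).trans (c.hom.naturality b).symm))
    obtain ⟨w, hw⟩ := Cochain.equivHomotopy a b (HomotopyCategory.homotopyOfEq _ _ h1)
    exact ⟨w, by rw [hw, add_sub_cancel_right]⟩
  have heq' : ∀ {E : DRing.Cx A} (a b : E ⟶ P) (w : Cochain E P (-1)),
      δ (-1) 0 w = Cochain.ofHom a - Cochain.ofHom b → DerivedCategory.Q.map a = DerivedCategory.Q.map b :=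
    fun {E} a b w hw => by
      have h1 : q.map a = q.map b := HomotopyCategory.eq_of_homotopy _ _
        ((Cochain.equivHomotopy a b).symm ⟨w, by rw [hw, sub_add_cancel]⟩)
      rw [← cancel_epi (c.hom.app E)]
      exact (c.hom.naturality a).symm.trans ((congrArg (DerivedCategory.Qh.map · ≫ c.hom.app P) h1).trans
        (c.hom.naturality b))
  have hb : Function.Bijective (HomologicalComplex.homologyMap (RHomCx.homCxPre φ P) 0).hom :=
    (ConcreteCategory.isIso_iff_bijective _).1 inferInstance
  have hinj := (L28.HomElt.injective_homologyMap_iff (RHomCx.homCxPre φ P) (i := -1) (j := 0) (k := 1)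
    (by simp) (by simp)).1 hb.1
  have hsur := (L28.HomElt.surjective_homologyMap_iff (RHomCx.homCxPre φ P) (i := -1) (j := 0) (k := 1)
    (by simp) (by simp)).1 hb.2
  refine ⟨fun s t hst => ?_, fun t => ?_⟩
  · obtain ⟨a, rfl⟩ := rep Y s
    obtain ⟨b, rfl⟩ := rep Y t
    simp only [← Functor.map_comp] at hst
    obtain ⟨w, hw⟩ := heq _ _ hst
    obtain ⟨v, hv⟩ := hinj (Cochain.ofHom a - Cochain.ofHom b : Cochain Y P 0) w (by
        change δ 0 1 (Cochain.ofHom a - Cochain.ofHom b) = 0
        simp) (by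
        change (Cochain.ofHom φ).comp (Cochain.ofHom a - Cochain.ofHom b) (zero_add 0) = δ (-1) 0 w
        rw [hw, Cochain.comp_sub, Cochain.ofHom_comp, Cochain.ofHom_comp])
    exact heq' a b v hv
  · obtain ⟨a, rfl⟩ := rep X t
    obtain ⟨z, w, hz, he⟩ := hsur (Cochain.ofHom a : Cochain X P 0) (by
      change δ 0 1 (Cochain.ofHom a) = 0
      simp)
    change δ 0 1 z = 0 at hz
    change (Cochain.ofHom φ).comp z (zero_add 0) + δ (-1) 0 w = Cochain.ofHom a at he
    let b : Y ⟶ P := Cocycle.homOf (Cocycle.mk z 1 (by norm_num) hz)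
    refine ⟨DerivedCategory.Q.map b, ?_⟩
    change DerivedCategory.Q.map φ ≫ DerivedCategory.Q.map b = _
    rw [← Functor.map_comp]
    refine (heq' a (φ ≫ b) w ?_).symm
    rw [Cochain.ofHom_comp, show Cochain.ofHom b = z from Cocycle.cochain_ofHom_homOf_eq_coe _,
      eq_sub_iff_add_eq, add_comm]
    exact he

theorem cbij_of_quasiIso (I : Ideal A) (fs : List A) (hI : Ideal.span {x : A | x ∈ fs} = I) {X Y : DRing.Cx A}
    (φ : X ⟶ Y) [QuasiIso (φ ▷ extCech (ModuleCat.of A A) fs)] : Cbij I (DerivedCategory.Q.map φ) := by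
  intro P hP
  obtain ⟨J, hJ, -, ⟨e⟩⟩ := CompletionBound.exists_rep P
  obtain ⟨e', -⟩ := exists_iso I (cbij_iso I (𝟙 (DRing.toD J)))
    (cbij_eta I J fs fun x hx => hI ▸ Ideal.subset_span hx) (isComplete_of_iso I e.symm hP) (isComplete I fs hI.ge J)
  haveI := RHomComp.isKInjective_homCx (CechTorsion.isKFlat fs) J
  haveI : QuasiIso (RHomCx.homCxPre φ (C fs J)) := by
    haveI := RHomCx.quasiIso_homCxPre (φ ▷ extCech (ModuleCat.of A A) fs) J
    rw [show RHomCx.homCxPre φ (C fs J) = (HomTensor.iso Y _ J).hom ≫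
      RHomCx.homCxPre (φ ▷ extCech (ModuleCat.of A A) fs) J ≫ (HomTensor.iso X _ J).inv by
        rw [← Category.assoc, ← homCxPre_homTensor, Category.assoc, Iso.hom_inv_id, Category.comp_id]]
    infer_instance
  have hb := bijective_precomp (P := C fs J) φ
  let u : P ≅ DRing.toD (C fs J) := e.symm ≪≫ e'
  refine ⟨fun a b hab => (cancel_mono u.hom).1 (hb.1 ?_), fun a => ?_⟩
  · change DerivedCategory.Q.map φ ≫ a ≫ u.hom = DerivedCategory.Q.map φ ≫ b ≫ u.hom
    rw [← Category.assoc, ← Category.assoc]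
    exact congrArg (· ≫ u.hom) hab
  · obtain ⟨b, hb⟩ := hb.2 (a ≫ u.hom)
    refine ⟨b ≫ u.inv, ?_⟩
    change DerivedCategory.Q.map φ ≫ b = a ≫ u.hom at hb
    change DerivedCategory.Q.map φ ≫ b ≫ u.inv = a
    rw [reassoc_of% hb, Iso.hom_inv_id, Category.comp_id]

/-- Čech cohomology of every complex is torsion -/
theorem isPowerTorsion_homology (I : Ideal A) (fs : List A) (hI : Ideal.span {x : A | x ∈ fs} = I) (hFG : I.FG)
    (W : DRing.Cx A) (i : ℤ) :
    LocCoh.IsPowerTorsion I ((W ⊗ extCech (ModuleCat.of A A) fs).homology i : ModuleCat.{u} A) := by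
  refine CechTorsLocal.isPowerTorsion_of_elements I hFG _ fun g hg => CechTorsLocal.subsingleton_tensor_away g ?_
  haveI : Module.Flat A (ModuleCat.of A (Localization.Away g)) :=
    IsLocalization.flat (Localization.Away g) (Submonoid.powers g)
  refine (LocalAmp.isZero_tensor_flat_iff _ (ModuleCat.of A (Localization.Away g)) i).1 ?_
  let E := extCech (ModuleCat.of A A) fs
  let S := (HomologicalComplex.single (ModuleCat.{u} A) (ComplexShape.up ℤ) 0).obj (ModuleCat.of A (Localization.Away g))
  have hS : DRing.IsKFlat A S := Groth.L10.KFlat.of_bounded _ 0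
    (fun n hn => HomologicalComplex.isZero_single_obj_X _ _ _ _ (by omega)) (fun n => by
      by_cases hn : n = 0
      · subst hn
        exact Groth.L10.KFlat.flat_of_iso (HomologicalComplex.singleObjXSelf (ComplexShape.up ℤ) 0 _).symm ‹_›
      · exact Groth.L10.KFlat.flat_zero (HomologicalComplex.isZero_single_obj_X _ _ _ _ hn))
  refine (Groth.L10.KFlat.acyclic_tensor (S ⊗ E) (Groth.L10.KFlat.isKFlat_tensor hS (CechTorsion.isKFlat fs))
    (fun j => CechTorsion.isZero_away_tensor fs (hI.ge hg) j) W i).of_iso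
    ((HomologicalComplex.homologyFunctor _ _ i).mapIso (KFlatLBC.singleTensorIso _ _ ≪≫
      (Groth.L10.KFlat.T S).mapIso (DTen.braidCx W E) ≪≫ (α_ S E W).symm ≪≫ DTen.braidCx (S ⊗ E) W))

/-- the completion map of a flat module, tensored with any complex -/
theorem cbij_tau [IsNoetherianRing A] (I : Ideal A) (N : ModuleCat.{u} A) [Module.Flat A N] (W : DRing.Cx A) :
    Cbij I (DerivedCategory.Q.map ((tau (ModuleCat.ofHom (AdicCompletion.of I N))).app W)) := by
  have hFG : I.FG := (isNoetherianRing_iff_ideal_fg A).1 inferInstance I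
  obtain ⟨s, hs⟩ := hFG
  have hI : Ideal.span {x : A | x ∈ s.toList} = I := by
    rw [← hs]; congr 1; ext; simp
  let ν : N ⟶ ModuleCat.of A (AdicCompletion I N) := ModuleCat.ofHom (AdicCompletion.of I N)
  haveI : Module.Flat A (ModuleCat.of A (AdicCompletion I N)) := AdicFlatTensor.flat_completion I N
  let E := extCech (ModuleCat.of A A) s.toList
  haveI : QuasiIso ((tau ν).app (W ⊗ E)) := quasiIso_tau ν _ fun i =>
    AdicFlatTensor.bijective_lTensor_of I N
      (isPowerTorsion_homology I s.toList hI ((isNoetherianRing_iff_ideal_fg A).1 inferInstance I) W i)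
  haveI : QuasiIso ((tau ν).app W ▷ E) := by
    rw [show (tau ν).app W ▷ E = (swapIso W E N).hom ≫ (tau ν).app (W ⊗ E) ≫ (swapIso W E _).inv by
      rw [← Category.assoc, ← swapIso_naturality, Category.assoc, Iso.hom_inv_id, Category.comp_id]]
    infer_instance
  exact cbij_of_quasiIso I s.toList hI _

end Groth.L10.CompletionAdic
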