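import Groth.Agent.L10.DRing.CompletionTriangle
import Groth.Agent.L10.DRing.CompletionAdic

/-! Dévissage along the extended Čech complex. -/

universe u

open CategoryTheory CategoryTheory.Limits MonoidalCategory CategoryTheory.Pretriangulated CochainComplex DerCA

attribute [local instance] HasDerivedCategory.standard

set_option backward.defeqAttrib.useBackward true
set_option backward.isDefEq.respectTransparency false
set_option linter.style.haveILetI false

namespace Groth.L10.CechDevissage

open Groth.L10.CompletionFormula Groth.L10.CompletionTriangle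

variable {A : Type u} [CommRing A] (I : Ideal A)

theorem cbij_neg_shift {X Y : Dual.D A} {φ : X ⟶ Y} (h : Cbij I φ) : Cbij I (φ⟦(-1 : ℤ)⟧') := fun P hP => by
  let e := (shiftEquiv' (Dual.D A) (-1 : ℤ) 1 (by norm_num)).toAdjunction
  have hb := h _ (Groth.L04.RGamma.isComplete_shift I hP 1)
  have : (fun b : Y⟦(-1 : ℤ)⟧ ⟶ P => φ⟦(-1 : ℤ)⟧' ≫ b) =
      (e.homEquiv X P).symm ∘ (fun b => φ ≫ b) ∘ e.homEquiv Y P := by
    funext b
    exact ((Equiv.symm_apply_eq _).2 (e.homEquiv_naturality_left φ b).symm).symm
  rw [this]
  exact ((e.homEquiv X P).symm.bijective.comp hb).comp (e.homEquiv Y P).bijective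

variable {F G : ModuleCat.{u} A ⥤ ModuleCat.{u} A} [F.Additive] [G.Additive] (τ : F ⟶ G)

/-- the component of `τ` at a complex is seen as bijective by complete objects -/
def Sees (K : DRing.Cx A) : Prop :=
  Cbij I (DerivedCategory.Q.map ((NatTrans.mapHomologicalComplex τ (ComplexShape.up ℤ)).app K))

variable {I τ}

theorem Sees.of_iso {K K' : DRing.Cx A} (e : K ≅ K') (h : Sees I τ K) : Sees I τ K' := by
  unfold Sees at *
  rw [show (NatTrans.mapHomologicalComplex τ (ComplexShape.up ℤ)).app K' =
      (F.mapHomologicalComplex _).map e.inv ≫ (NatTrans.mapHomologicalComplex τ (ComplexShape.up ℤ)).app K ≫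
        (G.mapHomologicalComplex _).map e.hom by
    rw [← (NatTrans.mapHomologicalComplex τ (ComplexShape.up ℤ)).naturality, ← Category.assoc, ← Functor.map_comp,
      Iso.inv_hom_id, CategoryTheory.Functor.map_id, Category.id_comp],
    Functor.map_comp, Functor.map_comp]
  exact Cbij.comp I (cbij_iso I _) (Cbij.comp I h (cbij_iso I _))

theorem Sees.shift {K : DRing.Cx A} (h : Sees I τ K) : Sees I τ (K⟦(-1 : ℤ)⟧) := by
  unfold Sees at *
  let eF := (F.mapHomologicalComplex (ComplexShape.up ℤ)).commShiftIso (-1 : ℤ)
  let eG := (G.mapHomologicalComplex (ComplexShape.up ℤ)).commShiftIso (-1 : ℤ)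
  let t := (NatTrans.mapHomologicalComplex τ (ComplexShape.up ℤ)).app K
  have e : (NatTrans.mapHomologicalComplex τ (ComplexShape.up ℤ)).app (K⟦(-1 : ℤ)⟧) =
      eF.hom.app K ≫ (CategoryTheory.shiftFunctor (DRing.Cx A) (-1 : ℤ)).map t ≫ eG.inv.app K := by
    ext n : 1
    simp [eF, eG, t]
  rw [e, Functor.map_comp, Functor.map_comp]
  refine Cbij.comp I (cbij_iso I _) (Cbij.comp I ?_ (cbij_iso I _))
  let c := (DerivedCategory.Q (C := ModuleCat.{u} A)).commShiftIso (-1 : ℤ)
  have hn : DerivedCategory.Q.map ((CategoryTheory.shiftFunctor (DRing.Cx A) (-1 : ℤ)).map t) =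
      c.hom.app _ ≫ (DerivedCategory.Q.map t)⟦(-1 : ℤ)⟧' ≫ c.inv.app _ := by
    have := c.hom.naturality t
    simp only [Functor.comp_map] at this
    rw [← reassoc_of% this, Iso.hom_inv_id_app]
    exact (Category.comp_id _).symm
  rw [hn]
  exact Cbij.comp I (cbij_iso I _) (Cbij.comp I (cbij_neg_shift I h) (cbij_iso I _))

/-- the middle term of a degreewise split short exact sequence -/
theorem Sees.middle {S : ShortComplex (DRing.Cx A)} (σ : ∀ i, (deg S i).Splitting)
    (h₁ : Sees I τ S.X₁) (h₃ : Sees I τ S.X₃) : Sees I τ S.X₂ := by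
  have hF : (S.map (F.mapHomologicalComplex (ComplexShape.up ℤ))).ShortExact :=
    shortExact_of_split (fun i => (σ i).map F)
  have hG : (S.map (G.mapHomologicalComplex (ComplexShape.up ℤ))).ShortExact :=
    shortExact_of_split (fun i => (σ i).map G)
  have hTF := inv_rot_of_distTriang _ (DerivedCategory.triangleOfSES_distinguished hF)
  have hTG := inv_rot_of_distTriang _ (DerivedCategory.triangleOfSES_distinguished hG)
  exact cbij₃ I hTF hTG
    ((invRotate (Dual.D A)).map
      (DerivedCategory.triangleOfSES.map hF hG (S.mapNatTrans (NatTrans.mapHomologicalComplex τ _))))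
    (cbij_neg_shift I h₃) h₁

/-- `Č ⊗ N` is seen when all flat modules in degree zero are -/
theorem sees_tensor_extCech
    (h : ∀ X : ModuleCat.{u} A, Module.Flat A X →
      Sees I τ ((HomologicalComplex.single (ModuleCat.{u} A) (ComplexShape.up ℤ) 0).obj X)) :
    ∀ (fs : List A) (N : ModuleCat.{u} A), Module.Flat A N →
      Sees I τ ((CompletionAdic.tC N).obj (extCech (ModuleCat.of A A) fs))
  | [], N, hN => by
    haveI := hN
    refine Sees.of_iso ((HomologicalComplex.singleMapHomologicalComplex (tensorRight N) (ComplexShape.up ℤ) 0).app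
      (ModuleCat.of A A)).symm (h _ ?_)
    exact Module.Flat.of_linearEquiv (TensorProduct.lid A N)
  | f :: fs, N, hN => by
    haveI := hN
    let S := Submonoid.powers f
    let L : ModuleCat.{u} A := ModuleCat.of A (Localization S)
    haveI : Module.Flat A L := IsLocalization.flat (Localization S) S
    let E := extCech (ModuleCat.of A A) fs
    have hloc : Sees I τ ((CompletionAdic.tC N).obj ((locCx S).obj E)) := by
      refine Sees.of_iso ?_ (sees_tensor_extCech h fs (L ⊗ N) (inferInstanceAs (Module.Flat A (TensorProduct A L N))))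
      exact (NatIso.mapHomologicalComplex (NatIso.ofComponents (fun M => (α_ M L N).symm)
          (fun g => by
            refine ModuleCat.hom_ext (TensorProduct.ext' fun x y => ?_)
            induction y using TensorProduct.induction_on with
            | zero => simp
            | tmul a b => rfl
            | add a b ha hb => simp only [TensorProduct.tmul_add, _root_.map_add, ha, hb]) :
          tensorRight (L ⊗ N) ≅ tensorRight L ⋙ tensorRight N) (ComplexShape.up ℤ)).app E ≪≫
        (CompletionAdic.tC N).mapIso
          ((NatIso.mapHomologicalComplex (CompletionBound.locNatIso S) (ComplexShape.up ℤ)).app E).symm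
    refine Sees.middle (S := (coconeSC (locCxUnit S E)).map (CompletionAdic.tC N))
      (fun i => (coconeSplit (locCxUnit S E) i).map (tensorRight N)) ?_ (sees_tensor_extCech h fs N hN)
    exact Sees.of_iso (((CompletionAdic.tC N).commShiftIso (-1 : ℤ)).app _).symm hloc.shift

end Groth.L10.CechDevissage
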