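import Groth.Agent.L10.DRing.CompletionFinite

/-! Derived completion of `M ⊗ N`, `M` finite and `N` flat. -/

universe u

open CategoryTheory CategoryTheory.Limits MonoidalCategory DerCA
open scoped TensorProduct

attribute [local instance] HasDerivedCategory.standard

set_option backward.defeqAttrib.useBackward true
set_option backward.isDefEq.respectTransparency false
set_option linter.style.haveILetI false

namespace Groth.L10.CompletionFlat

open Groth.L10.CompletionFormula Groth.L10.CompletionBound

variable {A : Type u} [CommRing A]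

/-- single complexes commute with changes of functors -/
theorem single_natTrans {F G : ModuleCat.{u} A ⥤ ModuleCat.{u} A} [F.PreservesZeroMorphisms]
    [G.PreservesZeroMorphisms] (τ : F ⟶ G) (M : ModuleCat.{u} A) :
    (NatTrans.mapHomologicalComplex τ (ComplexShape.up ℤ)).app
        ((HomologicalComplex.single (ModuleCat.{u} A) (ComplexShape.up ℤ) 0).obj M) ≫
      (HomologicalComplex.singleMapHomologicalComplex G (ComplexShape.up ℤ) 0).hom.app M =
    (HomologicalComplex.singleMapHomologicalComplex F (ComplexShape.up ℤ) 0).hom.app M ≫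
      (HomologicalComplex.single (ModuleCat.{u} A) (ComplexShape.up ℤ) 0).map (τ.app M) := by
  refine HomologicalComplex.to_single_hom_ext ?_
  simp [HomologicalComplex.single_map_f_self]

variable [IsNoetherianRing A] (I : Ideal A) (M N : Type u) [AddCommGroup M] [Module A M] [Module.Finite A M]
  [AddCommGroup N] [Module A N] [Module.Flat A N]

/-- `(M ⊗ N)^` is the derived completion, on modules -/
theorem cbij_of :
    Cbij I ((DerivedCategory.singleFunctor (ModuleCat.{u} A) 0).map
      (ModuleCat.ofHom (AdicCompletion.of I (M ⊗[A] N)))) := by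
  let Nh : ModuleCat.{u} A := ModuleCat.of A (AdicCompletion I N)
  let ν : ModuleCat.of A N ⟶ Nh := ModuleCat.ofHom (AdicCompletion.of I N)
  let s := (HomologicalComplex.single (ModuleCat.{u} A) (ComplexShape.up ℤ) 0)
  let ψ : ModuleCat.of A (M ⊗[A] AdicCompletion I N) ≅ ModuleCat.of A (AdicCompletion I (M ⊗[A] N)) :=
    (LinearEquiv.ofBijective _ (AdicFlatTensor.bijective_psi I N (M := M))).toModuleIso
  let a := (HomologicalComplex.singleMapHomologicalComplex (tensorRight (ModuleCat.of A N)) (ComplexShape.up ℤ) 0).app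
    (ModuleCat.of A M)
  let b := (HomologicalComplex.singleMapHomologicalComplex (tensorRight Nh) (ComplexShape.up ℤ) 0).app
    (ModuleCat.of A M)
  let t := (CompletionAdic.tau ν).app (s.obj (ModuleCat.of A M))
  have h : s.map (ModuleCat.ofHom (AdicCompletion.of I (M ⊗[A] N))) = a.inv ≫ t ≫ b.hom ≫ s.map ψ.hom := by
    have := single_natTrans ((tensoringRight (ModuleCat.{u} A)).map ν) (ModuleCat.of A M)
    change t ≫ b.hom = a.hom ≫ _ at this
    rw [reassoc_of% this, Iso.inv_hom_id_assoc, ← Functor.map_comp]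
    exact congrArg _ (ModuleCat.hom_ext (LinearMap.ext fun z => (AdicFlatTensor.psi_of I N z).symm))
  let i0 := DerivedCategory.singleFunctorIsoCompQ (ModuleCat.{u} A) 0
  have hn := i0.hom.naturality (ModuleCat.ofHom (AdicCompletion.of I (M ⊗[A] N)))
  have h' : (DerivedCategory.singleFunctor (ModuleCat.{u} A) 0).map (ModuleCat.ofHom (AdicCompletion.of I (M ⊗[A] N))) =
      (i0.hom.app _ ≫ DerivedCategory.Q.map a.inv) ≫ DerivedCategory.Q.map t ≫
        (DerivedCategory.Q.map (b.hom ≫ s.map ψ.hom) ≫ i0.inv.app _) := by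
    rw [← cancel_mono (i0.hom.app (ModuleCat.of A (AdicCompletion I (M ⊗[A] N))))]
    refine hn.trans ?_
    simp only [Category.assoc, Iso.inv_hom_id_app, ← Functor.map_comp_assoc]
    refine Eq.trans ?_ (congrArg _ (Category.comp_id _).symm)
    exact congrArg (i0.hom.app _ ≫ ·) (congrArg DerivedCategory.Q.map h)
  rw [h']
  exact Cbij.comp I (cbij_iso I _) (Cbij.comp I (CompletionAdic.cbij_tau I (ModuleCat.of A N) _) (cbij_iso I _))

theorem derivedCompletion_tensor [DRing.HasDerivedCompletion I] :
    (∀ i : ℤ, i ≠ 0 → Subsingleton (Dual.HD A ((DRing.derivedCompletion I).obj (Dual.inD A (M ⊗[A] N))).obj i)) ∧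
      ∃ e : Dual.HD A ((DRing.derivedCompletion I).obj (Dual.inD A (M ⊗[A] N))).obj 0 ≃ₗ[A]
          AdicCompletion I (M ⊗[A] N),
        ∀ x : M ⊗[A] N,
          e ((((DerivedCategory.singleFunctorCompHomologyFunctorIso (ModuleCat.{u} A) 0).inv.app
                (ModuleCat.of A (M ⊗[A] N))) ≫
              (DerivedCategory.homologyFunctor (ModuleCat.{u} A) 0).map
                (DRing.toDerivedCompletion I (Dual.inD A (M ⊗[A] N)))).hom x) =
            AdicCompletion.of I (M ⊗[A] N) x := by
  have hFG : I.FG := (isNoetherianRing_iff_ideal_fg A).1 inferInstance I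
  haveI := AdicCompletion.isAdicComplete (M := M ⊗[A] N) hFG
  obtain ⟨e, he⟩ := exists_iso I (cbij_toDerivedCompletion I (Dual.inD A (M ⊗[A] N))) (cbij_of I M N)
    ((DRing.derivedCompletion I).obj _).property
    ((L04.RGamma.isDerivedComplete_inD_iff I _).2 fun f hf => L04.RGamma.tzMod_of_isAdicComplete I hf)
  let H := DerivedCategory.singleFunctorCompHomologyFunctorIso (ModuleCat.{u} A) 0
  refine ⟨fun i hi => ?_, ((HH 0).mapIso e ≪≫ H.app (ModuleCat.of A (AdicCompletion I (M ⊗[A] N)))).toLinearEquiv,
    fun x => ?_⟩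
  · haveI := L04.RGamma.subsingleton_HD_inD (A := A) (M := AdicCompletion I (M ⊗[A] N)) hi
    exact ((HH i).mapIso e).toLinearEquiv.toEquiv.subsingleton
  · have key : (H.inv.app (ModuleCat.of A (M ⊗[A] N)) ≫
        (HH 0).map (DRing.toDerivedCompletion I (Dual.inD A (M ⊗[A] N)))) ≫
        ((HH 0).mapIso e ≪≫ H.app (ModuleCat.of A (AdicCompletion I (M ⊗[A] N)))).hom =
        ModuleCat.ofHom (AdicCompletion.of I (M ⊗[A] N)) := by
      simp only [Iso.trans_hom, Functor.mapIso_hom, Category.assoc, Iso.app_hom]
      rw [← Functor.map_comp_assoc, he]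
      refine (cancel_epi (H.hom.app (ModuleCat.of A (M ⊗[A] N)))).1 ?_
      rw [Iso.hom_inv_id_app_assoc]
      exact H.hom.naturality _
    exact LinearMap.congr_fun (congrArg ModuleCat.Hom.hom key) x

end Groth.L10.CompletionFlat
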