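import Groth.Agent.L10.DRing.CechTorsLocal
import Groth.Agent.L10.DRing.CompletionFlat

/-! `RΓ_J` of a module: the Čech complex tensored with it, naturally. -/

universe u

open CategoryTheory CategoryTheory.Limits MonoidalCategory CochainComplex DerCA

attribute [local instance] HasDerivedCategory.standard

set_option backward.defeqAttrib.useBackward true
set_option backward.isDefEq.respectTransparency false
set_option linter.style.haveILetI false

namespace Groth.L10.GammaTensor

open Groth.L10.CompletionFormula Groth.L10.CechTorsLocal Groth.L04.RGamma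

variable {A : Type u} [CommRing A]

/-- `Č ⟶ A` -/
noncomputable def augE : ∀ fs : List A, extCech (ModuleCat.of A A) fs ⟶
    (HomologicalComplex.single (ModuleCat.{u} A) (ComplexShape.up ℤ) 0).obj (ModuleCat.of A A)
  | [] => 𝟙 _
  | f :: fs => mappingCocone.fst (locCxUnit (Submonoid.powers f) (extCech (ModuleCat.of A A) fs)) ≫ augE fs

theorem tC_map_smul (N : ModuleCat.{u} A) {K L : DRing.Cx A} (f : A) (g : K ⟶ L) :
    (CompletionAdic.tC N).map (f • g) = f • (CompletionAdic.tC N).map g := by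
  ext n : 1
  refine ModuleCat.hom_ext (TensorProduct.ext' fun x y => ?_)
  change (f • (g.f n).hom x) ⊗ₜ[A] y = f • ((g.f n).hom x ⊗ₜ[A] y)
  rw [TensorProduct.smul_tmul']

/-- `X ⊗ Č ⟶ X` -/
noncomputable def augM (N : ModuleCat.{u} A) (fs : List A) :
    (CompletionAdic.tC N).obj (extCech (ModuleCat.of A A) fs) ⟶
      (HomologicalComplex.single (ModuleCat.{u} A) (ComplexShape.up ℤ) 0).obj N :=
  (CompletionAdic.tC N).map (augE fs) ≫
    (HomologicalComplex.singleMapHomologicalComplex (tensorRight N) (ComplexShape.up ℤ) 0).hom.app (ModuleCat.of A A) ≫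
    (HomologicalComplex.single (ModuleCat.{u} A) (ComplexShape.up ℤ) 0).map (λ_ N).hom

theorem augM_naturality {N N' : ModuleCat.{u} A} (ν : N ⟶ N') (fs : List A) :
    (CompletionAdic.tau ν).app _ ≫ augM N' fs =
      augM N fs ≫ (HomologicalComplex.single (ModuleCat.{u} A) (ComplexShape.up ℤ) 0).map ν := by
  simp only [augM, Category.assoc, ← Functor.map_comp]
  rw [← (CompletionAdic.tau ν).naturality_assoc,
    reassoc_of% (CompletionFlat.single_natTrans ((tensoringRight (ModuleCat.{u} A)).map ν) (ModuleCat.of A A)),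
    ← Functor.map_comp]
  congr 3
  exact MonoidalCategory.leftUnitor_naturality ν

variable [IsNoetherianRing A] (J : Ideal A) [DRing.HasRgammaI J]

theorem tbij_augE (N : ModuleCat.{u} A) : ∀ fs : List A, (∀ x ∈ fs, x ∈ J) →
    Tbij J (DerivedCategory.Q.map ((CompletionAdic.tC N).map (augE fs)))
  | [], _ => by rw [augE, CategoryTheory.Functor.map_id, CategoryTheory.Functor.map_id]; exact tbij_iso J _
  | f :: fs, h => by
    rw [augE, Functor.map_comp, Functor.map_comp]
    refine Tbij.comp ?_ (tbij_augE N fs fun x hx => h x (List.mem_cons_of_mem _ hx))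
    let φ := locCxUnit (Submonoid.powers f) (extCech (ModuleCat.of A A) fs)
    let S := (coconeSC φ).map (CompletionAdic.tC N)
    haveI := isIso_smul_locCx f (extCech (ModuleCat.of A A) fs)
    haveI : IsIso (f • 𝟙 (((locCx (Submonoid.powers f)).obj (extCech (ModuleCat.of A A) fs))⟦(-1 : ℤ)⟧)) :=
      isIso_smul_shift f _ _
    haveI : IsIso (f • 𝟙 S.X₁) := by
      change IsIso (f • 𝟙 ((CompletionAdic.tC N).obj (((locCx (Submonoid.powers f)).obj (extCech (ModuleCat.of A A) fs))⟦(-1 : ℤ)⟧)))
      rw [← CategoryTheory.Functor.map_id, ← tC_map_smul]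
      infer_instance
    exact tbij_of_ses J (S := S) (shortExact_of_split fun i => (coconeSplit φ i).map (tensorRight N))
      (h f (List.mem_cons_self ..))

theorem tbij_augM (N : ModuleCat.{u} A) (fs : List A) (h : ∀ x ∈ fs, x ∈ J) :
    Tbij J (DerivedCategory.Q.map (augM N fs)) := by
  rw [augM, Functor.map_comp]
  exact Tbij.comp (tbij_augE J N fs h) (tbij_iso J _)

theorem isTors_tC (N : ModuleCat.{u} A) (fs : List A) (hJ : Ideal.span {x : A | x ∈ fs} = J) :
    IsTors J (DRing.toD ((CompletionAdic.tC N).obj (extCech (ModuleCat.of A A) fs))) := fun i =>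
  isPowerTorsion_of_iso J (((DerivedCategory.homologyFunctorFactors (ModuleCat.{u} A) i).app _) ≪≫
    (HomologicalComplex.homologyFunctor _ _ i).mapIso (KFlatLBC.singleTensorIso _ N)).symm
    (CompletionAdic.isPowerTorsion_homology J fs hJ ((isNoetherianRing_iff_ideal_fg A).1 inferInstance J) _ i)

/-- the module in degree zero -/
noncomputable abbrev toInD (N : ModuleCat.{u} A) :
    DRing.toD ((HomologicalComplex.single (ModuleCat.{u} A) (ComplexShape.up ℤ) 0).obj N) ⟶
      (DerivedCategory.singleFunctor (ModuleCat.{u} A) 0).obj N :=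
  (DerivedCategory.singleFunctorIsoCompQ (ModuleCat.{u} A) 0).inv.app N

theorem exists_gamma_iso (N : ModuleCat.{u} A) (fs : List A) (hJ : Ideal.span {x : A | x ∈ fs} = J) :
    ∃ g : DRing.toD ((CompletionAdic.tC N).obj (extCech (ModuleCat.of A A) fs)) ≅
        (DRing.RgammaI J).obj ((DerivedCategory.singleFunctor (ModuleCat.{u} A) 0).obj N),
      g.hom ≫ (DRing.RgammaIε J).app _ = DerivedCategory.Q.map (augM N fs) ≫ toInD N := by
  have hb : Tbij J (DerivedCategory.Q.map (augM N fs) ≫ toInD N) :=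
    Tbij.comp (tbij_augM J N fs fun x hx => hJ ▸ Ideal.subset_span hx) (tbij_iso J _)
  obtain ⟨u, hu⟩ := (tbij_ε J ((DerivedCategory.singleFunctor (ModuleCat.{u} A) 0).obj N) _ (isTors_tC J N fs hJ)).2
    (DerivedCategory.Q.map (augM N fs) ≫ toInD N)
  change u ≫ (DRing.RgammaIε J).app _ = _ at hu
  obtain ⟨v, hv⟩ := (hb _ (isTors_RgammaI J ((DerivedCategory.singleFunctor (ModuleCat.{u} A) 0).obj N))).2
    ((DRing.RgammaIε J).app _)
  change v ≫ DerivedCategory.Q.map (augM N fs) ≫ toInD N = _ at hv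
  refine ⟨⟨u, v, (hb _ (isTors_tC J N fs hJ)).1 ?_, (tbij_ε J _ _ (isTors_RgammaI J _)).1 ?_⟩, hu⟩
  · change (u ≫ v) ≫ _ = 𝟙 _ ≫ _
    rw [Category.assoc, hv, hu, Category.id_comp]
  · change (v ≫ u) ≫ (DRing.RgammaIε J).app _ = 𝟙 _ ≫ _
    rw [Category.assoc, hu, hv, Category.id_comp]

theorem gamma_naturality {N N' : ModuleCat.{u} A} (ν : N ⟶ N') (fs : List A) (hJ : Ideal.span {x : A | x ∈ fs} = J)
    {g : DRing.toD ((CompletionAdic.tC N).obj (extCech (ModuleCat.of A A) fs)) ⟶
      (DRing.RgammaI J).obj ((DerivedCategory.singleFunctor (ModuleCat.{u} A) 0).obj N)}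
    {g' : DRing.toD ((CompletionAdic.tC N').obj (extCech (ModuleCat.of A A) fs)) ⟶
      (DRing.RgammaI J).obj ((DerivedCategory.singleFunctor (ModuleCat.{u} A) 0).obj N')}
    (hg : g ≫ (DRing.RgammaIε J).app _ = DerivedCategory.Q.map (augM N fs) ≫ toInD N)
    (hg' : g' ≫ (DRing.RgammaIε J).app _ = DerivedCategory.Q.map (augM N' fs) ≫ toInD N') :
    DerivedCategory.Q.map ((CompletionAdic.tau ν).app _) ≫ g' =
      g ≫ (DRing.RgammaI J).map ((DerivedCategory.singleFunctor (ModuleCat.{u} A) 0).map ν) := by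
  refine (tbij_ε J _ _ (isTors_tC J N fs hJ)).1 ?_
  change (_ ≫ g') ≫ _ = (g ≫ _) ≫ _
  rw [Category.assoc, Category.assoc, hg', (DRing.RgammaIε J).naturality, Functor.id_map, reassoc_of% hg,
    ← Functor.map_comp_assoc, augM_naturality, Functor.map_comp, Category.assoc]
  exact congrArg _ ((DerivedCategory.singleFunctorIsoCompQ (ModuleCat.{u} A) 0).inv.naturality ν)

end Groth.L10.GammaTensor
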