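import Groth.Agent.L10.DRing.AdicTowerFunctor
import Groth.Agent.L10.DRing.GammaTensor
import Groth.Agent.L10.DRing.CechDevissage
import Groth.Agent.L10.DRing.CompletionFlat
import Groth.Agent.L10.ExactProd

/-! Completion of `RΓ_J M` as a derived limit. -/

universe u

open CategoryTheory CategoryTheory.Limits MonoidalCategory CategoryTheory.Pretriangulated CochainComplex DerCA
open scoped TensorProduct

attribute [local instance] HasDerivedCategory.standard

set_option backward.defeqAttrib.useBackward true
set_option backward.isDefEq.respectTransparency false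
set_option linter.style.haveILetI false

namespace Groth.L10.AdicTowerRlim

open Groth.L10.CompletionFormula Groth.L10.AdicTower Groth.L10.CompletionTriangle

variable {A : Type u} [CommRing A] (I : Ideal A) (M : Type u) [AddCommGroup M] [Module A M] (E : DRing.Cx A)

/-- the product complex -/
noncomputable abbrev Pinf : DRing.Cx A := ((prodF I M).mapHomologicalComplex _).obj E

/-- the levels -/
noncomputable abbrev W (n : ℕ) : DRing.Cx A := (CompletionAdic.tC (lvl I M n)).obj E

/-- the projections -/
noncomputable abbrev pC (n : ℕ) : Pinf I M E ⟶ W I M E n :=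
  (NatTrans.mapHomologicalComplex (proj I M n) (ComplexShape.up ℤ)).app E

/-- the limit complex -/
noncomputable abbrev G : DRing.Cx A := ((limF I M).mapHomologicalComplex _).obj E

/-- the sequence -/
noncomputable abbrev sc : ShortComplex (DRing.Cx A) :=
  ShortComplex.mk ((NatTrans.mapHomologicalComplex (incl I M) (ComplexShape.up ℤ)).app E)
    ((NatTrans.mapHomologicalComplex (delta I M) (ComplexShape.up ℤ)).app E) (by
      ext p : 1
      exact congrArg (fun t => t.app (E.X p)) (incl_delta I M))

theorem shortExact_sc : (sc I M E).ShortExact :=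
  HomologicalComplex.shortExact_of_degreewise_shortExact _ fun p =>
    { exact := by
        rw [ShortComplex.moduleCat_exact_iff_ker_sub_range]
        intro x hx
        exact ⟨⟨x, hx⟩, rfl⟩
      mono_f := mono_incl I M (E.X p)
      epi_g := epi_delta I M (E.X p) }

theorem isIso_lift : IsIso (Pi.lift (pC I M E)) := by
  haveI : ∀ q, IsIso ((Pi.lift (pC I M E)).f q) := fun q => by
    let h₁ := ModuleCat.productConeIsLimit (fun n => ModuleCat.of A ((E.X q : ModuleCat.{u} A) ⊗[A] lvl I M n))
    let h₂ := isLimitOfHasProductOfPreservesLimit (HomologicalComplex.eval (ModuleCat.{u} A) (ComplexShape.up ℤ) q)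
      (W I M E)
    have : (Pi.lift (pC I M E)).f q = (h₁.conePointUniqueUpToIso h₂).hom := by
      refine Fan.IsLimit.hom_ext h₂ _ _ fun n => ?_
      refine Eq.trans ?_ (h₁.conePointUniqueUpToIso_hom_comp h₂ ⟨n⟩).symm
      exact congrArg (fun (x : Pinf I M E ⟶ W I M E n) => x.f q) (Pi.lift_π (pC I M E) n)
    rw [this]
    infer_instance
  exact HomologicalComplex.Hom.isIso_of_components _

theorem bijective_toProd (Y : Dual.D A) :
    Function.Bijective fun (g : Y ⟶ DRing.toD (Pinf I M E)) n => g ≫ DerivedCategory.Q.map (pC I M E n) := by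
  haveI := isIso_lift I M E
  let q := HomotopyCategory.quotient (ModuleCat.{u} A) (ComplexShape.up ℤ)
  let c := DerivedCategory.quotientCompQhIso (ModuleCat.{u} A)
  let L := c.inv.app (Pinf I M E) ≫ DerivedCategory.Qh.map (q.map (Pi.lift (pC I M E)))
  have h1 := ExactProd.hom_to_product_bijective (W I M E) Y
  have h2 : ∀ n, L ≫ DerivedCategory.Qh.map (q.map (Pi.π (W I M E) n)) ≫ c.hom.app _ =
      DerivedCategory.Q.map (pC I M E n) := fun n => by
    simp only [L, Category.assoc]
    rw [← Functor.map_comp_assoc, ← Functor.map_comp, Pi.lift_π]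
    have := c.hom.naturality (pC I M E n)
    simp only [Functor.comp_map] at this
    rw [this, Iso.inv_hom_id_app_assoc]
  refine ⟨fun g g' hg => ?_, fun f => ?_⟩
  · rw [← cancel_mono L]
    refine h1.1 (funext fun n => ?_)
    rw [← cancel_mono (c.hom.app (W I M E n))]
    refine (Category.assoc _ _ _).trans ((Category.assoc _ _ _).trans ?_)
    refine Eq.trans ?_ ((Category.assoc _ _ _).trans (Category.assoc _ _ _)).symm
    exact (congrArg (g ≫ ·) (h2 n)).trans ((congrFun hg n).trans (congrArg (g' ≫ ·) (h2 n)).symm)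
  · obtain ⟨g, hg⟩ := h1.2 fun n => f n ≫ c.inv.app (W I M E n)
    refine ⟨g ≫ inv L, funext fun n => ?_⟩
    have := congrFun hg n
    change g ≫ _ = _ at this
    change (g ≫ inv L) ≫ DerivedCategory.Q.map (pC I M E n) = f n
    rw [← h2 n, Category.assoc, IsIso.inv_hom_id_assoc, reassoc_of% this, Iso.inv_hom_id_app]
    exact Category.comp_id _

theorem homologyMap_eq_zero (n : ℕ) {a : A} (ha : a ∈ I ^ n) (i : ℤ) (x : ((W I M E n).homology i : ModuleCat.{u} A)) :
    a • x = 0 := by
  have h0 : a • 𝟙 (W I M E n) = 0 := by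
    ext p : 1
    refine ModuleCat.hom_ext (TensorProduct.ext' fun y z => ?_)
    obtain ⟨m, rfl⟩ := Submodule.Quotient.mk_surjective _ z
    change a • (y ⊗ₜ[A] (Submodule.Quotient.mk m : M ⧸ (I ^ n • ⊤ : Submodule A M))) = 0
    rw [← TensorProduct.tmul_smul, ← Submodule.Quotient.mk_smul,
      (Submodule.Quotient.mk_eq_zero _).2 (Submodule.smul_mem_smul ha Submodule.mem_top), TensorProduct.tmul_zero]
  have h1 := congrArg (fun t : W I M E n ⟶ W I M E n => (HomologicalComplex.homologyMap t i).hom x) h0
  have h2 : HomologicalComplex.homologyMap (a • 𝟙 (W I M E n)) i = a • 𝟙 ((W I M E n).homology i) :=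
    ((HomologicalComplex.homologyFunctor (ModuleCat.{u} A) (ComplexShape.up ℤ) i).map_smul a (𝟙 (W I M E n))).trans
      (congrArg (a • ·) (HomologicalComplex.homologyMap_id _ _))
  rw [h2, HomologicalComplex.homologyMap_zero] at h1
  exact h1

theorem isComplete_W (n : ℕ) : DRing.IsDerivedComplete I (DRing.toD (W I M E n)) :=
  (L04.RGamma.isDerivedComplete_iff I _).2 fun f hf i =>
    (L04.RGamma.TzMod.congr (CompletionBound.hhIso (W I M E n) i).toLinearEquiv).2
      (L04.RGamma.TzMod.of_pow_smul_eq_zero (n := n) (homologyMap_eq_zero I M E n (Ideal.pow_mem_pow hf n) i))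

theorem isComplete_Pinf : DRing.IsDerivedComplete I (DRing.toD (Pinf I M E)) := fun f hf m => by
  let X := Dual.inD A (Localization.Away f)
  let e := (shiftEquiv' (Dual.D A) (-m) m (neg_add_cancel m)).toAdjunction
  refine @Equiv.subsingleton _ _ (e.homEquiv X (DRing.toD (Pinf I M E))).symm ⟨fun g g' => ?_⟩
  exact (bijective_toProd I M E _).1 (funext fun n =>
    @Subsingleton.elim _ (@Equiv.subsingleton _ _ (e.homEquiv X (DRing.toD (W I M E n))) (isComplete_W I M E n f hf m)) _ _)

theorem isComplete_G : DRing.IsDerivedComplete I (DRing.toD (G I M E)) := by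
  have h := isComplete₃ I _ (rot_of_distTriang _ (DerivedCategory.triangleOfSES_distinguished (shortExact_sc I M E)))
    (isComplete_Pinf I M E) (isComplete_Pinf I M E)
  exact isComplete_of_iso I ((shiftEquiv (Dual.D A) (1 : ℤ)).unitIso.app _).symm
    (L04.RGamma.isComplete_shift I h (-1))

theorem isRlim (K : ℕ → Dual.D A) [HasProduct K] (t : ∀ n, K (n + 1) ⟶ K n)
    (g : ∀ n, DRing.toD (W I M E n) ≅ K n)
    (hg : ∀ n, DerivedCategory.Q.map ((CompletionAdic.tau (tr I M n)).app E) ≫ (g n).hom = (g (n + 1)).hom ≫ t n)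
    (L : Dual.D A) (e : L ≅ DRing.toD (G I M E)) : DCoh.IsRlim K t L := by
  let θ : DRing.toD (Pinf I M E) ⟶ ∏ᶜ K := Pi.lift fun n => DerivedCategory.Q.map (pC I M E n) ≫ (g n).hom
  haveI : IsIso θ := (isIso_iff_yoneda_map_bijective θ).2 fun Y => by
    refine ⟨fun a b hab => (bijective_toProd I M E Y).1 (funext fun n => ?_), fun b => ?_⟩
    · have := congrArg (· ≫ Pi.π K n ≫ (g n).inv) hab
      simpa [θ] using this
    · obtain ⟨a, ha⟩ := (bijective_toProd I M E Y).2 fun n => b ≫ Pi.π K n ≫ (g n).inv
      refine ⟨a, Pi.hom_ext _ _ fun n => ?_⟩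
      have := congrArg (· ≫ (g n).hom) (congrFun ha n)
      simpa [θ] using this
  have hd : ∀ n, (NatTrans.mapHomologicalComplex (delta I M) (ComplexShape.up ℤ)).app E ≫ pC I M E n =
      pC I M E n - pC I M E (n + 1) ≫ (CompletionAdic.tau (tr I M n)).app E := fun n => by
    ext p : 1
    exact congrArg (fun t => t.app (E.X p)) (delta_proj I M n)
  let d := DerivedCategory.triangleOfSESδ (shortExact_sc I M E)
  refine ⟨e.hom ≫ DerivedCategory.Q.map (sc I M E).f ≫ θ, inv θ ≫ d ≫ e.inv⟦(1 : ℤ)⟧', ?_⟩
  refine isomorphic_distinguished _ (DerivedCategory.triangleOfSES_distinguished (shortExact_sc I M E)) _ ?_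
  refine Triangle.isoMk _ _ e (asIso θ).symm (asIso θ).symm ?_ ?_ ?_
  · simp
  · rw [← cancel_mono θ]
    refine Eq.trans ?_ (Category.assoc _ _ _).symm
    refine Pi.hom_ext _ _ fun n => ?_
    simp only [Triangle.mk_mor₂, DerivedCategory.triangleOfSES_mor₂, Iso.symm_hom, asIso_inv, Category.assoc,
      IsIso.inv_hom_id, Category.comp_id, Pi.lift_π]
    simp only [θ, Pi.lift_π]
    rw [← Functor.map_comp_assoc, hd, Functor.map_sub, Functor.map_comp, Preadditive.sub_comp, Category.assoc, hg,
      Preadditive.comp_sub]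
    refine Eq.trans ?_ (Preadditive.comp_sub _ _ _)
    refine (IsIso.eq_inv_comp _).2 ((Preadditive.comp_sub _ _ _).trans ?_)
    exact congrArg₂ (· - ·) (Pi.lift_π _ _) ((Pi.lift_π_assoc _ _ _).trans (Category.assoc _ _ _))
  · simp [d, ← Functor.map_comp]

theorem cbij_kappa [IsNoetherianRing A] [Module.Finite A M] (fs : List A) :
    Cbij I (DerivedCategory.Q.map ((NatTrans.mapHomologicalComplex (kappa I M) (ComplexShape.up ℤ)).app
      (extCech (ModuleCat.of A A) fs))) := by
  let s := HomologicalComplex.single (ModuleCat.{u} A) (ComplexShape.up ℤ) 0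
  let i0 := DerivedCategory.singleFunctorIsoCompQ (ModuleCat.{u} A) 0
  have hconv : ∀ {X Y : ModuleCat.{u} A} (f : X ⟶ Y),
      Cbij I ((DerivedCategory.singleFunctor (ModuleCat.{u} A) 0).map f) → Cbij I (DerivedCategory.Q.map (s.map f)) :=
    fun {X Y} f h => by
      have := i0.hom.naturality f
      rw [← cancel_epi (i0.inv.app X), Iso.inv_hom_id_app_assoc] at this
      change i0.inv.app X ≫ _ = DerivedCategory.Q.map (s.map f) at this
      rw [← this]
      exact Cbij.comp I (cbij_iso I _) (Cbij.comp I h (cbij_iso I _))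
  have h1 : ∀ X : ModuleCat.{u} A, Module.Flat A X →
      CechDevissage.Sees I (kappa I M) (s.obj X) := fun X hX => by
    haveI := hX
    obtain ⟨e, he⟩ := exists_completion_equiv I M X
    let a := (HomologicalComplex.singleMapHomologicalComplex (tensorRight (ModuleCat.of A M)) (ComplexShape.up ℤ) 0).app X
    let b := (HomologicalComplex.singleMapHomologicalComplex (limF I M) (ComplexShape.up ℤ) 0).app X
    have hk : (NatTrans.mapHomologicalComplex (kappa I M) (ComplexShape.up ℤ)).app (s.obj X) =
        a.hom ≫ s.map ((kappa I M).app X) ≫ b.inv := by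
      rw [← Category.assoc, Iso.eq_comp_inv]
      exact CompletionFlat.single_natTrans (kappa I M) X
    unfold CechDevissage.Sees
    rw [hk, Functor.map_comp, Functor.map_comp]
    refine Cbij.comp I (cbij_iso I _) (Cbij.comp I (hconv _ ?_) (cbij_iso I _))
    let cM : ModuleCat.of A ((X : Type u) ⊗[A] M) ≅ ModuleCat.of A (M ⊗[A] X) :=
      (TensorProduct.comm A X M).toModuleIso
    rw [show (kappa I M).app X = cM.hom ≫ ModuleCat.ofHom (AdicCompletion.of I (M ⊗[A] X)) ≫ e.toModuleIso.hom from
      ModuleCat.hom_ext (LinearMap.ext fun z => by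
        refine Eq.trans ?_ (he (TensorProduct.comm A X M z)).symm
        exact congrArg _ ((TensorProduct.comm A M X).apply_symm_apply z).symm)]
    rw [Functor.map_comp, Functor.map_comp]
    exact Cbij.comp I (cbij_iso I _) (Cbij.comp I (CompletionFlat.cbij_of I M X) (cbij_iso I _))
  exact CechDevissage.Sees.of_iso
    ((NatIso.mapHomologicalComplex (NatIso.ofComponents (fun X => ρ_ X) (fun f => MonoidalCategory.rightUnitor_naturality f) :
      tensorRight (ModuleCat.of A A) ≅ 𝟭 (ModuleCat.{u} A)) (ComplexShape.up ℤ)).app (extCech (ModuleCat.of A A) fs))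
    (CechDevissage.sees_tensor_extCech h1 fs (ModuleCat.of A A) (inferInstanceAs (Module.Flat A A)))

theorem isZero_G_neg (fs : List A) (i : ℤ) (hi : i < 0) :
    IsZero ((G I M (extCech (ModuleCat.of A A) fs)).homology i) :=
  HomologicalComplex.ExactAt.isZero_homology
    (ShortComplex.exact_of_isZero_X₂ _ ((limF I M).map_isZero (CechTorsion.isZero_X _ fs i (Or.inl hi))))

end Groth.L10.AdicTowerRlim
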