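import Groth.Agent.L10.DRing.CechDegreeZero
import Groth.Agent.L10.DRing.CompletionFinite

/-! `H⁰` of the completion of `RΓ_J M`. -/

universe u

open CategoryTheory CategoryTheory.Limits MonoidalCategory CochainComplex DerCA
open scoped TensorProduct

attribute [local instance] HasDerivedCategory.standard

set_option backward.defeqAttrib.useBackward true
set_option backward.isDefEq.respectTransparency false
set_option linter.style.haveILetI false

namespace Groth.L10.CompletionH0

open Groth.L10.CompletionFormula Groth.L10.AdicTower Groth.L10.AdicTowerRlim Groth.L10.CechDegreeZero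

variable {A : Type u} [CommRing A] [IsNoetherianRing A] (I J : Ideal A) (M : Type u) [AddCommGroup M] [Module A M]
  [Module.Finite A M]

theorem exists_equiv_kap :
    ∃ e : AdicCompletion I (M ⊗[A] A) ≃ₗ[A] Mh I M,
      kap I M = ModuleCat.ofHom ((TensorProduct.rid A M).symm.toLinearMap) ≫
        ModuleCat.ofHom (AdicCompletion.of I (M ⊗[A] A)) ≫ e.toModuleIso.hom := by
  obtain ⟨e, he⟩ := exists_completion_equiv I M A
  refine ⟨e, ModuleCat.hom_ext (LinearMap.ext fun m => ?_)⟩
  refine Eq.trans ?_ (he ((TensorProduct.rid A M).symm m)).symm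
  rfl

theorem cbij_kap : Cbij I ((DerivedCategory.singleFunctor (ModuleCat.{u} A) 0).map (kap I M)) := by
  obtain ⟨e, he⟩ := exists_equiv_kap I M
  haveI : IsIso (ModuleCat.ofHom (TensorProduct.rid A M).symm.toLinearMap) :=
    inferInstanceAs (IsIso (TensorProduct.rid A M).symm.toModuleIso.hom)
  rw [he, Functor.map_comp, Functor.map_comp]
  exact Cbij.comp I (cbij_iso I _) (Cbij.comp I (CompletionFlat.cbij_of I M A) (cbij_iso I _))

theorem isComplete_Mh : DRing.IsDerivedComplete I ((DerivedCategory.singleFunctor (ModuleCat.{u} A) 0).obj (Mh I M)) := by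
  obtain ⟨e, -⟩ := exists_equiv_kap I M
  haveI := AdicCompletion.isAdicComplete (M := M ⊗[A] A) ((isNoetherianRing_iff_ideal_fg A).1 inferInstance I)
  exact (L04.RGamma.isDerivedComplete_inD_iff I _).2 fun f hf =>
    (L04.RGamma.TzMod.congr e).1 (L04.RGamma.tzMod_of_isAdicComplete I hf)

theorem surjective_kap [IsAdicComplete I A] : Function.Surjective (kap I M).hom := by
  intro w
  obtain ⟨e, he⟩ := exists_equiv_kap I M
  haveI : IsAdicComplete I (M ⊗[A] A) := by
    rw [← AdicCompletion.of_bijective_iff]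
    have h : ∀ m : M ⊗[A] A, AdicCompletion.of I (M ⊗[A] A) m =
        AdicCompletion.ofTensorProduct I _ ((LinearEquiv.rTensor _ (AdicCompletion.ofLinearEquiv I A))
          ((TensorProduct.lid A _).symm m)) := fun m => by
      simp [show AdicCompletion.of I A 1 = 1 from rfl]
    rw [show (AdicCompletion.of I (M ⊗[A] A) : _ → AdicCompletion I (M ⊗[A] A)) = _ from funext h]
    exact (AdicCompletion.ofTensorProduct_bijective_of_finite_of_isNoetherian I _).comp
      ((LinearEquiv.rTensor _ (AdicCompletion.ofLinearEquiv I A)).bijective.comp (TensorProduct.lid A _).symm.bijective)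
  obtain ⟨z, hz⟩ := AdicCompletion.of_surjective I (M ⊗[A] A) (e.symm w)
  refine ⟨TensorProduct.rid A M z, ?_⟩
  rw [he]
  change e (AdicCompletion.of I (M ⊗[A] A) ((TensorProduct.rid A M).symm (TensorProduct.rid A M z))) = w
  rw [LinearEquiv.symm_apply_apply, hz, LinearEquiv.apply_symm_apply]

theorem torsion_levels_iff (s : M) :
    (∀ n, ∃ k : ℕ, ∀ a ∈ J ^ k, a • (Submodule.Quotient.mk s : M ⧸ (I ^ n • ⊤ : Submodule A M)) = 0) ↔
      ∃ J' : Ideal A, J' ≤ J ∧ J ≤ (J' ⊔ I).radical ∧ s ∈ DRing.torsionSub J' M := by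
  have hFG : J.FG := (isNoetherianRing_iff_ideal_fg A).1 inferInstance J
  constructor
  · intro h
    obtain ⟨c, hc⟩ := I.exists_pow_inf_eq_pow_smul (Submodule.span A {s})
    obtain ⟨k, hk⟩ := h (c + 1)
    let 𝔞 : Ideal A := LinearMap.ker (LinearMap.toSpanSingleton A M s)
    refine ⟨J ⊓ 𝔞, inf_le_left, fun g hg => ⟨k + 1, ?_⟩, ⟨1, fun a ha => ?_⟩⟩
    · have h1 : g ^ k • s ∈ (I ^ (c + 1) • ⊤ : Submodule A M) ⊓ Submodule.span A {s} :=
        ⟨(Submodule.Quotient.mk_eq_zero _).1 (hk _ (Ideal.pow_mem_pow hg k)),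
          Submodule.smul_mem _ _ (Submodule.mem_span_singleton_self s)⟩
      rw [hc (c + 1) (Nat.le_succ c), Nat.add_sub_cancel_left, pow_one] at h1
      obtain ⟨i, hi, his⟩ := Submodule.mem_smul_span_singleton.1 (Submodule.smul_mono le_rfl inf_le_right h1)
      refine Submodule.mem_sup.2 ⟨g * (g ^ k - i), ⟨J.mul_mem_right _ hg, 𝔞.mul_mem_left _ ?_⟩, g * i,
        I.mul_mem_left g hi, by ring⟩
      rw [LinearMap.mem_ker, LinearMap.toSpanSingleton_apply, sub_smul, his, sub_self]
    · rw [pow_one] at ha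
      exact LinearMap.mem_ker.1 ha.2
  · rintro ⟨J', -, hrad, k', hk'⟩ n
    have h1 : J ≤ (J' ^ k' ⊔ I ^ n).radical := by
      intro g hg
      obtain ⟨N, hN⟩ := hrad hg
      refine ⟨N * (k' + n), ?_⟩
      rw [pow_mul]
      exact Ideal.sup_pow_add_le_pow_sup_pow (Ideal.pow_mem_pow hN (k' + n))
    obtain ⟨k, hk⟩ := Ideal.exists_pow_le_of_le_radical_of_fg h1 hFG
    refine ⟨k, fun a ha => ?_⟩
    obtain ⟨b, hb, i, hi, rfl⟩ := Submodule.mem_sup.1 (hk ha)
    rw [← Submodule.Quotient.mk_smul, Submodule.Quotient.mk_eq_zero, add_smul, hk' b hb, zero_add]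
    exact Submodule.smul_mem_smul hi Submodule.mem_top

theorem main [IsAdicComplete I A] [DRing.HasRgammaI J] [DRing.HasDerivedCompletion I] :
    Function.Injective ((DerivedCategory.homologyFunctor (ModuleCat.{u} A) 0).map ((ObjectProperty.ι (DRing.IsDerivedComplete I)).map ((DRing.derivedCompletion I).map ((DRing.RgammaIε J).app (Dual.inD A M))))).hom ∧
    Set.range ((DerivedCategory.homologyFunctor (ModuleCat.{u} A) 0).map ((ObjectProperty.ι (DRing.IsDerivedComplete I)).map ((DRing.derivedCompletion I).map ((DRing.RgammaIε J).app (Dual.inD A M))))).hom = (fun s : M => ((DerivedCategory.homologyFunctor (ModuleCat.{u} A) 0).map (DRing.toDerivedCompletion I (Dual.inD A M))).hom (((DerivedCategory.singleFunctorCompHomologyFunctorIso (ModuleCat.{u} A) 0).inv.app (ModuleCat.of A M)).hom s)) '' {s : M | ∃ J' : Ideal A, J' ≤ J ∧ J ≤ (J' ⊔ I).radical ∧ s ∈ DRing.torsionSub J' M} := by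
  obtain ⟨t, ht⟩ := (isNoetherianRing_iff_ideal_fg A).1 inferInstance J
  have hJ : Ideal.span {x : A | x ∈ t.toList} = J := by
    rw [← ht]; congr 1; ext; simp
  obtain ⟨gM, hgM⟩ := GammaTensor.exists_gamma_iso J (ModuleCat.of A M) t.toList hJ
  obtain ⟨e1, he1⟩ := exists_iso I
    (cbij_toDerivedCompletion I ((DRing.RgammaI J).obj (Dual.inD A M)))
    (Cbij.comp I (cbij_iso I gM.inv) (cbij_kappa I M t.toList))
    ((DRing.derivedCompletion I).obj _).property (isComplete_G I M (extCech (ModuleCat.of A A) t.toList))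
  obtain ⟨e2, he2⟩ := exists_iso I (cbij_toDerivedCompletion I (Dual.inD A M)) (cbij_kap I M)
    ((DRing.derivedCompletion I).obj _).property (isComplete_Mh I M)
  let φ := (ObjectProperty.ι (DRing.IsDerivedComplete I)).map ((DRing.derivedCompletion I).map ((DRing.RgammaIε J).app (Dual.inD A M)))
  let i0 := DerivedCategory.singleFunctorIsoCompQ (ModuleCat.{u} A) 0
  have key : e1.hom ≫ DerivedCategory.Q.map (bMap I M t.toList) ≫ GammaTensor.toInD (Mh I M) = φ ≫ e2.hom := by
    refine (cbij_toDerivedCompletion I _ _ (isComplete_Mh I M)).1 ?_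
    have hn : DRing.toDerivedCompletion I ((DRing.RgammaI J).obj (Dual.inD A M)) ≫ φ =
        (DRing.RgammaIε J).app (Dual.inD A M) ≫ DRing.toDerivedCompletion I (Dual.inD A M) :=
      ((DRing.derivedCompletionAdj I).unit.naturality ((DRing.RgammaIε J).app (Dual.inD A M))).symm
    have hi : DerivedCategory.Q.map (S₀.map (kap I M)) ≫ GammaTensor.toInD (Mh I M) =
        GammaTensor.toInD (ModuleCat.of A M) ≫ (DerivedCategory.singleFunctor (ModuleCat.{u} A) 0).map (kap I M) :=
      i0.inv.naturality (kap I M)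
    have hε : (DRing.RgammaIε J).app (Dual.inD A M) =
        gM.inv ≫ DerivedCategory.Q.map (GammaTensor.augM (ModuleCat.of A M) t.toList) ≫
          GammaTensor.toInD (ModuleCat.of A M) := by
      rw [← hgM, Iso.inv_hom_id_assoc]
    change DRing.toDerivedCompletion I _ ≫ e1.hom ≫ _ = DRing.toDerivedCompletion I _ ≫ φ ≫ e2.hom
    rw [reassoc_of% he1, reassoc_of% hn, he2, hε]
    simp only [Category.assoc]
    rw [← Functor.map_comp_assoc, kappa_bMap, Functor.map_comp, Category.assoc, hi]
  let h := ((H₀).map φ).hom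
  let σ := fun (N : ModuleCat.{u} A) => ((DerivedCategory.singleFunctorCompHomologyFunctorIso (ModuleCat.{u} A) 0).inv.app N).hom
  let Φ := ((CompletionBound.hhIso (S₀.obj (Mh I M)) 0).inv ≫ (H₀).map (GammaTensor.toInD (Mh I M))).hom
  let u := ((H₀).map e1.hom ≫ (CompletionBound.hhIso (G I M (extCech (ModuleCat.of A A) t.toList)) 0).hom).hom
  let B := (HomologicalComplex.homologyMap (bMap I M t.toList) 0).hom
  let E2 := ((H₀).map e2.hom).hom
  have hΦ : ∀ w, Φ ((zeta.hom.app (Mh I M)).hom w) = σ (Mh I M) w := fun w => by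
    have : zeta.hom.app (Mh I M) ≫ (CompletionBound.hhIso (S₀.obj (Mh I M)) 0).inv ≫
        (H₀).map (GammaTensor.toInD (Mh I M)) =
        (DerivedCategory.singleFunctorCompHomologyFunctorIso (ModuleCat.{u} A) 0).inv.app (Mh I M) := by
      rw [zeta_apply, Category.assoc, Category.assoc, Iso.hom_inv_id_assoc, ← Functor.map_comp, Iso.hom_inv_id_app,
        CategoryTheory.Functor.map_id]
      exact Category.comp_id _
    exact LinearMap.congr_fun (congrArg ModuleCat.Hom.hom this) w
  have hh : ∀ z, E2 (h z) = Φ (B (u z)) := fun z => by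
    have hn : (H₀).map (DerivedCategory.Q.map (bMap I M t.toList)) =
        (CompletionBound.hhIso _ 0).hom ≫ HomologicalComplex.homologyMap (bMap I M t.toList) 0 ≫
          (CompletionBound.hhIso (S₀.obj (Mh I M)) 0).inv := by
      rw [← Category.assoc, Iso.eq_comp_inv]
      exact (DerivedCategory.homologyFunctorFactors (ModuleCat.{u} A) 0).hom.naturality (bMap I M t.toList)
    have := congrArg (H₀).map key
    rw [Functor.map_comp, Functor.map_comp, Functor.map_comp, hn] at this
    simp only [Category.assoc] at this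
    exact (LinearMap.congr_fun (congrArg ModuleCat.Hom.hom this) z).symm
  have hs : ∀ s : M, E2 (((H₀).map (DRing.toDerivedCompletion I (Dual.inD A M))).hom (σ (ModuleCat.of A M) s)) =
      σ (Mh I M) ((kap I M).hom s) := fun s => by
    have h1 := (DerivedCategory.singleFunctorCompHomologyFunctorIso (ModuleCat.{u} A) 0).inv.naturality (kap I M)
    have h2 : (DerivedCategory.singleFunctorCompHomologyFunctorIso (ModuleCat.{u} A) 0).inv.app (ModuleCat.of A M) ≫
        (H₀).map (DRing.toDerivedCompletion I (Dual.inD A M)) ≫ (H₀).map e2.hom =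
        kap I M ≫ (DerivedCategory.singleFunctorCompHomologyFunctorIso (ModuleCat.{u} A) 0).inv.app (Mh I M) := by
      rw [← Functor.map_comp, he2]
      exact h1.symm
    exact LinearMap.congr_fun (congrArg ModuleCat.Hom.hom h2) s
  have hE2 : Function.Injective E2 := ((ConcreteCategory.isIso_iff_bijective _).1 (inferInstance : IsIso ((H₀).map e2.hom))).1
  have hu : Function.Bijective u := (ConcreteCategory.isIso_iff_bijective _).1
    (inferInstance : IsIso ((H₀).map e1.hom ≫ (CompletionBound.hhIso (G I M (extCech (ModuleCat.of A A) t.toList)) 0).hom))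
  have hΦi : Function.Injective Φ := ((ConcreteCategory.isIso_iff_bijective _).1
    (inferInstance : IsIso ((CompletionBound.hhIso (S₀.obj (Mh I M)) 0).inv ≫ (H₀).map (GammaTensor.toInD (Mh I M))))).1
  have htor : ∀ s : M, (zeta.hom.app (Mh I M)).hom ((kap I M).hom s) ∈ Set.range B ↔
      ∃ J' : Ideal A, J' ≤ J ∧ J ≤ (J' ⊔ I).radical ∧ s ∈ DRing.torsionSub J' M := fun s => by
    rw [mem_range_bMap J I M t.toList hJ, ← torsion_levels_iff I J M s]
    have hp : ∀ n, (piH I M n).hom ((kap I M).hom s) = Submodule.Quotient.mk s := fun n =>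
      LinearMap.congr_fun (congrArg ModuleCat.Hom.hom (piH_kap I M n)) s
    simp only [hp]
  refine ⟨fun a b hab => hu.1 (injective_bMap I M t.toList (hΦi ?_)), ?_⟩
  · rw [← hh, ← hh]
    exact congrArg E2 hab
  · refine Set.ext fun y => ⟨?_, ?_⟩
    · rintro ⟨z, rfl⟩
      obtain ⟨w, hw⟩ := zeta_surjective (Mh I M) (B (u z))
      obtain ⟨s, rfl⟩ := surjective_kap I M w
      refine ⟨s, (htor s).1 ⟨u z, hw.symm⟩, hE2 ?_⟩
      exact (hs s).trans ((hΦ _).symm.trans ((congrArg Φ hw).trans (hh z).symm))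
    · rintro ⟨s, hS, rfl⟩
      obtain ⟨v, hv⟩ := (htor s).2 hS
      obtain ⟨z, rfl⟩ := hu.2 v
      refine ⟨z, hE2 ?_⟩
      exact (hh z).trans ((congrArg Φ hv).trans ((hΦ _).trans (hs s).symm))

end Groth.L10.CompletionH0
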