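import Groth.Agent.L10.DRing.CompletionBound
import Groth.Agent.L04.RGamma.GM

/-! Derived completion and distinguished triangles. -/

universe u

open CategoryTheory CategoryTheory.Limits CategoryTheory.Pretriangulated

attribute [local instance] HasDerivedCategory.standard

set_option backward.defeqAttrib.useBackward true
set_option backward.isDefEq.respectTransparency false
set_option linter.style.haveILetI false

namespace Groth.L10.CompletionTriangle

open Groth.L10.CompletionFormula Groth.L10.CompletionBound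

variable {A : Type u} [CommRing A] (I : Ideal A)

theorem isComplete₃ (T : Triangle (Dual.D A)) (hT : T ∈ distTriang _) (h₁ : DRing.IsDerivedComplete I T.obj₁)
    (h₂ : DRing.IsDerivedComplete I T.obj₂) : DRing.IsDerivedComplete I T.obj₃ := fun f hf n => by
  refine subsingleton_of_forall_eq 0 fun a => ?_
  haveI := h₂ f hf n
  haveI : Subsingleton (Dual.inD A (Localization.Away f) ⟶ (T.obj₁⟦n⟧)⟦(1 : ℤ)⟧) :=
    @Equiv.subsingleton _ _ (((CategoryTheory.shiftFunctorAdd' (Dual.D A) n 1 (n + 1) rfl).app T.obj₁).symm).homToEquiv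
      (h₁ f hf (n + 1))
  obtain ⟨b, hb⟩ := Triangle.coyoneda_exact₃ _ (Triangle.shift_distinguished T hT n) a
    (@Subsingleton.elim _ this _ _)
  rw [hb, @Subsingleton.elim _ (h₂ f hf n) b 0]
  exact zero_comp

theorem cbij_shift {X Y : Dual.D A} {φ : X ⟶ Y} (h : Cbij I φ) : Cbij I (φ⟦(1 : ℤ)⟧') := fun P hP => by
  let e := (shiftEquiv' (Dual.D A) (1 : ℤ) (-1) (by norm_num)).toAdjunction
  have hb := h _ (Groth.L04.RGamma.isComplete_shift I hP (-1))
  have : (fun b : Y⟦(1 : ℤ)⟧ ⟶ P => φ⟦(1 : ℤ)⟧' ≫ b) =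
      (e.homEquiv X P).symm ∘ (fun b => φ ≫ b) ∘ e.homEquiv Y P := by
    funext b
    exact ((Equiv.symm_apply_eq _).2 (e.homEquiv_naturality_left φ b).symm).symm
  rw [this]
  exact ((e.homEquiv X P).symm.bijective.comp hb).comp (e.homEquiv Y P).bijective

theorem cbij₃ {T T' : Triangle (Dual.D A)} (hT : T ∈ distTriang _) (hT' : T' ∈ distTriang _) (φ : T ⟶ T')
    (h₁ : Cbij I φ.hom₁) (h₂ : Cbij I φ.hom₂) : Cbij I φ.hom₃ := fun P hP => by
  have h₁' := cbij_shift I h₁ P hP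
  have h₂' := cbij_shift I h₂ P hP
  refine ⟨fun c c' hcc => sub_eq_zero.1 ?_, fun c => ?_⟩
  · have hc : φ.hom₃ ≫ (c - c') = 0 := by rw [Preadditive.comp_sub]; exact sub_eq_zero.2 hcc
    have hg : T'.mor₂ ≫ (c - c') = 0 := (h₂ P hP).1 (by
      change φ.hom₂ ≫ T'.mor₂ ≫ (c - c') = φ.hom₂ ≫ 0
      rw [← φ.comm₂_assoc, hc, comp_zero, comp_zero])
    obtain ⟨d, hd⟩ := Triangle.yoneda_exact₃ _ hT' (c - c') hg
    obtain ⟨e, he⟩ := Triangle.yoneda_exact₃ _ (rot_of_distTriang _ hT) (φ.hom₁⟦(1 : ℤ)⟧' ≫ d) (by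
      change T.mor₃ ≫ φ.hom₁⟦(1 : ℤ)⟧' ≫ d = 0
      rw [φ.comm₃_assoc, ← hd, hc])
    obtain ⟨e', rfl⟩ := h₂'.2 e
    have hde : d = -(T'.mor₁⟦(1 : ℤ)⟧' ≫ e') := h₁'.1 (he.trans (by
      change (-(T.mor₁⟦(1 : ℤ)⟧')) ≫ φ.hom₂⟦(1 : ℤ)⟧' ≫ e' = φ.hom₁⟦(1 : ℤ)⟧' ≫ (-(T'.mor₁⟦(1 : ℤ)⟧' ≫ e'))
      rw [Preadditive.neg_comp, Preadditive.comp_neg, ← Functor.map_comp_assoc, ← Functor.map_comp_assoc, φ.comm₁]))
    rw [hd, hde, Preadditive.comp_neg, ← Category.assoc, comp_distTriang_mor_zero₃₁ _ hT']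
    simp
  · obtain ⟨u, hu⟩ := (h₂ P hP).2 (T.mor₂ ≫ c)
    change φ.hom₂ ≫ u = _ at hu
    have h0 : T'.mor₁ ≫ u = 0 := (h₁ P hP).1 (by
      change φ.hom₁ ≫ T'.mor₁ ≫ u = φ.hom₁ ≫ 0
      rw [← φ.comm₁_assoc, hu, comp_zero, ← Category.assoc, comp_distTriang_mor_zero₁₂ _ hT, zero_comp])
    obtain ⟨c', rfl⟩ := Triangle.yoneda_exact₂ _ hT' u h0
    obtain ⟨d, hd⟩ := Triangle.yoneda_exact₃ _ hT (c - φ.hom₃ ≫ c') (by
      rw [Preadditive.comp_sub, φ.comm₂_assoc, hu, sub_self])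
    obtain ⟨d', rfl⟩ := h₁'.2 d
    refine ⟨c' + T'.mor₃ ≫ d', ?_⟩
    change φ.hom₃ ≫ (c' + T'.mor₃ ≫ d') = c
    rw [Preadditive.comp_add, ← φ.comm₃_assoc]
    change _ + T.mor₃ ≫ (φ.hom₁⟦(1 : ℤ)⟧' ≫ d') = c
    rw [← hd, add_sub_cancel]

open DerivedCategory.HomologySequence in
/-- the completed map, cohomologically -/
theorem homology_map [DRing.HasDerivedCompletion I] {K L : Dual.D A} (φ : K ⟶ L) (fs : List A)
    (hI : Ideal.span {x : A | x ∈ fs} = I) (i : ℤ)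
    (h : (∀ j, i ≤ j → Epi ((HH j).map φ) ∧ Mono ((HH (j + 1)).map φ)) ∨
      (∀ j, j ≤ i + fs.length → Epi ((HH j).map φ) ∧ Mono ((HH (j + 1)).map φ))) :
    Epi ((HH i).map ((DRing.derivedCompletion I).map φ).hom) ∧
      Mono ((HH (i + 1)).map ((DRing.derivedCompletion I).map φ).hom) := by
  obtain ⟨Z, g, δZ, hT⟩ := distinguished_cocone_triangle φ
  obtain ⟨W, g', δW, hT'⟩ := distinguished_cocone_triangle ((DRing.derivedCompletion I).map φ).hom
  have hsq : φ ≫ DRing.toDerivedCompletion I L =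
      DRing.toDerivedCompletion I K ≫ ((DRing.derivedCompletion I).map φ).hom :=
    (DRing.derivedCompletionAdj I).unit.naturality φ
  obtain ⟨w, hw₂, hw₃⟩ := complete_distinguished_triangle_morphism _ _ hT hT'
    (DRing.toDerivedCompletion I K) (DRing.toDerivedCompletion I L) hsq
  let m : Triangle.mk φ g δZ ⟶ Triangle.mk ((DRing.derivedCompletion I).map φ).hom g' δW :=
    { hom₁ := DRing.toDerivedCompletion I K
      hom₂ := DRing.toDerivedCompletion I L
      hom₃ := w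
      comm₁ := hsq
      comm₂ := hw₂
      comm₃ := hw₃ }
  have hW : DRing.IsDerivedComplete I W := isComplete₃ I _ hT' ((DRing.derivedCompletion I).obj K).property
    ((DRing.derivedCompletion I).obj L).property
  obtain ⟨e, -⟩ := exists_iso I (cbij_toDerivedCompletion I Z)
    (cbij₃ I hT hT' m (cbij_toDerivedCompletion I K) (cbij_toDerivedCompletion I L))
    ((DRing.derivedCompletion I).obj Z).property hW
  have hz : ∀ j, Epi ((HH j).map φ) ∧ Mono ((HH (j + 1)).map φ) → IsZero ((HH j).obj Z) := fun j hj =>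
    (exact₃ _ hT j (j + 1) rfl).isZero_X₂ ((epi_homologyMap_mor₁_iff _ hT j).1 hj.1)
      ((mono_homologyMap_mor₁_iff _ hT j (j + 1) rfl).1 hj.2)
  have hWi : IsZero ((HH i).obj W) := by
    refine (isZero_completion I fs hI Z i ?_).of_iso ((HH i).mapIso e).symm
    exact h.imp (fun h j hj => hz j (h j hj)) (fun h j hj => hz j (h j hj))
  exact ⟨(epi_homologyMap_mor₁_iff _ hT' i).2 (hWi.eq_of_tgt _ _),
    (mono_homologyMap_mor₁_iff _ hT' i (i + 1) rfl).2 (hWi.eq_of_src _ _)⟩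

end Groth.L10.CompletionTriangle
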