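import Groth.Agent.L10.DRing.Modules
import Groth.Agent.L29.Dual.Criterion
import Mathlib.Algebra.Homology.Embedding.CochainComplex

/-!
Injective amplitude of objects of the derived category of modules.
-/

set_option autoImplicit false
set_option backward.isDefEq.respectTransparency false

universe u

open CategoryTheory CategoryTheory.Limits CategoryTheory.Pretriangulated IsLocalRing CochainComplex
open scoped Pointwise

attribute [local instance] HasDerivedCategory.standard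

namespace Groth.L10.DR

variable {A : Type u} [CommRing A]

/-- the cocycles above the vanishing range are injective -/
theorem injective_cycles {I : DRing.Cx A} [I.IsKInjective] (hinj : DRing.TermwiseInjective I) (b : ℤ)
    (hvan : ∀ (J : Ideal A) (i : ℤ), b < i → Subsingleton (Dual.inD A (A ⧸ J) ⟶ (DRing.toD I)⟦i⟧))
    (n : ℤ) (hn : b ≤ n) :
    Module.Injective A (LinearMap.ker (I.d n (n + 1)).hom) := by
  refine Module.Baer.injective fun 𝔞 g => ?_
  obtain ⟨h, hh⟩ := (hinj n).out 𝔞.subtype 𝔞.injective_subtype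
    ((LinearMap.ker (I.d n (n + 1)).hom).subtype ∘ₗ g)
  haveI := hvan 𝔞 (n + 1) (by lia)
  let f : A ⧸ 𝔞 →ₗ[A] I.X (n + 1) := Submodule.liftQ 𝔞 ((I.d n (n + 1)).hom ∘ₗ h) fun x hx => by
    change (I.d n (n + 1)).hom (h x) = 0
    rw [show h x = _ from hh ⟨x, hx⟩]
    exact (g ⟨x, hx⟩).2
  obtain ⟨g', hg'⟩ := Groth.L29.HomD.exists_lift_of_subsingleton (I := I) (ModuleCat.of A (A ⧸ 𝔞)) (n + 1)
    (ModuleCat.ofHom f) (ModuleCat.hom_ext (LinearMap.ext fun y => by
      obtain ⟨y, rfl⟩ := Submodule.mkQ_surjective _ y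
      exact LinearMap.congr_fun (congrArg ModuleCat.Hom.hom (I.d_comp_d n (n + 1) (n + 1 + 1))) (h y)))
  have hg'' : ∀ j, j = n → ∃ g'' : A ⧸ 𝔞 →ₗ[A] I.X n, ∀ y, (I.d n (n + 1)).hom (g'' y) = f y := by
    intro j hj
    revert g' hg'
    rw [show n + 1 - 1 = n by lia]
    intro g' hg'
    exact ⟨g'.hom, fun y => LinearMap.congr_fun (congrArg ModuleCat.Hom.hom hg') y⟩
  obtain ⟨g'', hg''⟩ := hg'' n rfl
  refine ⟨(h - g'' ∘ₗ Submodule.mkQ 𝔞).codRestrict _ fun x => ?_, fun x hx => Subtype.ext ?_⟩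
  · change (I.d n (n + 1)).hom (h x - g'' (Submodule.mkQ 𝔞 x)) = 0
    rw [map_sub, hg'', sub_eq_zero]
    rfl
  · change h x - g'' (Submodule.mkQ 𝔞 x) = _
    rw [Submodule.mkQ_apply, (Submodule.Quotient.mk_eq_zero 𝔞).2 hx, map_zero, sub_zero]
    exact hh ⟨x, hx⟩

theorem subsingleton_of_injAmp {K : Dual.D A} {a b : ℤ} (h : DRing.HasInjAmplitudeIn A a b K)
    (N : Type u) [AddCommGroup N] [Module A N] (i : ℤ) (hi : i < a ∨ b < i) :
    Subsingleton (DRing.ExtD A (Dual.inD A N) K i) := by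
  obtain ⟨I, hv, hinj, ⟨e⟩⟩ := h
  haveI : I.IsStrictlyGE a := (CochainComplex.isStrictlyGE_iff I a).2 fun j hj => hv j (Or.inl hj)
  haveI : ∀ n, Injective (I.X n) := fun n =>
    haveI := hinj n; Module.injective_object_of_injective_module A (I.X n)
  haveI := CochainComplex.isKInjective_of_injective I a
  have hz : IsZero ((DerivedCategory.homologyFunctor (ModuleCat.{u} A) i).obj
      (DRing.toD (Groth.L29.HomD.HM I (ModuleCat.of A N)))) := by
    refine (Groth.L02.PC.isZero_HH_Q_iff _ i).2 ((HomologicalComplex.exactAt_iff_isZero_homology _ i).1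
      (HomologicalComplex.ExactAt.of_isZero ?_))
    exact Functor.map_isZero (Groth.L29.HomD.hFun (ModuleCat.of A N)) (hv i hi)
  haveI : Subsingleton (Dual.HD A (DRing.toD (Groth.L29.HomD.HM I (ModuleCat.of A N))) i) :=
    ModuleCat.subsingleton_of_isZero hz
  haveI := (Groth.L29.HomD.homologyEquiv (ModuleCat.of A N) I i).symm.toEquiv.subsingleton
  exact (Iso.homCongr (Iso.refl (Dual.inD A N))
    ((CategoryTheory.shiftFunctor (Dual.D A) i).mapIso e)).symm.subsingleton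

theorem injAmp_of_vanishing {K : Dual.D A} {a b : ℤ}
    (h : ∀ (J : Ideal A) (i : ℤ), (i < a ∨ b < i) → Subsingleton (DRing.ExtD A (Dual.inD A (A ⧸ J)) K i)) :
    DRing.HasInjAmplitudeIn A a b K := by
  have hz : ∀ i : ℤ, (i < a ∨ b < i) → IsZero ((Groth.L02.PC.HH i).obj K) := fun i hi => by
    haveI := h ⊥ i hi
    let e0 : Dual.inD A A ≅ Dual.inD A (A ⧸ (⊥ : Ideal A)) := (DerivedCategory.singleFunctor (ModuleCat.{u} A) 0).mapIso
      (Submodule.quotEquivOfEqBot (⊥ : Ideal A) rfl).symm.toModuleIso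
    haveI : Subsingleton (Dual.inD A A ⟶ K⟦i⟧) := (Iso.homCongr e0 (Iso.refl (K⟦i⟧))).subsingleton
    haveI : Subsingleton (Dual.HD A K i) := (Groth.L29.HomD.evalShiftEquiv K i).symm.toEquiv.subsingleton
    exact ModuleCat.isZero_of_subsingleton _
  haveI : K.IsGE a := (DerivedCategory.isGE_iff K a).2 fun i hi => hz i (Or.inl hi)
  obtain ⟨I, hGE, hinj, hK, ⟨e⟩⟩ := Groth.L29.HomD.exists_injRep K a
  haveI := hGE; haveI := hK
  have hvan : ∀ (J : Ideal A) (i : ℤ), b < i → Subsingleton (Dual.inD A (A ⧸ J) ⟶ (DRing.toD I)⟦i⟧) := fun J i hi => by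
    haveI := h J i (Or.inr hi)
    exact (Iso.homCongr (Iso.refl (Dual.inD A (A ⧸ J)))
      ((CategoryTheory.shiftFunctor (Dual.D A) i).mapIso e)).subsingleton
  haveI : I.IsLE b := (CochainComplex.isLE_iff I b).2 fun i hi =>
    (I.exactAt_iff_isZero_homology i).2 ((HH_iso_zero e i).1 (hz i (Or.inr hi)))
  refine ⟨I.truncLE b, fun i hi => ?_, fun i => ?_, ⟨asIso (DerivedCategory.Q.map (I.ιTruncLE b)) ≪≫ e⟩⟩
  · rcases hi with hi | hi
    · haveI : (I.truncLE b).IsStrictlyGE a := inferInstance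
      exact CochainComplex.isZero_of_isStrictlyGE _ a i hi
    · exact CochainComplex.isZero_of_isStrictlyLE (I.truncLE b) b i hi
  · rcases lt_trichotomy i b with hi | rfl | hi
    · haveI := hinj i
      exact Groth.L04.injective_of_linearEquiv (CochainComplex.truncLEXIso I b i hi).toLinearEquiv.symm this
    · let e' : (I.truncLE i).X i ≅ ModuleCat.of A (LinearMap.ker (I.d i (i + 1)).hom) :=
        CochainComplex.truncLEXIsoCycles I i ≪≫
          IsLimit.conePointUniqueUpToIso (I.cyclesIsKernel i (i + 1) (by simp))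
            (ModuleCat.kernelIsLimit (I.d i (i + 1)))
      exact Groth.L04.injective_of_linearEquiv e'.toLinearEquiv.symm (injective_cycles hinj i hvan i le_rfl)
    · haveI := ModuleCat.subsingleton_of_isZero (CochainComplex.isZero_of_isStrictlyLE (I.truncLE b) b i hi)
      exact ⟨fun X Y _ _ _ _ f hf g => ⟨0, fun x => Subsingleton.elim _ _⟩⟩

theorem injDim_of_shift {K : Dual.D A} (h : DRing.HasFiniteInjDim A K) (n : ℤ) :
    DRing.HasFiniteInjDim A (K⟦n⟧) := by
  obtain ⟨a, b, E, h1, h2, ⟨e⟩⟩ := h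
  exact ⟨a - n, b - n, E⟦n⟧, fun i hi => h1 (i + n) (by omega), fun i => h2 (i + n),
    ⟨(DerivedCategory.Q.commShiftIso n).app E ≪≫ (CategoryTheory.shiftFunctor (Dual.D A) n).mapIso e⟩⟩

theorem injDim_of_iso {K L : Dual.D A} (e : K ≅ L) (h : DRing.HasFiniteInjDim A K) :
    DRing.HasFiniteInjDim A L := by
  obtain ⟨a, b, E, h1, h2, ⟨e'⟩⟩ := h
  exact ⟨a, b, E, h1, h2, ⟨e' ≪≫ e⟩⟩

theorem injDim_of_isZero {Z : Dual.D A} (hZ : IsZero Z) : DRing.HasFiniteInjDim A Z :=
  ⟨0, 0, injAmp_of_vanishing fun _ i _ =>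
    ⟨fun f g => ((CategoryTheory.shiftFunctor (Dual.D A) i).map_isZero hZ).eq_of_tgt f g⟩⟩

theorem injDim_second (T : Triangle (Dual.D A)) (hT : T ∈ distinguishedTriangles)
    (h₁ : DRing.HasFiniteInjDim A T.obj₁) (h₃ : DRing.HasFiniteInjDim A T.obj₃) :
    DRing.HasFiniteInjDim A T.obj₂ := by
  obtain ⟨a, b, h₁⟩ := h₁
  obtain ⟨c, d, h₃⟩ := h₃
  refine ⟨min a c, max b d, injAmp_of_vanishing fun J i hi => ⟨fun f g => sub_eq_zero.1 ?_⟩⟩
  haveI := subsingleton_of_injAmp h₁ (A ⧸ J) i (by omega)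
  haveI := subsingleton_of_injAmp h₃ (A ⧸ J) i (by omega)
  obtain ⟨φ, hφ⟩ := Triangle.coyoneda_exact₂ _ (Triangle.shift_distinguished T hT i) (f - g)
    (Subsingleton.elim (α := Dual.inD A (A ⧸ J) ⟶ T.obj₃⟦i⟧) _ 0)
  exact hφ.trans (by rw [Subsingleton.elim (α := Dual.inD A (A ⧸ J) ⟶ T.obj₁⟦i⟧) φ 0]; exact zero_comp)

end Groth.L10.DR
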