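import Groth.Agent.L10.DRing.DualVanishing
import Groth.Agent.L10.DRing.CompletionAdic
import Groth.Agent.L10.DRing.InjAmp
import Groth.Agent.L10.KInjDerived
import Groth.Agent.L04.MatlisEnd
import Groth.Agent.S1812
import Groth.Agent.S1746

/-! Local duality for unbounded objects with finite cohomology. -/

universe u

open CategoryTheory CategoryTheory.Limits CategoryTheory.Pretriangulated IsLocalRing Opposite MonoidalCategory DerCA

attribute [local instance] HasDerivedCategory.standard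

set_option backward.defeqAttrib.useBackward true
set_option backward.isDefEq.respectTransparency false
set_option linter.style.haveILetI false

namespace Groth.L10.DualUnbounded

open Groth.L29.HomD Groth.L29.LocDual Groth.L10.DualVanishing

variable {A : Type u} [CommRing A]

theorem hasRgammaI (I : Ideal A) : DRing.HasRgammaI I :=
  KInjDerived.hasRightDerivedFunctor (DRing.gammaIKh I)

theorem hasFiniteInjDim {ω : Dual.D A} (hω : Dual.IsDualizing A ω) : DRing.HasFiniteInjDim A ω := by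
  obtain ⟨a, b, hab⟩ := hω.finite_injective_dimension
  exact ⟨a, b, DR.injAmp_of_vanishing fun J i hi => hab (A ⧸ J) i hi⟩

/-- `RΓ` has cohomological amplitude at most the number of generators -/
theorem isZero_gamma [IsNoetherianRing A] (I : Ideal A) [DRing.HasRgammaI I] (fs : List A)
    (hI : Ideal.span {x : A | x ∈ fs} = I) (X : Dual.D A) (c : ℤ) [X.IsLE c] (q : ℤ) (hq : c + fs.length < q) :
    Subsingleton (Dual.HD A ((DRing.RgammaI I).obj X) q) := by
  obtain ⟨P, hP, ⟨e⟩⟩ := DerivedCategory.exists_iso_Q_obj_of_isLE X c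
  let E := extCech (ModuleCat.of A A) fs
  have hT : L04.RGamma.IsTors I (DRing.toD ((CechTorsLocal.TL P).obj E)) := fun i =>
    L04.RGamma.isPowerTorsion_of_iso I ((DerivedCategory.homologyFunctorFactors (ModuleCat.{u} A) i).app _).symm
      (CompletionAdic.isPowerTorsion_homology I fs hI ((isNoetherianRing_iff_ideal_fg A).1 inferInstance I) P i)
  obtain ⟨g⟩ := CechTorsLocal.exists_iso I
    (CechTorsLocal.tbij_aug I P fs fun x hx => hI ▸ Ideal.subset_span hx) (CechTorsLocal.tbij_ε I _)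
    hT (L04.RGamma.isTors_RgammaI I _)
  have hz : IsZero (((CechTorsLocal.TL P).obj E).X q) := by
    rw [IsZero.iff_id_eq_zero]
    refine HomologicalComplex.mapBifunctor.hom_ext fun a b h => ?_
    refine IsZero.eq_of_src ?_ _ _
    dsimp at h
    by_cases ha : c < a
    · exact ((curriedTensor (ModuleCat.{u} A)).flip.obj (E.X b)).map_isZero (P.isZero_of_isStrictlyLE c a ha)
    · exact ((curriedTensor (ModuleCat.{u} A)).obj (P.X a)).map_isZero
        (CechTorsion.isZero_X _ fs b (Or.inr (by omega)))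
  exact ModuleCat.subsingleton_of_isZero ((HomologicalComplex.ExactAt.isZero_homology
    (ShortComplex.exact_of_isZero_X₂ (((CechTorsLocal.TL P).obj E).sc q) hz)).of_iso
      ((DerivedCategory.homologyFunctor _ q).mapIso ((DRing.RgammaI I).mapIso e ≪≫ g.symm) ≪≫
        (DerivedCategory.homologyFunctorFactors (ModuleCat.{u} A) q).app _))

variable [IsLocalRing A] [IsNoetherianRing A]

theorem exists_die (X : Dual.D A) (h : Subsingleton ↥(colimit (dia X))) (k : ℕ) (x : P A k ⟶ X) :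
    ∃ (l : ℕ) (hl : k ≤ l), res hl ≫ x = 0 := by
  haveI : IsFiltered ℕᵒᵖᵒᵖ := IsFiltered.of_equivalence (opOpEquivalence ℕ).symm
  haveI : PreservesFilteredColimitsOfSize.{0, 0} (forget AddCommGrpCat.{u + 1}) :=
    preservesSmallestFilteredColimits_of_preservesFilteredColimits.{u + 1, u + 1} _
  haveI : PreservesColimitsOfShape ℕᵒᵖᵒᵖ (forget AddCommGrpCat.{u + 1}) :=
    PreservesFilteredColimitsOfSize.preserves_filtered_colimits _
  haveI : PreservesColimitsOfShape ℕᵒᵖᵒᵖ (forget (ModuleCat.{u + 1} A)) :=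
    comp_preservesColimitsOfShape (forget₂ (ModuleCat.{u + 1} A) AddCommGrpCat.{u + 1})
      (forget AddCommGrpCat.{u + 1})
  have h0 : colimit.ι (dia X) (op (op k)) x = colimit.ι (dia X) (op (op k)) 0 := Subsingleton.elim _ _
  obtain ⟨l, g₁, g₂, hl⟩ := (Concrete.colimit_rep_eq_iff_exists (dia X) (j := op (op k)) (i := op (op k)) x 0).1 h0
  rw [dia_map, map_zero] at hl
  exact ⟨l.unop.unop, g₁.unop.unop.le, hl⟩

variable {E : Type u} [AddCommGroup E] [Module A E]

theorem LD_of_vanishing {W : Dual.D A} (S : Pairing W E) (X : Dual.D A) (hX : Subsingleton (X ⟶ W))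
    (hd : ∀ (k : ℕ) (x : P A k ⟶ X), ∃ (l : ℕ) (hl : k ≤ l), res hl ≫ x = 0) : LD S X :=
  ⟨fun k x _ => hd k x, fun φ => ⟨0, 0, LinearMap.ext fun t => by
    rw [Subsingleton.elim t 0, map_zero, map_zero]⟩⟩

open DerivedCategory.TStructure in
/-- local duality for all objects with finite cohomology -/
theorem LD_of_finite {ω : Dual.D A} (hω : Dual.IsDualizing A ω) (S : Pairing ω E) (K : Dual.D A)
    (hK : ∀ i : ℤ, Module.Finite A (Dual.HD A K i)) (n : ℤ) : LD S (K⟦n⟧) := by
  haveI := hasRgammaI (maximalIdeal A)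
  obtain ⟨a, b, I, hI, hinj, ⟨eI⟩⟩ := hasFiniteInjDim hω
  obtain ⟨s, hs⟩ := (isNoetherianRing_iff_ideal_fg A).1 inferInstance (maximalIdeal A)
  have hfs : Ideal.span {x : A | x ∈ s.toList} = maximalIdeal A := by
    rw [← hs]; congr 1; ext; simp
  have hsep : ∀ (X : Dual.D A) (m : ℤ),
      ((∃ c, X.IsLE c ∧ c - m < a) ∨ (∃ c, X.IsGE c ∧ b < c - m)) → Subsingleton (X⟦m⟧ ⟶ ω) := fun X m h => by
    haveI := subsingleton_of_separated I a b hI hinj X (-m)
      (h.imp (fun ⟨c, h1, h2⟩ => ⟨c, h1, by omega⟩) (fun ⟨c, h1, h2⟩ => ⟨c, h1, by omega⟩))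
    exact ((shiftTo X ω m).toEquiv.trans (Iso.homCongr (Iso.refl X)
      ((CategoryTheory.shiftFunctor (Dual.D A) (-m)).mapIso eI.symm))).subsingleton
  have hhi : ∀ (X : Dual.D A) (c m : ℤ) [X.IsGE c], b < c - m → 1 ≤ c - m → LD S (X⟦m⟧) := fun X c m _ h1 h2 => by
    haveI : (X⟦m⟧).IsGE (c - m) := t.isGE_shift X c m (c - m) (by omega)
    haveI : (X⟦m⟧).IsGE 1 := t.isGE_of_ge _ 1 (c - m) h2
    exact LD_of_vanishing S _ (hsep X m (Or.inr ⟨c, inferInstance, h1⟩)) fun k x =>
      ⟨k, le_rfl, (congrArg (res le_rfl ≫ ·) (t.zero x 0 1 (by omega))).trans comp_zero⟩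
  have hlo : ∀ (X : Dual.D A) (c m : ℤ) [X.IsLE c], c - m < a → c + s.toList.length < m → LD S (X⟦m⟧) :=
    fun X c m _ h1 h2 => by
      refine LD_of_vanishing S _ (hsep X m (Or.inl ⟨c, inferInstance, h1⟩)) (exists_die _ ?_)
      obtain ⟨e⟩ := Groth.Agent.S1812.result A (maximalIdeal A) (IsNoetherian.noetherian _) X m
      haveI := isZero_gamma (maximalIdeal A) s.toList hfs X c m h2
      exact e.symm.toEquiv.subsingleton
  -- the window
  let hi : ℤ := max (b + n + 2) (n + 2)
  let lo : ℤ := min (a + n - 1) (n - 1 - s.toList.length)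
  let Y := (t.truncLT hi).obj K
  let Z := (t.truncGE lo).obj Y
  haveI hY : Y.IsLE (hi - 1) := inferInstanceAs (t.IsLE _ _)
  haveI : Z.IsGE lo := inferInstance
  haveI : Z.IsLE (hi - 1) := inferInstanceAs (t.IsLE ((t.truncGE lo).obj Y) (hi - 1))
  haveI hLo : ((t.truncLT lo).obj Y).IsLE (lo - 1) := inferInstanceAs (t.IsLE _ _)
  have hZfin : ∀ j : ℤ, Module.Finite A (Dual.HD A Z j) := fun j => by
    by_cases hj : lo ≤ j ∧ j ≤ hi - 1
    · haveI i1 := Groth.L10.isIso_H_π (A := ModuleCat.{u} A) lo j hj.1 Y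
      haveI i2 := Groth.L10.isIso_H_ι (A := ModuleCat.{u} A) hi j (by omega) K
      haveI : Module.Finite A ((DerivedCategory.homologyFunctor (ModuleCat.{u} A) j).obj
        ((CategoryTheory.Functor.id _).obj K)) := hK j
      exact Module.Finite.equiv ((CategoryTheory.asIso ((DerivedCategory.homologyFunctor
          (ModuleCat.{u} A) j).map ((t.truncLTι hi).app K))).symm ≪≫
        CategoryTheory.asIso ((DerivedCategory.homologyFunctor (ModuleCat.{u} A) j).map
          ((t.truncGEπ lo).app Y))).toLinearEquiv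
    · haveI : Subsingleton (Dual.HD A Z j) := ModuleCat.subsingleton_of_isZero (by
        by_cases hj' : lo ≤ j
        · exact DerivedCategory.isZero_of_isLE Z (hi - 1) j (by omega)
        · exact DerivedCategory.isZero_of_isGE Z lo j (by omega))
      infer_instance
  have hs0 : (0 : ℤ) ≤ s.toList.length := Int.natCast_nonneg _
  have hZ : ∀ m, LD S (Z⟦m⟧) := fun m => LD.of_bounded S Z lo (hi - 1) hZfin m
  have hYn : ∀ m, n ≤ m → m ≤ n + 1 → LD S (Y⟦m⟧) := fun m h1 h2 => by
    have hT := Triangle.shift_distinguished _ (t.triangleLTGE_distinguished lo Y) m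
    refine ⟨inj_mid S _ hT ?_ (hlo _ (lo - 1) m (by omega) (by omega)).1 (hZ m).1,
      surj_mid S _ hT ?_ (hZ m).2 (hlo _ (lo - 1) m (by omega) (by omega)).2⟩
    · exact (LD.of_iso S ((shiftFunctorAdd' (Dual.D A) m (-1) (m - 1) rfl).app Z) (hZ (m - 1))).2
    · exact (LD.of_iso S ((shiftFunctorAdd' (Dual.D A) m 1 (m + 1) rfl).app _)
        (hlo ((t.truncLT lo).obj Y) (lo - 1) (m + 1) (by omega) (by omega))).1
  have hK3 : ∀ m, n - 1 ≤ m → m ≤ n → LD S (((t.truncGE hi).obj K)⟦m⟧) := fun m h1 h2 =>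
    hhi _ hi m (by omega) (by omega)
  have hT := Triangle.shift_distinguished _ (t.triangleLTGE_distinguished hi K) n
  refine ⟨inj_mid S _ hT ?_ (hYn n le_rfl (by omega)).1 (hK3 n (by omega) le_rfl).1,
    surj_mid S _ hT ?_ (hK3 n (by omega) le_rfl).2 (hYn n le_rfl (by omega)).2⟩
  · exact (LD.of_iso S ((shiftFunctorAdd' (Dual.D A) n (-1) (n - 1) rfl).app _) (hK3 (n - 1) le_rfl (by omega))).2
  · exact (LD.of_iso S ((shiftFunctorAdd' (Dual.D A) n 1 (n + 1) rfl).app _) (hYn (n + 1) (by omega) le_rfl)).1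

theorem nonempty_equiv [IsAdicComplete (maximalIdeal A) A] {ω : Dual.D A} (hω : Dual.IsDualizing A ω)
    (hn : Dual.IsNormalized A ω) (f : ResidueField A →ₗ[A] E) (hf : InjHull.IsInjectiveHull f) (K : Dual.D A)
    (hK : ∀ i : ℤ, Module.Finite A (Dual.HD A K i)) (i : ℤ) :
    Nonempty ((K ⟶ ω⟦(-i)⟧) ≃ₗ[A] (Dual2.HDI A (maximalIdeal A) K i →ₗ[A] E)) := by
  obtain ⟨S⟩ := exists_pairing hω hn f hf
  obtain ⟨hinjX, hsurjX⟩ := LD_of_finite hω S K hK i
  haveI := Groth.Agent.S1746.result A K ω hK hω.finite_cohomology (hasFiniteInjDim hω) (-i)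
  let X := K⟦i⟧
  haveI : Module.Finite A (X ⟶ ω) := Module.Finite.equiv (shiftTo K ω i).symm
  obtain ⟨N₀, _, _, _, ⟨e₀⟩⟩ := exists_small (A := A) (X ⟶ ω)
  let back : ((X ⟶ ω) →ₗ[A] E) ≃ₗ[A] (N₀ →ₗ[A] E) := e₀.symm.arrowCongr (LinearEquiv.refl A E)
  let D := dia X
  let c : Cocone D :=
    { pt := ModuleCat.of A (ULift.{u + 1} (N₀ →ₗ[A] E))
      ι :=
        { app := fun j => ModuleCat.ofHom (ULift.moduleEquiv.symm.toLinearMap ∘ₗ back.toLinearMap ∘ₗ
            pair S j.unop.unop X)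
          naturality := fun j j' g => ModuleCat.hom_ext (LinearMap.ext fun a => ULift.ext _ _ (by
            change back (pair S j'.unop.unop X ((D.map g) a)) = _
            rw [dia_map, pair_res]
            rfl)) } }
  let Φ : ↥(colimit D) →ₗ[A] ULift.{u + 1} (N₀ →ₗ[A] E) := (colimit.desc D c).hom
  have hι : ∀ j a, (Φ (colimit.ι D j a)).down = back (pair S j.unop.unop X a) := fun j a =>
    congrArg ULift.down (LinearMap.congr_fun (congrArg ModuleCat.Hom.hom (colimit.ι_desc c j)) a)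
  haveI : IsFiltered ℕᵒᵖᵒᵖ := IsFiltered.of_equivalence (opOpEquivalence ℕ).symm
  haveI : PreservesFilteredColimitsOfSize.{0, 0} (forget AddCommGrpCat.{u + 1}) :=
    preservesSmallestFilteredColimits_of_preservesFilteredColimits.{u + 1, u + 1} _
  haveI : PreservesColimitsOfShape ℕᵒᵖᵒᵖ (forget AddCommGrpCat.{u + 1}) :=
    PreservesFilteredColimitsOfSize.preserves_filtered_colimits _
  haveI : PreservesColimitsOfShape ℕᵒᵖᵒᵖ (forget (ModuleCat.{u + 1} A)) :=
    comp_preservesColimitsOfShape (forget₂ (ModuleCat.{u + 1} A) AddCommGrpCat.{u + 1})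
      (forget AddCommGrpCat.{u + 1})
  have hbij : Function.Bijective Φ := by
    constructor
    · rw [injective_iff_map_eq_zero]
      intro z hz
      obtain ⟨j, a, rfl⟩ := Concrete.colimit_exists_rep D z
      have hz' := (hι j a).symm.trans (congrArg ULift.down hz)
      rw [ULift.zero_down, LinearEquiv.map_eq_zero_iff] at hz'
      obtain ⟨l, hl, hl0⟩ := hinjX _ a hz'
      let g : j ⟶ op (op l) := (homOfLE hl).op.op
      rw [← colimit.w D g, ModuleCat.comp_apply, dia_map, hl0]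
      exact map_zero _
    · intro φ
      obtain ⟨k, x, hx⟩ := hsurjX (back.symm φ.down)
      refine ⟨colimit.ι D (op (op k)) x, ULift.ext _ _ ?_⟩
      rw [hι, hx, LinearEquiv.apply_symm_apply]
  let e : ↥(Dual2.HDI A (maximalIdeal A) K i) ≃ₗ[A] (N₀ →ₗ[A] E) :=
    LinearEquiv.ofBijective Φ hbij ≪≫ₗ ULift.moduleEquiv
  exact ⟨(shiftTo K ω i).symm ≪≫ₗ e₀.symm ≪≫ₗ
    LinearEquiv.ofBijective _ (Groth.L04.applyₗ_bijective_of_finite hf N₀) ≪≫ₗ
    e.symm.arrowCongr (LinearEquiv.refl A E)⟩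

end Groth.L10.DualUnbounded
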