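import Groth.Agent.L29.Dual.LocalDualityPairing
import Groth.Agent.L29.Dual.LocalDualityCor
import Groth.Agent.L29.Dual.Unique
import Groth.Agent.L04.Matlis
import Groth.Agent.L04.Essential
import Groth.Prelude.Def_DualLC
import Mathlib.Algebra.Category.ModuleCat.FilteredColimits
import Mathlib.CategoryTheory.Filtered.Basic
import Mathlib.Algebra.Category.Grp.FilteredColimits
import Mathlib.Algebra.Category.Grp.Colimits

/-! Local duality as a vanishing criterion. -/

universe u

open CategoryTheory CategoryTheory.Limits IsLocalRing Opposite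

attribute [local instance] HasDerivedCategory.standard

set_option backward.isDefEq.respectTransparency false

namespace Groth.L10.DualVanishing

open Groth.L29.HomD Groth.L29.LocDual

variable {A : Type u} [CommRing A] [IsLocalRing A] [IsNoetherianRing A]

/-- the diagram of `HDI` at the maximal ideal -/
noncomputable abbrev dia (X : Dual.D A) : (ℕᵒᵖ)ᵒᵖ ⥤ ModuleCat.{u + 1} A :=
  (localCohomology.ringModIdeals (localCohomology.idealPowersDiagram (maximalIdeal A)) ⋙
      DerivedCategory.singleFunctor (ModuleCat.{u} A) 0).op ⋙ (linearYoneda A (Dual.D A)).obj X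

theorem dia_map (X : Dual.D A) {j j' : (ℕᵒᵖ)ᵒᵖ} (g : j ⟶ j') (x : P A j.unop.unop ⟶ X) :
    (dia X).map g x = res g.unop.unop.le ≫ x := by
  have hp : (localCohomology.ringModIdeals (localCohomology.idealPowersDiagram (maximalIdeal A))).map g.unop =
      proj (A := A) g.unop.unop.le :=
    ModuleCat.hom_ext (Submodule.linearMap_qext _ rfl)
  rw [res, ← hp]
  rfl

variable {E : Type u} [AddCommGroup E] [Module A E]

theorem subsingleton_iff {ω : Dual.D A} (S : Pairing ω E) (X : Dual.D A) (h : LD S X)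
    [Module.Finite A (X ⟶ ω)] (f : ResidueField A →ₗ[A] E) (hf : InjHull.IsInjectiveHull f) :
    Subsingleton ↥(colimit (dia X)) ↔ Subsingleton (X ⟶ ω) := by
  haveI : IsFiltered ℕᵒᵖᵒᵖ := IsFiltered.of_equivalence (opOpEquivalence ℕ).symm
  haveI : PreservesFilteredColimitsOfSize.{0, 0} (forget AddCommGrpCat.{u + 1}) :=
    preservesSmallestFilteredColimits_of_preservesFilteredColimits.{u + 1, u + 1} _
  haveI : PreservesColimitsOfShape ℕᵒᵖᵒᵖ (forget AddCommGrpCat.{u + 1}) :=
    PreservesFilteredColimitsOfSize.preserves_filtered_colimits _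
  haveI : PreservesColimitsOfShape ℕᵒᵖᵒᵖ (forget (ModuleCat.{u + 1} A)) :=
    comp_preservesColimitsOfShape (forget₂ (ModuleCat.{u + 1} A) AddCommGrpCat.{u + 1})
      (forget AddCommGrpCat.{u + 1})
  constructor
  · intro hs
    have hz : ∀ (k : ℕ) (x : P A k ⟶ X), pair S k X x = 0 := fun k x => by
      have h0 : colimit.ι (dia X) (op (op k)) x = colimit.ι (dia X) (op (op k)) 0 := Subsingleton.elim _ _
      obtain ⟨l, g₁, g₂, hl⟩ := (Concrete.colimit_rep_eq_iff_exists (dia X) (j := op (op k)) (i := op (op k)) x 0).1 h0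
      rw [dia_map, map_zero] at hl
      rw [← pair_res S g₁.unop.unop.le x]
      exact (congrArg (pair S l.unop.unop X) hl).trans (map_zero _)
    have hφ : ∀ φ : (X ⟶ ω) →ₗ[A] E, φ = 0 := fun φ => by
      obtain ⟨k, x, rfl⟩ := h.2 φ
      exact hz k x
    obtain ⟨N₀, _, _, _, ⟨e₀⟩⟩ := exists_small (A := A) (X ⟶ ω)
    have : ∀ y : N₀, y = 0 := fun y => Groth.L04.applyₗ_injective hf N₀ (LinearMap.ext fun φ => by
      have h1 := LinearMap.congr_fun (hφ (φ ∘ₗ e₀.symm.toLinearMap)) (e₀ y)
      simpa using h1)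
    exact ⟨fun a b => e₀.symm.injective ((this _).trans (this _).symm)⟩
  · intro hs
    refine subsingleton_of_forall_eq 0 fun z => ?_
    obtain ⟨j, x, rfl⟩ := Concrete.colimit_exists_rep (dia X) z
    obtain ⟨l, hl, hl0⟩ := h.1 j.unop.unop x (LinearMap.ext fun t => by
      rw [Subsingleton.elim t 0, map_zero, map_zero])
    let g : j ⟶ op (op l) := (homOfLE hl).op.op
    rw [← colimit.w (dia X) g, ModuleCat.comp_apply, dia_map, hl0]
    exact map_zero _

/-- vanishing of local cohomology and of maps to the dualizing complex -/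
theorem HDI_iff {ω : Dual.D A} (hω : Dual.IsDualizing A ω) (hn : Dual.IsNormalized A ω) (M : Dual.D A)
    (hfin : ∀ i : ℤ, Module.Finite A (Dual.HD A M i))
    (hbd : ∃ a b : ℤ, ∀ i : ℤ, (i < a ∨ b < i) → Subsingleton (Dual.HD A M i)) (q : ℤ) :
    Subsingleton ↥(Dual2.HDI A (maximalIdeal A) M q) ↔ Subsingleton (M ⟶ ω⟦-q⟧) := by
  obtain ⟨E, _, _, f, hf⟩ := Groth.L04.exists_injectiveHull (R := A) (ResidueField A)
  obtain ⟨S⟩ := exists_pairing hω hn f hf
  obtain ⟨a, b, hab⟩ := hbd
  haveI : M.IsGE a := (DerivedCategory.isGE_iff M a).2 fun i hi =>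
    @ModuleCat.isZero_of_subsingleton A _ _ (hab i (Or.inl hi))
  haveI : M.IsLE b := (DerivedCategory.isLE_iff M b).2 fun i hi =>
    @ModuleCat.isZero_of_subsingleton A _ _ (hab i (Or.inr hi))
  haveI := Groth.L29.Unique.finite_hom_bounded (good_of_isDualizing hω) M a b hfin (-q)
  haveI : Module.Finite A (M⟦q⟧ ⟶ ω) := Module.Finite.equiv (shiftTo M ω q).symm
  exact (subsingleton_iff S (M⟦q⟧) (LD.of_bounded S M a b hfin q) f hf).trans
    (shiftTo M ω q).toEquiv.subsingleton_congr

end Groth.L10.DualVanishing
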