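import Groth.Agent.L10.DRing.Modules
import Groth.Agent.L02.Flat

/-!
Pseudo-coherence over a coherent ring.
-/

set_option autoImplicit false
set_option backward.isDefEq.respectTransparency false
set_option backward.isDefEq.respectTransparency.types false

universe u

open CategoryTheory CategoryTheory.Limits CategoryTheory.Pretriangulated

attribute [local instance] HasDerivedCategory.standard

namespace Groth.L10.DR

variable {A : Type u} [CommRing A] (hA : ∀ I : Ideal A, I.FG → Module.FinitePresentation A I)
include hA

theorem fp_of_fg_free {M : Type u} [AddCommGroup M] [Module A M] [Module.Finite A M] [Module.Free A M]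
    (N : Submodule A M) (hN : N.FG) : Module.FinitePresentation A N := by
  let e := ((Module.Free.chooseBasis A M).reindex (Fintype.equivFin _)).equivFun
  haveI := (Groth.L02.isCoh_pi_fin hA (Fintype.card (Module.Free.ChooseBasisIndex A M))).2
    (N.map e.toLinearMap) (hN.map _)
  exact Module.FinitePresentation.of_equiv
    (Submodule.equivMapOfInjective e.toLinearMap e.injective N).symm

theorem finite_ker_free {M N : Type u} [AddCommGroup M] [Module A M] [Module.Finite A M] [Module.Free A M]
    [AddCommGroup N] [Module A N] [Module.Finite A N] [Module.Free A N] (f : M →ₗ[A] N) :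
    Module.Finite A (LinearMap.ker f) := by
  haveI := fp_of_fg_free hA (LinearMap.range f)
    (LinearMap.range_eq_map f ▸ (Module.Finite.fg_top (R := A) (M := M)).map f)
  have h := Module.FinitePresentation.fg_ker f.rangeRestrict f.surjective_rangeRestrict
  rw [LinearMap.ker_rangeRestrict] at h
  exact Module.Finite.iff_fg.2 h

theorem fp_homology {E : DRing.Cx A} (hE : DRing.TermwiseFiniteFree E) (i : ℤ) :
    Module.FinitePresentation A (E.homology i) := by
  haveI := (hE i).1; haveI := (hE i).2
  haveI := (hE (i + 1)).1; haveI := (hE (i + 1)).2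
  haveI := (hE (i - 1)).1
  have hfin : Module.Finite A (LinearMap.ker (E.d i (i + 1)).hom) := finite_ker_free hA _
  haveI : Module.Finite A (LinearMap.ker (E.sc' (i - 1) i (i + 1)).g.hom) := hfin
  haveI : Module.Finite A (E.sc' (i - 1) i (i + 1)).X₁ := (hE (i - 1)).1
  have hfp : Module.FinitePresentation A (LinearMap.ker (E.d i (i + 1)).hom) :=
    fp_of_fg_free hA _ (Module.Finite.iff_fg.1 hfin)
  haveI : Module.FinitePresentation A (LinearMap.ker (E.sc' (i - 1) i (i + 1)).g.hom) := hfp
  haveI := Module.finitePresentation_of_surjective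
    (LinearMap.range (E.sc' (i - 1) i (i + 1)).moduleCatToCycles).mkQ (Submodule.mkQ_surjective _)
    (by rw [Submodule.ker_mkQ]; exact LinearMap.range_eq_map (E.sc' (i - 1) i (i + 1)).moduleCatToCycles ▸
          (Module.Finite.fg_top (R := A) (M := (E.sc' (i - 1) i (i + 1)).X₁)).map _)
  exact Module.FinitePresentation.of_equiv (Groth.L02.PC.homologyEquiv E i).symm

theorem pcModule_coherent (k : ℕ) :
    ∀ (M : Type u) [AddCommGroup M] [Module A M] [Module.FinitePresentation A M],
      DRing.IsPseudoCoherentModule A (-(k : ℤ)) M := by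
  induction k with
  | zero => intro M _ _ _; exact pcModule_zero M
  | succ k ih =>
    intro M _ _ _
    obtain ⟨n, f, hf⟩ := Module.Finite.exists_fin' A M
    haveI := fp_of_fg_free hA (LinearMap.ker f) (Module.FinitePresentation.fg_ker f hf)
    refine pcModule_step n f hf _ ?_
    rw [show (-((k + 1 : ℕ) : ℤ)) + 1 = -(k : ℤ) by omega]
    exact ih _

theorem pcModule'_coherent (M : Type u) [AddCommGroup M] [Module A M] [Module.FinitePresentation A M] (p : ℤ) :
    DRing.IsPseudoCoherentModule A p M :=
  Groth.L02.PC.pc_mono (show -((-p).toNat : ℤ) ≤ p by omega) (pcModule_coherent hA _ M)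

theorem finite_and_fp_of_pc {K : Dual.D A} {m : ℤ} (h : DRing.IsPseudoCoherent A m K) :
    Module.Finite A (Dual.HD A K m) ∧ ∀ i, m < i → Module.FinitePresentation A (Dual.HD A K i) := by
  obtain ⟨E, a, b, α, hv, hf, hα⟩ := (Groth.L02.PC.pc_iff m K).1 h
  have hE : ∀ i, Module.FinitePresentation A ((Groth.L02.PC.HH i).obj (DRing.toD E)) := fun i => by
    haveI : Module.FinitePresentation A
        ((HomologicalComplex.homologyFunctor (ModuleCat A) (ComplexShape.up ℤ) i).obj E) := fp_homology hA hf i
    exact Module.FinitePresentation.of_equiv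
      ((DerivedCategory.homologyFunctorFactors (ModuleCat A) i).app E).toLinearEquiv.symm
  refine ⟨?_, fun i hi => ?_⟩
  · haveI := hE m
    haveI := hα.2
    exact Module.Finite.of_surjective ((Groth.L02.PC.HH m).map α).hom
      ((ModuleCat.epi_iff_surjective _).1 inferInstance)
  · haveI := hE i
    haveI := hα.1 i hi
    exact Module.FinitePresentation.of_equiv (asIso ((Groth.L02.PC.HH i).map α)).toLinearEquiv

end Groth.L10.DR
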