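import Groth.Agent.L28.TensorCx
import Groth.Prelude.Def_DRing4
import Mathlib.Algebra.Category.ModuleCat.Monoidal.Closed

/-! Tensor-Hom adjunction for complexes of modules: `Hom•(K, Hom•(L, M)) ≅ Hom•(K ⊗ L, M)`. -/

universe u

open CategoryTheory CategoryTheory.Limits MonoidalCategory CochainComplex CochainComplex.HomComplex
open scoped TensorProduct

attribute [local instance] HasDerivedCategory.standard

set_option backward.defeqAttrib.useBackward true
set_option backward.isDefEq.respectTransparency false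

namespace Groth.L10.HomTensor

open Groth.L28.TensorCx (ins)

variable {R : Type u} [CommRing R] {K L M : DRing.Cx R}

/-- a component of a cochain into a Hom complex -/
noncomputable def app {n : ℤ} (z : Cochain K (DRing.homCx L M) n) (p q : ℤ) (h : p + n = q) (a b : ℤ)
    (h' : a + q = b) : K.X p →ₗ[R] L.X a →ₗ[R] M.X b where
  toFun x := (((z.v p q h).hom x : Cochain L M q).v a b h').hom
  map_add' x x' := by
    rw [map_add]; rfl
  map_smul' c x := by
    rw [map_smul]; rfl

theorem app_congr {n : ℤ} (z : Cochain K (DRing.homCx L M) n) (p : ℤ) {q q' : ℤ} (h : p + n = q)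
    (h₂ : p + n = q') (a b : ℤ) (h' : a + q = b) (h₂' : a + q' = b) :
    app z p q h a b h' = app z p q' h₂ a b h₂' := by
  obtain rfl : q = q' := h.symm.trans h₂
  rfl

/-- uncurrying -/
noncomputable def fwd {n : ℤ} (z : Cochain K (DRing.homCx L M) n) : Cochain (K ⊗ L) M n :=
  Cochain.mk fun m b hmb => HomologicalComplex.mapBifunctorDesc fun p a h =>
    ModuleCat.ofHom (X := K.X p ⊗[R] L.X a)
      (TensorProduct.lift (app z p (p + n) rfl a b (by dsimp at h; omega)))

theorem fwd_ins {n : ℤ} (z : Cochain K (DRing.homCx L M) n) (p a m : ℤ) (h : p + a = m) (b : ℤ)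
    (hb : m + n = b) (q : ℤ) (hq : p + n = q) (x : K.X p) (y : L.X a) :
    ((fwd z).v m b hb).hom (ins K L p a m h (x ⊗ₜ y)) =
      app z p q hq a b (by omega) x y := by
  obtain rfl := hq
  refine (LinearMap.congr_fun (congrArg ModuleCat.Hom.hom
    (HomologicalComplex.ι_mapBifunctorDesc (K₁ := K) (K₂ := L) (c := ComplexShape.up ℤ)
      (F := curriedTensor (ModuleCat.{u} R)) (A := M.X b) (j := m)
      (fun p a h => ModuleCat.ofHom (X := K.X p ⊗[R] L.X a)
        (TensorProduct.lift (app z p (p + n) rfl a b (by dsimp at h; omega)))) p a h)) (x ⊗ₜ y)).trans ?_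
  rfl

/-- currying -/
noncomputable def bwd {n : ℤ} (w : Cochain (K ⊗ L) M n) : Cochain K (DRing.homCx L M) n :=
  Cochain.mk fun p q hpq => ModuleCat.ofHom (Y := Cochain L M q)
    { toFun := fun x => Cochain.mk fun a b hab => ModuleCat.ofHom
        ((w.v (p + a) b (by omega)).hom ∘ₗ ins K L p a (p + a) rfl ∘ₗ TensorProduct.mk R (K.X p) (L.X a) x)
      map_add' := fun x x' => by
        ext a b hab : 1
        refine ModuleCat.hom_ext (LinearMap.ext fun y => ?_)
        simp [TensorProduct.add_tmul]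
      map_smul' := fun c x => by
        ext a b hab : 1
        refine ModuleCat.hom_ext (LinearMap.ext fun y => ?_)
        change (w.v (p + a) b _).hom (ins K L p a (p + a) rfl ((c • x) ⊗ₜ y)) =
          c • (w.v (p + a) b _).hom (ins K L p a (p + a) rfl (x ⊗ₜ y))
        rw [← TensorProduct.smul_tmul', map_smul, map_smul] }

theorem app_bwd {n : ℤ} (w : Cochain (K ⊗ L) M n) (p q : ℤ) (hq : p + n = q) (a b : ℤ) (h' : a + q = b)
    (x : K.X p) (y : L.X a) :
    app (bwd w) p q hq a b h' x y = (w.v (p + a) b (by omega)).hom (ins K L p a (p + a) rfl (x ⊗ₜ y)) := rfl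

theorem bwd_fwd {n : ℤ} (z : Cochain K (DRing.homCx L M) n) : bwd (fwd z) = z := by
  ext p q hpq : 1
  refine ModuleCat.hom_ext (LinearMap.ext fun x => Cochain.ext _ _ fun a b hab => ?_)
  refine ModuleCat.hom_ext (LinearMap.ext fun y => ?_)
  exact (app_bwd (fwd z) p q hpq a b hab x y).trans (fwd_ins z p a _ rfl b _ q hpq x y)

theorem ext_ins {n : ℤ} {w w' : Cochain (K ⊗ L) M n}
    (H : ∀ (p a m : ℤ) (h : p + a = m) (b : ℤ) (hb : m + n = b) (x : K.X p) (y : L.X a),
      (w.v m b hb).hom (ins K L p a m h (x ⊗ₜ y)) = (w'.v m b hb).hom (ins K L p a m h (x ⊗ₜ y))) : w = w' := by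
  ext m b hb : 1
  refine L28.TensorCx.hom_ext fun p a h z => ?_
  induction z using TensorProduct.induction_on with
  | zero => simp only [map_zero]
  | tmul x y => exact H p a m h b hb x y
  | add z z' e e' => simp only [map_add, e, e']

theorem fwd_bwd {n : ℤ} (w : Cochain (K ⊗ L) M n) : fwd (bwd w) = w := by
  refine ext_ins fun p a m h b hb x y => ?_
  subst h
  exact (fwd_ins (bwd w) p a _ rfl b hb (p + n) rfl x y).trans (app_bwd w p (p + n) rfl a b _ x y)

/-- the equivalence on cochains -/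
noncomputable def equiv (n : ℤ) : Cochain K (DRing.homCx L M) n ≃ₗ[R] Cochain (K ⊗ L) M n where
  toFun := fwd
  invFun := bwd
  left_inv := bwd_fwd
  right_inv := fwd_bwd
  map_add' z z' := ext_ins fun p a m h b hb x y => by
    rw [fwd_ins (z + z') p a m h b hb (p + n) rfl]
    simp only [Cochain.add_v, ModuleCat.hom_add, LinearMap.add_apply,
      fwd_ins z p a m h b hb (p + n) rfl, fwd_ins z' p a m h b hb (p + n) rfl]
    rfl
  map_smul' c z := ext_ins fun p a m h b hb x y => by
    rw [fwd_ins (c • z) p a m h b hb (p + n) rfl]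
    simp only [RingHom.id_apply, Cochain.smul_v, ModuleCat.hom_smul, LinearMap.smul_apply,
      fwd_ins z p a m h b hb (p + n) rfl]
    rfl

theorem fwd_δ {n n' : ℤ} (hn : n + 1 = n') (z : Cochain K (DRing.homCx L M) n) :
    δ n n' (fwd z) = fwd (δ n n' z) := by
  refine ext_ins fun p a m h b hb x y => ?_
  rw [fwd_ins (δ n n' z) p a m h b hb (p + n') rfl]
  rw [δ_v n n' hn (fwd z) m b hb (b - 1) (m + 1) rfl rfl]
  change ((M.d (b - 1) b).hom (((fwd z).v m (b - 1) _).hom (ins K L p a m h (x ⊗ₜ y)))) +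
      ((n'.negOnePow : ℤ) • ((fwd z).v (m + 1) b _).hom ((K ⊗ L).d m (m + 1) (ins K L p a m h (x ⊗ₜ y)))) = _
  have hd := L28.TensorCx.d_ins K L p a m (m + 1) (p + 1) (a + 1) h (rfl : m + 1 = m + 1) (rfl : p + 1 = p + 1)
    (rfl : a + 1 = a + 1) (by omega) (by omega) (x ⊗ₜ y)
  simp only [LinearMap.rTensor_tmul, LinearMap.lTensor_tmul] at hd
  erw [hd]
  rw [map_add, map_zsmul, fwd_ins z p a m h (b - 1) _ (p + n) rfl, fwd_ins z (p + 1) a (m + 1) _ b _ (p + n') (by omega),
    fwd_ins z p (a + 1) (m + 1) _ b _ (p + n) rfl]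
  change _ = (((δ n n' z).v p (p + n') rfl).hom x : Cochain L M (p + n')).v a b _ y
  rw [δ_v n n' hn z p (p + n') rfl (p + n) (p + 1) (by omega) rfl]
  change _ = ((δ (p + n) (p + n') ((z.v p (p + n) rfl).hom x : Cochain L M (p + n))).v a b (show a + (p + n') = b by omega)).hom y +
    (n'.negOnePow : ℤ) • app z (p + 1) (p + n') (by omega) a b (by omega) (K.d p (p + 1) x) y
  rw [δ_v (p + n) (p + n') (by omega) _ a b (by omega) (b - 1) (a + 1) rfl rfl]
  change _ = M.d (b - 1) b (app z p (p + n) rfl a (b - 1) (by omega) x y) +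
      ((p + n').negOnePow : ℤ) • app z p (p + n) rfl (a + 1) b (by omega) x (L.d a (a + 1) y) + _
  rw [ComplexShape.ε_up_ℤ, smul_add, smul_smul, Int.negOnePow_add, Units.val_mul, mul_comm (p.negOnePow : ℤ)]
  abel

/-- the isomorphism of complexes -/
noncomputable def iso (K L M : DRing.Cx R) : DRing.homCx K (DRing.homCx L M) ≅ DRing.homCx (K ⊗ L) M :=
  HomologicalComplex.Hom.isoOfComponents
    (fun n => (equiv n).toModuleIso (X₁ := Cochain K (DRing.homCx L M) n) (X₂ := Cochain (K ⊗ L) M n))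
    (fun i j hij => ModuleCat.hom_ext (LinearMap.ext fun z => fwd_δ hij z))

end Groth.L10.HomTensor
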