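import Groth.Agent.L10.DRing.RHomCx
import Groth.Agent.L10.DRing.HomTensor
import Groth.Agent.L10.DRing.KFlatLBC
import Groth.Agent.L10.KFlat.Res
import Mathlib.RingTheory.Localization.BaseChange
import Mathlib.RingTheory.Localization.Away.Basic

/-! `RHom(F, RHom(G, -)) ≅ RHom(F ⊗ G, -)` for K-flat `G`. -/

universe u

open CategoryTheory CategoryTheory.Limits MonoidalCategory CochainComplex CochainComplex.HomComplex

attribute [local instance] HasDerivedCategory.standard

set_option backward.defeqAttrib.useBackward true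
set_option backward.isDefEq.respectTransparency false
set_option linter.style.haveILetI false

namespace Groth.L10.RHomComp

variable {A : Type u} [CommRing A]

theorem isZero_homology_of_cocycles (J X : DRing.Cx A) [J.IsKInjective]
    (hX : ∀ i, IsZero (X.homology i)) (n : ℤ) (z : Cochain X J n) (hz : δ n (n + 1) z = 0) :
    ∃ w : Cochain X J (n - 1), δ (n - 1) n w = z := by
  have hac : X.Acyclic := fun i => (HomologicalComplex.exactAt_iff_isZero_homology _ _).2 (hX i)
  have h0 : CohomologyClass.toHom (CohomologyClass.mk (Cocycle.mk z (n + 1) rfl hz)) = 0 := by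
    rw [CohomologyClass.toHom_mk, HomotopyCategory.quotient_map_eq_zero_iff]
    exact ⟨CochainComplex.IsKInjective.homotopyZero _ hac⟩
  exact (mem_coboundaries_iff _ (n - 1) (sub_add_cancel n 1)).1 ((CohomologyClass.toHom_mk_eq_zero_iff _).1 h0)

/-- `Hom•(X, J)` is acyclic for acyclic `X` and K-injective `J` -/
theorem isZero_homCx (J X : DRing.Cx A) [J.IsKInjective] (hX : ∀ i, IsZero (X.homology i)) (n : ℤ) :
    IsZero ((DRing.homCx X J).homology n) :=
  (L28.HomElt.isZero_homology_iff (i := n - 1) (k := n + 1) (CochainComplex.prev ℤ n) (CochainComplex.next ℤ n)).2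
    fun z hz => isZero_homology_of_cocycles J X hX n z hz

/-- testing K-injectivity on Hom complexes -/
theorem isKInjective_of_isZero (J : DRing.Cx A)
    (h : ∀ X : DRing.Cx A, (∀ i, IsZero (X.homology i)) → IsZero ((DRing.homCx X J).homology 0)) :
    J.IsKInjective where
  nonempty_homotopy_zero {X} f hX := by
    have := (L28.HomElt.isZero_homology_iff (i := (-1 : ℤ)) (k := 1) (CochainComplex.prev ℤ 0)
      (CochainComplex.next ℤ 0)).1 (h X fun i => (HomologicalComplex.exactAt_iff_isZero_homology _ _).1 (hX i))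
    obtain ⟨w, hw⟩ := this (Cochain.ofHom f) (δ_ofHom f)
    exact ⟨(Cochain.equivHomotopy f 0).symm ⟨w, by
      have hw' : δ (-1) 0 (w : Cochain X J (-1)) = Cochain.ofHom f := hw
      rw [hw', Cochain.ofHom_zero, add_zero]⟩⟩

theorem isKInjective_homCx {F : DRing.Cx A} (hF : DRing.IsKFlat A F) (I : DRing.Cx A) [I.IsKInjective] :
    (DRing.homCx F I).IsKInjective :=
  isKInjective_of_isZero _ fun X hX => (isZero_homCx I (X ⊗ F) (hF X hX) 0).of_iso
    ((HomologicalComplex.homologyFunctor _ _ 0).mapIso (HomTensor.iso X F I))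

/-- composition of derived Homs -/
theorem nonempty_comp_iso {F G H : DRing.Cx A} (hG : DRing.IsKFlat A G) [DRing.HasRHomCx F] [DRing.HasRHomCx G]
    [DRing.HasRHomCx H] (e : F ⊗ G ≅ H) (K : Dual.D A) :
    Nonempty ((DRing.RHomCx F).obj ((DRing.RHomCx G).obj K) ≅ (DRing.RHomCx H).obj K) := by
  let M := DerivedCategory.Q.objPreimage K
  let I := KInjRes.res M
  haveI := RHomCx.isIso_Q_map (KInjRes.resι M)
  let eK : DRing.toD I ≅ K :=
    (asIso (DerivedCategory.Q.map (KInjRes.resι M))).symm ≪≫ DerivedCategory.Q.objObjPreimageIso K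
  haveI := isKInjective_homCx hG I
  haveI := RHomCx.quasiIso_homCxPre e.hom I
  haveI := RHomCx.isIso_Q_map (RHomCx.homCxPre e.hom I)
  exact ⟨(DRing.RHomCx F).mapIso ((DRing.RHomCx G).mapIso eK.symm ≪≫ (RHomCx.computeInj G I).symm) ≪≫
    (RHomCx.computeInj F (DRing.homCx G I)).symm ≪≫ DerivedCategory.Q.mapIso (HomTensor.iso F G I) ≪≫
    (asIso (DerivedCategory.Q.map (RHomCx.homCxPre e.hom I))).symm ≪≫ RHomCx.computeInj H I ≪≫
    (DRing.RHomCx H).mapIso eK⟩

/-- tensor of two one-term complexes -/
noncomputable def singleSingle (M N : ModuleCat.{u} A) :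
    (HomologicalComplex.single (ModuleCat.{u} A) (ComplexShape.up ℤ) 0).obj M ⊗
      (HomologicalComplex.single (ModuleCat.{u} A) (ComplexShape.up ℤ) 0).obj N ≅
    (HomologicalComplex.single (ModuleCat.{u} A) (ComplexShape.up ℤ) 0).obj (N ⊗ M) :=
  (KFlatLBC.singleTensorIso _ M).symm ≪≫
    (HomologicalComplex.singleMapHomologicalComplex (tensorRight M) (ComplexShape.up ℤ) 0).app N

/-- `A_g ⊗ A_f ≅ A_{fg}` -/
theorem nonempty_away (f g : A) : Nonempty
    (TensorProduct A (Localization.Away f) (Localization.Away g) ≃ₗ[A] Localization.Away (f * g)) := by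
  let T := Localization.Away (algebraMap A (Localization.Away g) f)
  haveI : IsLocalization (Algebra.algebraMapSubmonoid (Localization.Away g) (Submonoid.powers f)) T := by
    rw [Algebra.algebraMapSubmonoid, Submonoid.map_powers]
    infer_instance
  haveI : IsLocalizedModule (Submonoid.powers f) (IsScalarTower.toAlgHom A (Localization.Away g) T).toLinearMap :=
    isLocalizedModule_iff_isLocalization.2 inferInstance
  haveI : IsLocalization.Away (f * g) T := inferInstance
  exact ⟨(IsLocalizedModule.linearEquiv (Submonoid.powers f)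
    (TensorProduct.mk A (Localization.Away f) (Localization.Away g) 1)
    (IsScalarTower.toAlgHom A (Localization.Away g) T).toLinearMap).trans
    (IsLocalization.algEquiv (Submonoid.powers (f * g)) T (Localization.Away (f * g))).toLinearEquiv⟩

end Groth.L10.RHomComp
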