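import Groth.Agent.L10.DRing.AdicFlatTensor
import Mathlib.Algebra.Category.ModuleCat.Monoidal.Basic
import Mathlib.Algebra.Category.ModuleCat.Limits
import Mathlib.Algebra.Category.ModuleCat.Products
import Mathlib.CategoryTheory.Monoidal.Preadditive

/-! The tower `X ⊗ M/I^n M` as functors of `X`. -/

universe u

open CategoryTheory MonoidalCategory
open scoped TensorProduct

namespace Groth.L10.AdicTower

variable {A : Type u} [CommRing A] (I : Ideal A) (M : Type u) [AddCommGroup M] [Module A M]

/-- `M / I^n M` -/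
abbrev lvl (n : ℕ) : ModuleCat.{u} A := ModuleCat.of A (M ⧸ (I ^ n • ⊤ : Submodule A M))

/-- the transition map -/
abbrev tr (n : ℕ) : lvl I M (n + 1) ⟶ lvl I M n :=
  ModuleCat.ofHom (Submodule.mapQ (I ^ (n + 1) • ⊤ : Submodule A M) (I ^ n • ⊤ : Submodule A M) LinearMap.id
    (Submodule.smul_mono (Ideal.pow_le_pow_right (Nat.le_succ n)) le_rfl))

/-- the projection -/
abbrev pr (n : ℕ) : ModuleCat.of A M ⟶ lvl I M n := ModuleCat.ofHom (Submodule.mkQ _)

/-- `X ↦ ∏ X ⊗ M/I^n M` -/
noncomputable def prodF : ModuleCat.{u} A ⥤ ModuleCat.{u} A where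
  obj X := ModuleCat.of A (∀ n, X ⊗[A] lvl I M n)
  map {X Y} f := ModuleCat.ofHom (LinearMap.pi fun n => f.hom.rTensor (lvl I M n) ∘ₗ LinearMap.proj n)
  map_id X := by
    refine ModuleCat.hom_ext (LinearMap.ext fun x => funext fun n => ?_)
    exact LinearMap.congr_fun (LinearMap.rTensor_id _ _) (x n)
  map_comp {X Y Z} f g := by
    refine ModuleCat.hom_ext (LinearMap.ext fun x => funext fun n => ?_)
    exact LinearMap.congr_fun (LinearMap.rTensor_comp _ _ _) (x n)

instance : (prodF I M).Additive where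
  map_add {X Y f g} := by
    refine ModuleCat.hom_ext (LinearMap.ext fun x => funext fun n => ?_)
    exact LinearMap.congr_fun (LinearMap.rTensor_add _ f.hom g.hom) (x n)

/-- projection to a level -/
noncomputable def proj (n : ℕ) : prodF I M ⟶ tensorRight (lvl I M n) where
  app X := ModuleCat.ofHom (LinearMap.proj n)
  naturality X Y f := rfl

/-- identity minus transition, one component -/
noncomputable def deltaMap (X : ModuleCat.{u} A) :
    (∀ n, X ⊗[A] lvl I M n) →ₗ[A] ∀ n, X ⊗[A] lvl I M n :=
  LinearMap.pi fun n => (LinearMap.proj n : (∀ n, X ⊗[A] lvl I M n) →ₗ[A] X ⊗[A] lvl I M n) -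
    (tr I M n).hom.lTensor X ∘ₗ (LinearMap.proj (n + 1) : (∀ n, X ⊗[A] lvl I M n) →ₗ[A] X ⊗[A] lvl I M (n + 1))

theorem deltaMap_apply (X : ModuleCat.{u} A) (x : ∀ n, X ⊗[A] lvl I M n) (n : ℕ) :
    deltaMap I M X x n = x n - (tr I M n).hom.lTensor X (x (n + 1)) := rfl

/-- identity minus transition -/
noncomputable def delta : prodF I M ⟶ prodF I M where
  app X := ModuleCat.ofHom (deltaMap I M X)
  naturality X Y f := by
    refine ModuleCat.hom_ext (LinearMap.ext fun x => funext fun n => ?_)
    change f.hom.rTensor _ (x n) - (tr I M n).hom.lTensor Y (f.hom.rTensor _ (x (n + 1))) =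
      f.hom.rTensor _ (x n - (tr I M n).hom.lTensor X (x (n + 1)))
    rw [map_sub]
    congr 1
    exact (LinearMap.congr_fun (LinearMap.lTensor_comp_rTensor (M := X) (N := lvl I M (n + 1)) f.hom (tr I M n).hom) _).trans
      (LinearMap.congr_fun (LinearMap.rTensor_comp_lTensor (M := X) (N := lvl I M (n + 1)) f.hom (tr I M n).hom) _).symm

/-- the limit of the tower -/
noncomputable def limF : ModuleCat.{u} A ⥤ ModuleCat.{u} A where
  obj X := ModuleCat.of A (LinearMap.ker (deltaMap I M X))
  map {X Y} f := ModuleCat.ofHom (LinearMap.codRestrict _ ((LinearMap.pi fun n => f.hom.rTensor (lvl I M n) ∘ₗ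
      (LinearMap.proj n : (∀ n, X ⊗[A] lvl I M n) →ₗ[A] X ⊗[A] lvl I M n)) ∘ₗ Submodule.subtype _) fun x => by
    rw [LinearMap.mem_ker]
    have h := LinearMap.congr_fun (congrArg ModuleCat.Hom.hom ((delta I M).naturality f)) x.1
    funext n
    refine (congrFun h n).trans ?_
    exact (congrArg (f.hom.rTensor (lvl I M n)) (congrFun (LinearMap.mem_ker.1 x.2) n)).trans (map_zero _))
  map_id X := by
    refine ModuleCat.hom_ext (LinearMap.ext fun x => Subtype.ext ?_)
    exact LinearMap.congr_fun (congrArg ModuleCat.Hom.hom ((prodF I M).map_id X)) x.1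
  map_comp {X Y Z} f g := by
    refine ModuleCat.hom_ext (LinearMap.ext fun x => Subtype.ext ?_)
    exact LinearMap.congr_fun (congrArg ModuleCat.Hom.hom ((prodF I M).map_comp f g)) x.1

/-- the inclusion -/
noncomputable def incl : limF I M ⟶ prodF I M where
  app X := ModuleCat.ofHom (Submodule.subtype _)
  naturality X Y f := rfl

instance : (limF I M).Additive where
  map_add {X Y f g} := by
    refine ModuleCat.hom_ext (LinearMap.ext fun x => Subtype.ext ?_)
    exact LinearMap.congr_fun (congrArg ModuleCat.Hom.hom ((prodF I M).map_add (f := f) (g := g))) x.1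

/-- `X ⊗ M ⟶ lim` -/
noncomputable def kappa : tensorRight (ModuleCat.of A M) ⟶ limF I M where
  app X := ModuleCat.ofHom (X := X ⊗[A] M)
    (LinearMap.codRestrict (LinearMap.ker (deltaMap I M X)) (LinearMap.pi fun n => (pr I M n).hom.lTensor X)
      fun x => by
        rw [LinearMap.mem_ker]
        funext n
        rw [deltaMap_apply]
        exact sub_eq_zero.2 (LinearMap.congr_fun (LinearMap.lTensor_comp X (tr I M n).hom (pr I M (n + 1)).hom) x))
  naturality X Y f := by
    refine ModuleCat.hom_ext (LinearMap.ext fun (x : X ⊗[A] M) => Subtype.ext (funext fun n => ?_))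
    change (pr I M n).hom.lTensor Y (f.hom.rTensor M x) = f.hom.rTensor _ ((pr I M n).hom.lTensor X x)
    exact (LinearMap.congr_fun (LinearMap.lTensor_comp_rTensor (M := X) (N := M) f.hom (pr I M n).hom) _).trans
      (LinearMap.congr_fun (LinearMap.rTensor_comp_lTensor (M := X) (N := M) f.hom (pr I M n).hom) _).symm

theorem kappa_incl_proj (n : ℕ) :
    kappa I M ≫ incl I M ≫ proj I M n = (tensoringRight (ModuleCat.{u} A)).map (pr I M n) := by
  ext X : 2
  rfl

theorem surjective_delta (X : ModuleCat.{u} A) : Function.Surjective (deltaMap I M X) := by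
  intro y
  have hs : ∀ n, Function.Surjective ((tr I M n).hom.lTensor X) := fun n =>
    LinearMap.lTensor_surjective X fun z => by
      obtain ⟨m, rfl⟩ := Submodule.Quotient.mk_surjective _ z
      exact ⟨Submodule.Quotient.mk m, rfl⟩
  choose l hl using hs
  let x : ∀ n, X ⊗[A] lvl I M n := fun n => n.rec 0 fun m xm => l m (xm - y m)
  refine ⟨x, funext fun n => ?_⟩
  rw [deltaMap_apply, show x (n + 1) = l n (x n - y n) from rfl, hl, sub_sub_cancel]

theorem mono_incl (X : ModuleCat.{u} A) : Mono ((incl I M).app X) :=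
  (ModuleCat.mono_iff_injective _).2 Subtype.val_injective

theorem epi_delta (X : ModuleCat.{u} A) : Epi ((delta I M).app X) :=
  (ModuleCat.epi_iff_surjective _).2 (surjective_delta I M X)

theorem incl_delta : incl I M ≫ delta I M = 0 := by
  ext X : 2
  exact ModuleCat.hom_ext (LinearMap.ext fun x => x.2)

theorem delta_proj (n : ℕ) : delta I M ≫ proj I M n =
    proj I M n - proj I M (n + 1) ≫ (tensoringRight (ModuleCat.{u} A)).map (tr I M n) := by
  ext X : 2
  rfl

variable (X : Type u) [AddCommGroup X] [Module A X]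

/-- mod `I^n` -/
noncomputable def modHom (n : ℕ) : M ⊗[A] X →ₗ[A] X ⊗[A] lvl I M n :=
  (pr I M n).hom.lTensor X ∘ₗ (TensorProduct.comm A M X).toLinearMap

theorem ker_modHom (n : ℕ) : LinearMap.ker (modHom I M X n) = (I ^ n • ⊤ : Submodule A (M ⊗[A] X)) := by
  refine le_antisymm (fun z hz => ?_) (Submodule.smul_le.2 fun a ha z hz => ?_)
  · obtain ⟨w, hw⟩ := (lTensor_exact X (LinearMap.exact_subtype_mkQ _) (Submodule.mkQ_surjective _)
      (TensorProduct.comm A M X z)).1 hz
    rw [← (TensorProduct.comm A M X).symm_apply_apply z, ← hw]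
    clear hw hz
    induction w using TensorProduct.induction_on with
    | zero => simp
    | add p q hp hq => rw [map_add, map_add]; exact add_mem hp hq
    | tmul x s =>
      rw [LinearMap.lTensor_tmul, TensorProduct.comm_symm_tmul]
      have h1 : (s : M) ⊗ₜ[A] x ∈ Submodule.map ((TensorProduct.mk A M X).flip x) (I ^ n • ⊤ : Submodule A M) :=
        ⟨s, s.2, rfl⟩
      rw [Submodule.map_smul''] at h1
      exact Submodule.smul_mono le_rfl le_top h1
  · clear hz
    rw [LinearMap.mem_ker]
    induction z using TensorProduct.induction_on with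
    | zero => simp
    | add p q hp hq => rw [smul_add, map_add, hp, hq, add_zero]
    | tmul m x =>
      rw [TensorProduct.smul_tmul', modHom, LinearMap.comp_apply, LinearEquiv.coe_coe, TensorProduct.comm_tmul,
        LinearMap.lTensor_tmul]
      change x ⊗ₜ[A] Submodule.Quotient.mk (a • m) = 0
      rw [(Submodule.Quotient.mk_eq_zero _).2 (Submodule.smul_mem_smul ha Submodule.mem_top), TensorProduct.tmul_zero]

/-- the completion is the limit of the tower -/
theorem exists_completion_equiv :
    ∃ e : AdicCompletion I (M ⊗[A] X) ≃ₗ[A] LinearMap.ker (deltaMap I M (ModuleCat.of A X)),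
      ∀ z : M ⊗[A] X, e (AdicCompletion.of I (M ⊗[A] X) z) =
        ((kappa I M).app (ModuleCat.of A X)).hom (TensorProduct.comm A M X z) := by
  let th : ∀ n, (M ⊗[A] X ⧸ (I ^ n • ⊤ : Submodule A (M ⊗[A] X))) →ₗ[A] X ⊗[A] lvl I M n := fun n =>
    Submodule.liftQ _ (modHom I M X n) (ker_modHom I M X n).ge
  have hthi : ∀ n, Function.Injective (th n) := fun n => by
    rw [← LinearMap.ker_eq_bot]
    exact Submodule.ker_liftQ_eq_bot _ _ _ (ker_modHom I M X n).le
  have hths : ∀ n, Function.Surjective (th n) := fun n z => by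
    obtain ⟨w, rfl⟩ := LinearMap.lTensor_surjective X (Submodule.mkQ_surjective _) z
    exact ⟨Submodule.Quotient.mk ((TensorProduct.comm A M X).symm w), congrArg _ ((TensorProduct.comm A M X).apply_symm_apply w)⟩
  have hcompat : ∀ n (z : M ⊗[A] X ⧸ (I ^ (n + 1) • ⊤ : Submodule A (M ⊗[A] X))),
      (tr I M n).hom.lTensor X (th (n + 1) z) = th n (AdicCompletion.transitionMap I _ (Nat.le_succ n) z) := fun n z => by
    obtain ⟨w, rfl⟩ := Submodule.Quotient.mk_surjective _ z
    exact (LinearMap.congr_fun (LinearMap.lTensor_comp X (tr I M n).hom (pr I M (n + 1)).hom) _).symm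
  let Θ : AdicCompletion I (M ⊗[A] X) →ₗ[A] LinearMap.ker (deltaMap I M (ModuleCat.of A X)) :=
    LinearMap.codRestrict _ (LinearMap.pi fun n => th n ∘ₗ AdicCompletion.eval I (M ⊗[A] X) n) fun a => by
      rw [LinearMap.mem_ker]
      funext n
      rw [deltaMap_apply]
      exact sub_eq_zero.2 ((congrArg (th n) (a.2 (Nat.le_succ n)).symm).trans (hcompat n _).symm)
  refine ⟨LinearEquiv.ofBijective Θ ⟨fun a b hab => AdicCompletion.ext fun n => hthi n
    (congrFun (congrArg Subtype.val hab) n), fun x => ?_⟩, fun z => Subtype.ext (funext fun n => rfl)⟩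
  choose v hv using fun n => hths n (x.1 n)
  have h1 : ∀ n, AdicCompletion.transitionMap I _ (Nat.le_succ n) (v (n + 1)) = v n := fun n => hthi n (by
    rw [← hcompat, hv, hv]
    exact (sub_eq_zero.1 (congrFun (LinearMap.mem_ker.1 x.2) n)).symm)
  refine ⟨⟨v, fun {m n} hmn => ?_⟩, Subtype.ext (funext fun n => hv n)⟩
  induction hmn with
  | refl =>
    obtain ⟨w, hw⟩ := Submodule.Quotient.mk_surjective _ (v m)
    rw [← hw]; rfl
  | @step n hmn ih =>
    rw [← ih, ← h1 n]
    obtain ⟨w, hw⟩ := Submodule.Quotient.mk_surjective _ (v (n + 1))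
    rw [← hw]; rfl

end Groth.L10.AdicTower
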