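import Groth.Agent.L10.DRing.TorTest
import Groth.Agent.L29.K.Perfect
import Mathlib.RingTheory.Flat.EquationalCriterion

/-!
Tor amplitude: shifts, triangles, retracts.
-/

set_option autoImplicit false
set_option backward.isDefEq.respectTransparency false
set_option backward.isDefEq.respectTransparency.types false

universe u

open CategoryTheory CategoryTheory.Limits CategoryTheory.Pretriangulated MonoidalCategory CochainComplex

attribute [local instance] HasDerivedCategory.standard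

namespace Groth.L10.DR

variable {A : Type u} [CommRing A]

local notation "Amp" => DRing.HasTorAmplitudeIn A

theorem amp_of_iso {a b : ℤ} {K L : Dual.D A} (e : K ≅ L) (h : Amp a b K) : Amp a b L := by
  obtain ⟨E, h1, h2, ⟨e'⟩⟩ := h
  exact ⟨E, h1, h2, ⟨e' ≪≫ e⟩⟩

theorem amp_shift {a b : ℤ} {K : Dual.D A} (h : Amp a b K) (n : ℤ) : Amp (a - n) (b - n) (K⟦n⟧) := by
  obtain ⟨E, h1, h2, ⟨e⟩⟩ := h
  exact ⟨E⟦n⟧, fun i hi => h1 (i + n) (by omega), fun i => h2 (i + n),
    ⟨(DerivedCategory.Q.commShiftIso n).app E ≪≫ (CategoryTheory.shiftFunctor (Dual.D A) n).mapIso e⟩⟩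

theorem amp_LEH {a b : ℤ} {K : Dual.D A} (h : Amp a b K) : Groth.L02.PC.LEH K b := by
  obtain ⟨E, h1, -, ⟨e⟩⟩ := h
  exact fun i hi => (HH_iso_zero e i).2
    ((E.exactAt_iff_isZero_homology i).1 (HomologicalComplex.ExactAt.of_isZero (h1 i (Or.inr hi))))

theorem amp_mono {a b a' b' : ℤ} {K : Dual.D A} (h : Amp a b K) (ha : a' ≤ a) (hb : b ≤ b') : Amp a' b' K := by
  obtain ⟨E, h1, h2, e⟩ := h
  exact ⟨E, fun i hi => h1 i (by omega), h2, e⟩

theorem amp_of_isZero {K : Dual.D A} (hK : IsZero K) (a b : ℤ) : Amp a b K := by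
  refine ⟨{ X := fun _ => ModuleCat.of A PUnit, d := fun _ _ => 0 }, fun i _ => ModuleCat.isZero_of_subsingleton _,
    fun i => (inferInstance : Module.Flat A PUnit.{u + 1}), ⟨IsZero.iso (Functor.map_isZero DerivedCategory.Q ?_) hK⟩⟩
  rw [IsZero.iff_id_eq_zero]
  ext i : 1
  exact (ModuleCat.isZero_of_subsingleton _).eq_of_src _ _

/-- a free test representative -/
theorem exists_test {a b : ℤ} {K : Dual.D A} (h : Amp a b K) :
    ∃ Q : DRing.Cx A, DRing.VanishesAbove Q b ∧ (∀ i, Module.Free A (Q.X i)) ∧ Q.IsKProjective ∧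
      Nonempty (DRing.toD Q ≅ K) ∧ ∀ i, i < a → TZ Q i := by
  obtain ⟨Q, hQb, hQf, hQk, ⟨eQ⟩⟩ := Groth.L02.PC.exists_free_rep (amp_LEH h)
  exact ⟨Q, hQb, hQf, hQk, ⟨eQ⟩, ((amp_iff eQ hQb (flat_of_free hQf) a b).1 h).1⟩

theorem amp_third {a b : ℤ} (T : Triangle (Dual.D A)) (hT : T ∈ distinguishedTriangles)
    (h₁ : Amp (a + 1) (b + 1) T.obj₁) (h₂ : Amp a b T.obj₂) : Amp a b T.obj₃ := by
  obtain ⟨P, hPb, hPf, hPk, ⟨eP⟩, hPt⟩ := exists_test h₁
  obtain ⟨Q, hQb, hQf, -, ⟨eQ⟩, hQt⟩ := exists_test h₂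
  haveI := hPk
  obtain ⟨f, hf⟩ := Groth.L02.PC.exists_chainMap (eP.hom ≫ T.mor₁ ≫ eQ.inv)
  let φ := isoTriangleOfIso₁₂ _ T (Groth.L02.PC.mappingCone_distinguished f) hT eP eQ (by
    change DerivedCategory.Q.map f ≫ eQ.hom = eP.hom ≫ T.mor₁
    rw [hf, Category.assoc, Category.assoc, Iso.inv_hom_id, Category.comp_id])
  have hCb : DRing.VanishesAbove (mappingCone f) b := fun i hi =>
    vanishesAbove_cone f hPb hQb i (by omega)
  refine (amp_iff (P := mappingCone f) (Triangle.π₃.mapIso φ) hCb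
    (flat_coneX f (flat_of_free hPf) (flat_of_free hQf)) a b).2 ⟨fun i hi N => ?_, fun i hi => ?_⟩
  · refine IsZero.of_iso ?_
      (asIso (HomologicalComplex.homologyMap (mappingCone.mapHomologicalComplexIso f (tensorRight N)).hom i))
    have hd := Groth.L02.PC.mappingCone_distinguished ((tF N).map f)
    refine (Groth.L02.PC.isZero_HH_Q_iff _ i).1 (Groth.L02.PC.isZero_of_exact_zero
      (DerivedCategory.HomologySequence.exact₃ _ hd i (i + 1) rfl)
      ((Groth.L02.PC.isZero_HH_Q_iff _ i).2 (hQt i hi N))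
      ((Groth.L02.PC.isZero_HH_Q_iff _ (i + 1)).2 (hPt (i + 1) (by omega) N)))
  · exact (HH_iso_zero (Triangle.π₃.mapIso φ) i).2
      (((mappingCone f).exactAt_iff_isZero_homology i).1 (HomologicalComplex.ExactAt.of_isZero (hCb i hi)))

theorem amp_second {a b : ℤ} (T : Triangle (Dual.D A)) (hT : T ∈ distinguishedTriangles)
    (h₁ : Amp a b T.obj₁) (h₃ : Amp a b T.obj₃) : Amp a b T.obj₂ :=
  amp_third T.invRotate (inv_rot_of_distTriang _ hT)
    (by simpa using amp_shift h₃ (-1)) h₁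

theorem amp_first {a b : ℤ} (T : Triangle (Dual.D A)) (hT : T ∈ distinguishedTriangles)
    (h₂ : Amp (a + 1) (b + 1) T.obj₂) (h₃ : Amp a b T.obj₃) : Amp (a + 1) (b + 1) T.obj₁ :=
  amp_second T.invRotate (inv_rot_of_distTriang _ hT) (by simpa using amp_shift h₃ (-1)) h₂

theorem amp_retract {a b : ℤ} {K M : Dual.D A} (r : Retract K M) (h : Amp a b M) : Amp a b K := by
  have hK : Groth.L02.PC.LEH K b := fun i hi => by
    rw [IsZero.iff_id_eq_zero]
    have := ((Groth.L02.PC.HH i).map r.i) ≫= (amp_LEH h i hi).eq_of_src ((Groth.L02.PC.HH i).map r.r) 0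
    rw [comp_zero, ← Functor.map_comp, r.retract, CategoryTheory.Functor.map_id] at this
    exact this
  obtain ⟨Q, hQb, hQf, hQk, ⟨eQ⟩, hQt⟩ := exists_test h
  obtain ⟨P, hPb, hPf, hPk, ⟨eP⟩⟩ := Groth.L02.PC.exists_free_rep hK
  haveI := hPk; haveI := hQk
  obtain ⟨s, hs⟩ := Groth.L02.PC.exists_chainMap (eP.hom ≫ r.i ≫ eQ.inv)
  obtain ⟨t, ht⟩ := Groth.L02.PC.exists_chainMap (eQ.hom ≫ r.r ≫ eP.inv)
  have hid : DerivedCategory.Q.map (s ≫ t) = DerivedCategory.Q.map (𝟙 P) := by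
    rw [Functor.map_comp, hs, ht, CategoryTheory.Functor.map_id]
    simp
  have hh : (HomotopyCategory.quotient _ _).map (s ≫ t) = (HomotopyCategory.quotient _ _).map (𝟙 P) := by
    refine (CochainComplex.IsKProjective.Qh_map_bijective P
      ((HomotopyCategory.quotient _ _).obj P)).injective ?_
    have n1 := (DerivedCategory.quotientCompQhIso (ModuleCat.{u} A)).hom.naturality (s ≫ t)
    have n2 := (DerivedCategory.quotientCompQhIso (ModuleCat.{u} A)).hom.naturality (𝟙 P)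
    refine (cancel_mono ((DerivedCategory.quotientCompQhIso (ModuleCat.{u} A)).hom.app P)).1 ?_
    exact n1.trans ((congrArg (_ ≫ ·) hid).trans n2.symm)
  refine (amp_iff eP hPb (flat_of_free hPf) a b).2 ⟨fun i hi N => ?_, hK⟩
  have hom : Homotopy ((tF N).map (s ≫ t)) ((tF N).map (𝟙 P)) :=
    (tensorRight N).mapHomotopy (HomotopyCategory.homotopyOfEq _ _ hh)
  have h2 := hom.homologyMap_eq i
  rw [Functor.map_comp, HomologicalComplex.homologyMap_comp, CategoryTheory.Functor.map_id,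
    HomologicalComplex.homologyMap_id] at h2
  rw [IsZero.iff_id_eq_zero]
  exact h2.symm.trans (by rw [(hQt i hi N).eq_of_tgt (HomologicalComplex.homologyMap ((tF N).map s) i) 0, zero_comp])

end Groth.L10.DR
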