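import Groth.Agent.L10.DRing.Nilpotent
import Mathlib.Algebra.Module.LocalizedModule.Basic
import Mathlib.RingTheory.Localization.Away.Basic
import Mathlib.Algebra.Module.Torsion.Basic

/-! Tor amplitude checked on `R_f` and `R ⧸ f`. -/

set_option autoImplicit false

universe u

open CategoryTheory CategoryTheory.Limits CategoryTheory.Pretriangulated TensorProduct

attribute [local instance] HasDerivedCategory.standard

set_option backward.defeqAttrib.useBackward true
set_option backward.isDefEq.respectTransparency false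
namespace Groth.L10.AwayQuot

open Groth.L02.PC Groth.L10.DR Groth.L10.KFlatLBC Groth.L10.NilpotentThick

variable {R : Type u} [CommRing R] {Q : DRing.Cx R} (hQ : DRing.TermwiseFlat Q)

section SES

variable {S : ShortComplex (ModuleCat.{u} R)} (hS : S.ShortExact)
include hQ hS

theorem middle (j : ℤ) (h1 : IsZero ((DRing.tensorCx Q S.X₁).homology j))
    (h3 : IsZero ((DRing.tensorCx Q S.X₃).homology j)) : IsZero ((DRing.tensorCx Q S.X₂).homology j) := by
  obtain ⟨T', hT', e1, e2, e3⟩ := tensor_shortExact hQ hS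
  have := (DerivedCategory.HomologySequence.exact₂ T' hT' j).isZero_X₂
    ((show IsZero ((HH j).obj T'.obj₁) from e1 ▸ (isZero_HH_Q_iff _ j).2 h1).eq_of_src _ _)
    ((show IsZero ((HH j).obj T'.obj₃) from e3 ▸ (isZero_HH_Q_iff _ j).2 h3).eq_of_tgt _ _)
  exact (isZero_HH_Q_iff _ j).1 (e2 ▸ (show IsZero ((HH j).obj T'.obj₂) from this))

theorem left (i j : ℤ) (hij : i + 1 = j) (h3 : IsZero ((DRing.tensorCx Q S.X₃).homology i))
    (h2 : IsZero ((DRing.tensorCx Q S.X₂).homology j)) : IsZero ((DRing.tensorCx Q S.X₁).homology j) := by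
  obtain ⟨T', hT', e1, e2, e3⟩ := tensor_shortExact hQ hS
  have := (DerivedCategory.HomologySequence.exact₁ T' hT' i j hij).isZero_X₂
    ((show IsZero ((HH i).obj T'.obj₃) from e3 ▸ (isZero_HH_Q_iff _ i).2 h3).eq_of_src _ _)
    ((show IsZero ((HH j).obj T'.obj₂) from e2 ▸ (isZero_HH_Q_iff _ j).2 h2).eq_of_tgt _ _)
  exact (isZero_HH_Q_iff _ j).1 (e1 ▸ (show IsZero ((HH j).obj T'.obj₁) from this))

end SES

/-- the short exact sequence of a submodule -/
theorem ses_of_submodule (M : ModuleCat.{u} R) (N : Submodule R M) :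
    ∃ S : ShortComplex (ModuleCat.{u} R), S.ShortExact ∧ S.X₁ = ModuleCat.of R N ∧ S.X₂ = M ∧
      S.X₃ = ModuleCat.of R (M ⧸ N) :=
  ⟨ShortComplex.mk (ModuleCat.ofHom N.subtype) (ModuleCat.ofHom N.mkQ)
      (ModuleCat.hom_ext (LinearMap.ext fun x => (Submodule.Quotient.mk_eq_zero _).2 x.2)),
    { exact := (ShortComplex.ShortExact.moduleCat_exact_iff_function_exact _).2 (LinearMap.exact_subtype_mkQ _)
      mono_f := ConcreteCategory.mono_of_injective _ Subtype.val_injective
      epi_g := ConcreteCategory.epi_of_surjective _ (Submodule.mkQ_surjective _) }, rfl, rfl, rfl⟩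

variable {f : R}

include hQ

theorem killed_pow (j : ℤ)
    (h : ∀ M : ModuleCat.{u} R, (∀ x : M, f • x = 0) → IsZero ((DRing.tensorCx Q M).homology j)) :
    ∀ (k : ℕ) (M : ModuleCat.{u} R), (∀ x : M, f ^ k • x = 0) → IsZero ((DRing.tensorCx Q M).homology j) := by
  intro k
  induction k with
  | zero => exact fun M hM => h M fun x => by rw [show x = 0 by simpa using hM x, smul_zero]
  | succ k ih =>
    intro M hM
    let N : Submodule R M := Submodule.torsionBy R M f
    obtain ⟨S, hS, e1, e2, e3⟩ := ses_of_submodule M N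
    rw [← e2]
    refine middle hQ hS j ?_ ?_
    · rw [e1]; exact h _ fun x => Subtype.ext ((Submodule.mem_torsionBy_iff _ _).1 x.2)
    · rw [e3]
      refine ih _ fun x => ?_
      obtain ⟨y, rfl⟩ := Submodule.Quotient.mk_surjective _ x
      refine (Submodule.Quotient.mk_eq_zero _).2 ((Submodule.mem_torsionBy_iff _ _).2 ?_)
      rw [← mul_smul, ← pow_succ']; exact hM y

theorem torsion (j : ℤ)
    (h : ∀ M : ModuleCat.{u} R, (∀ x : M, f • x = 0) → IsZero ((DRing.tensorCx Q M).homology j))
    (M : ModuleCat.{u} R) (hM : ∀ x : M, ∃ k : ℕ, f ^ k • x = 0) : IsZero ((DRing.tensorCx Q M).homology j) := by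
  let N : ℕ → Submodule R M := fun k => Submodule.torsionBy R M (f ^ k)
  have hmono : ∀ {k l : ℕ}, k ≤ l → N k ≤ N l := fun {k l} hkl x hx => by
    obtain ⟨m, rfl⟩ := Nat.exists_eq_add_of_le hkl
    refine (Submodule.mem_torsionBy_iff _ _).2 ?_
    rw [pow_add, mul_comm, mul_smul, (Submodule.mem_torsionBy_iff _ _).1 hx, smul_zero]
  have hrange : ∀ z : (Q.X j) ⊗[R] M, ∃ k, ∃ w, ((N k).subtype.lTensor (Q.X j)) w = z := fun z => by
    induction z using TensorProduct.induction_on with
    | zero => exact ⟨0, 0, map_zero _⟩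
    | tmul a x =>
      obtain ⟨k, hk⟩ := hM x
      exact ⟨k, a ⊗ₜ ⟨x, (Submodule.mem_torsionBy_iff _ _).2 hk⟩, rfl⟩
    | add x y hx hy =>
      obtain ⟨k, w, rfl⟩ := hx
      obtain ⟨l, v, rfl⟩ := hy
      refine ⟨max k l, (Submodule.inclusion (hmono (le_max_left k l))).lTensor _ w +
        (Submodule.inclusion (hmono (le_max_right k l))).lTensor _ v, ?_⟩
      rw [map_add, ← LinearMap.lTensor_comp_apply, ← LinearMap.lTensor_comp_apply]
      rfl
  rw [tensor_exact_iff Q M (j - 1) j (j + 1) (by omega) rfl]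
  have hcomp : ((Q.d j (j + 1)).hom.rTensor M).comp ((Q.d (j - 1) j).hom.rTensor M) = 0 := by
    rw [← LinearMap.rTensor_comp, ← ModuleCat.hom_comp, HomologicalComplex.d_comp_d]
    exact LinearMap.rTensor_zero _
  refine fun z => ⟨fun hz => ?_, fun ⟨y, hy⟩ => hy ▸ LinearMap.congr_fun hcomp y⟩
  obtain ⟨k, w, rfl⟩ := hrange z
  have hk := (tensor_exact_iff Q (ModuleCat.of R (N k)) (j - 1) j (j + 1) (by omega) rfl).1
    (killed_pow hQ j h k _ fun x => Subtype.ext ((Submodule.mem_torsionBy_iff _ _).1 x.2))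
  have hw : ((Q.d j (j + 1)).hom.rTensor (N k)) w = 0 := by
    haveI := hQ (j + 1)
    refine Module.Flat.lTensor_preserves_injective_linearMap (M := Q.X (j + 1)) (N k).subtype Subtype.val_injective ?_
    rw [map_zero, ← LinearMap.comp_apply, LinearMap.lTensor_comp_rTensor, ← LinearMap.rTensor_comp_lTensor]
    exact hz
  obtain ⟨v, hv⟩ := (hk w).1 hw
  exact ⟨(N k).subtype.lTensor _ v, by
    rw [← hv, ← LinearMap.comp_apply, LinearMap.rTensor_comp_lTensor, ← LinearMap.lTensor_comp_rTensor]
    rfl⟩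

/-- vanishing below from the fibres at `f` and away from `f` -/
theorem vanish (a : ℤ)
    (hk : ∀ i, i < a → ∀ M : ModuleCat.{u} R, (∀ x : M, f • x = 0) → IsZero ((DRing.tensorCx Q M).homology i))
    (ha : ∀ i, i < a → ∀ M : ModuleCat.{u} (Localization.Away f),
      IsZero ((DRing.tensorCx Q ((ModuleCat.restrictScalars.{u} (algebraMap R (Localization.Away f))).obj M)).homology i))
    (j : ℤ) (hj : j < a) (M : ModuleCat.{u} R) : IsZero ((DRing.tensorCx Q M).homology j) := by
  let L := LocalizedModule (Submonoid.powers f) M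
  let g : M →ₗ[R] L := LocalizedModule.mkLinearMap (Submonoid.powers f) M
  have hg : ∀ x : M, g x = 0 → ∃ k : ℕ, f ^ k • x = 0 := fun x hx => by
    obtain ⟨⟨_, k, rfl⟩, hs⟩ := (IsLocalizedModule.eq_zero_iff (Submonoid.powers f) g).1 hx
    exact ⟨k, hs⟩
  have hcok : ∀ y : L, ∃ k : ℕ, f ^ k • y ∈ LinearMap.range g := fun y => by
    obtain ⟨⟨m, ⟨_, k, rfl⟩⟩, hms⟩ := IsLocalizedModule.surj (Submonoid.powers f) g y
    exact ⟨k, m, hms.symm⟩
  have hL : IsZero ((DRing.tensorCx Q (ModuleCat.of R L)).homology j) :=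
    (ha j hj (ModuleCat.of (Localization (Submonoid.powers f)) L)).of_iso
      ((HomologicalComplex.homologyFunctor _ _ j).mapIso
        ((NatIso.mapHomologicalComplex ((MonoidalCategory.curriedTensor (ModuleCat.{u} R)).flip.mapIso
          (LinearEquiv.toModuleIso (X₁ := L)
            (X₂ := (ModuleCat.restrictScalars.{u} (algebraMap R (Localization.Away f))).obj
              (ModuleCat.of (Localization (Submonoid.powers f)) L))
            { AddEquiv.refl L with
              map_smul' := fun r y => (IsScalarTower.algebraMap_smul (Localization (Submonoid.powers f)) r y).symm }))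
          (ComplexShape.up ℤ)).app Q))
  obtain ⟨S, hS, e1, e2, e3⟩ := ses_of_submodule (ModuleCat.of R L) (LinearMap.range g)
  have hI : IsZero ((DRing.tensorCx Q S.X₁).homology j) := by
    refine left hQ hS (j - 1) j (by omega) ?_ (e2 ▸ hL)
    rw [e3]
    refine torsion hQ (j - 1) (hk _ (by omega)) _ fun y => ?_
    obtain ⟨z, rfl⟩ := Submodule.Quotient.mk_surjective _ y
    obtain ⟨k, hz⟩ := hcok z
    exact ⟨k, (Submodule.Quotient.mk_eq_zero _).2 hz⟩
  obtain ⟨S', hS', e1', e2', e3'⟩ := ses_of_submodule M (LinearMap.ker g)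
  rw [← e2']
  refine middle hQ hS' j ?_ ?_
  · rw [e1']
    exact torsion hQ j (hk j hj) _ fun x => (hg x.1 x.2).imp fun k hk => Subtype.ext hk
  · rw [e3']
    rw [e1] at hI
    exact hI.of_iso ((HomologicalComplex.homologyFunctor _ _ j).mapIso
      ((NatIso.mapHomologicalComplex ((MonoidalCategory.curriedTensor (ModuleCat.{u} R)).flip.mapIso
        (g.quotKerEquivRange.toModuleIso)) (ComplexShape.up ℤ)).app Q))

end Groth.L10.AwayQuot
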