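import Groth.Agent.L10.DRing.Modules
import Mathlib.Algebra.Category.ModuleCat.EnoughInjectives
import Mathlib.CategoryTheory.Preadditive.Injective.Basic

/-!
Projective amplitude of objects of the derived category of modules.
-/

set_option autoImplicit false
set_option backward.isDefEq.respectTransparency false
set_option backward.isDefEq.respectTransparency.types false

universe u

open CategoryTheory CategoryTheory.Limits CategoryTheory.Pretriangulated CochainComplex

attribute [local instance] HasDerivedCategory.standard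

namespace Groth.L10.DR

variable {A : Type u} [CommRing A]

theorem isKProjective_of_projAmp {P : DRing.Cx A} {a b : ℤ} (hv : DRing.VanishesOutside P a b)
    (hP : ∀ i, Module.Projective A (P.X i)) : P.IsKProjective :=
  Groth.L02.PC.isKProjective_of_vanishesAbove (fun i hi => hv i (Or.inr hi)) hP

theorem hom_eq_zero_of_projective {P : DRing.Cx A} {n : ℤ} [P.IsKProjective] (N : ModuleCat.{u} A)
    (hn : IsZero (P.X n)) (φ : DRing.toD P ⟶ single n N) : φ = 0 := by
  obtain ⟨f, hf⟩ := Groth.L02.PC.exists_chainMap (K := (CochainComplex.singleFunctor (ModuleCat.{u} A) n).obj N)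
    (φ ≫ ((DerivedCategory.singleFunctorIsoCompQ (ModuleCat.{u} A) n).app N).hom)
  have h0 : f = 0 := HomologicalComplex.to_single_hom_ext (hn.eq_of_src _ _)
  rw [h0, Functor.map_zero] at hf
  exact (cancel_mono ((DerivedCategory.singleFunctorIsoCompQ (ModuleCat.{u} A) n).app N).hom).1
    (by rw [← hf, zero_comp])

/-- `Hom(K, N[i])` in terms of `single` -/
theorem subsingleton_ext_iff (K : Dual.D A) (N : Type u) [AddCommGroup N] [Module A N] (i n : ℤ) (h : i = -n) :
    Subsingleton (DRing.ExtD A K (Dual.inD A N) i) ↔ Subsingleton (K ⟶ single n (ModuleCat.of A N)) := by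
  subst h
  exact (Iso.homCongr (Iso.refl K) (singleShift n (ModuleCat.of A N))).subsingleton_congr

theorem subsingleton_of_projAmp {K : Dual.D A} {P : DRing.Cx A} {a b : ℤ} (hv : DRing.VanishesOutside P a b)
    (hP : ∀ i, Module.Projective A (P.X i)) (e : DRing.toD P ≅ K)
    (N : Type u) [AddCommGroup N] [Module A N] (i : ℤ) (hi : i < -b ∨ -a < i) :
    Subsingleton (DRing.ExtD A K (Dual.inD A N) i) := by
  haveI := isKProjective_of_projAmp hv hP
  rw [subsingleton_ext_iff K N i (-i) (by omega)]
  refine subsingleton_of_forall_eq 0 fun φ => ?_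
  exact (cancel_epi e.hom).1 ((hom_eq_zero_of_projective (n := -i) _ (hv (-i) (by omega)) (e.hom ≫ φ)).trans comp_zero.symm)

/-- maps into modules detect cohomology -/
theorem isZero_HH_of_ext {K : Dual.D A} (n : ℤ)
    (h : ∀ (N : Type u) [AddCommGroup N] [Module A N], Subsingleton (DRing.ExtD A K (Dual.inD A N) (-n))) :
    IsZero ((Groth.L02.PC.HH n).obj K) := by
  obtain ⟨L, ⟨e⟩⟩ : ∃ L : DRing.Cx A, Nonempty (DRing.toD L ≅ K) := ⟨_, ⟨DerivedCategory.Q.objObjPreimageIso K⟩⟩
  refine (HH_iso_zero e n).2 ?_
  let E : ModuleCat.{u} A := Injective.under (L.homology n)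
  let ext : L.opcycles n ⟶ E := Injective.factorThru (Injective.ι _) (L.homologyι n)
  have hext : L.homologyι n ≫ ext = Injective.ι (L.homology n) := Injective.comp_factorThru _ _
  let S : DRing.Cx A := (CochainComplex.singleFunctor (ModuleCat.{u} A) n).obj E
  let g : L ⟶ S := HomologicalComplex.mkHomToSingle (L.pOpcycles n ≫ ext) fun i hi => by
    rw [← Category.assoc, HomologicalComplex.d_pOpcycles, zero_comp]
  haveI : Subsingleton (DRing.toD L ⟶ DRing.toD S) :=
    haveI := (subsingleton_ext_iff K E (-n) n rfl).1 (h E)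
    (Iso.homCongr e ((DerivedCategory.singleFunctorIsoCompQ (ModuleCat.{u} A) n).app E).symm).subsingleton
  have h0 : HomologicalComplex.homologyMap g n = 0 := by
    have hq : (Groth.L02.PC.HH n).map (DerivedCategory.Q.map g) = 0 := by
      rw [Subsingleton.elim (DerivedCategory.Q.map g) 0, Functor.map_zero]
    have := (DerivedCategory.homologyFunctorFactors (ModuleCat.{u} A) n).hom.naturality g
    dsimp at this
    rw [hq, zero_comp] at this
    exact (cancel_epi ((DerivedCategory.homologyFunctorFactors (ModuleCat.{u} A) n).hom.app L)).1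
      (this.symm.trans comp_zero.symm)
  have hS : S.d (n - 1) n = 0 :=
    (HomologicalComplex.isZero_single_obj_X (ComplexShape.up ℤ) n E (n - 1) (by omega)).eq_of_src _ _
  haveI := S.isIso_pOpcycles (n - 1) n (by simp) hS
  have hop : HomologicalComplex.opcyclesMap g n =
      ext ≫ (HomologicalComplex.singleObjXSelf (ComplexShape.up ℤ) n E).inv ≫ S.pOpcycles n := by
    rw [← cancel_epi (L.pOpcycles n), HomologicalComplex.p_opcyclesMap]
    simp [g, S, CochainComplex.singleFunctor, CochainComplex.singleFunctors]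
  have hn := HomologicalComplex.homologyι_naturality g n
  rw [h0, zero_comp, hop, ← Category.assoc, hext] at hn
  haveI : Mono (Injective.ι (L.homology n) ≫ (HomologicalComplex.singleObjXSelf (ComplexShape.up ℤ) n E).inv ≫
      S.pOpcycles n) := inferInstance
  exact IsZero.of_mono_eq_zero _ hn.symm

theorem exists_projective_rep {K : Dual.D A} {a b : ℤ}
    (h1 : ∀ n : ℤ, (n < a - 1 ∨ b < n) → Subsingleton (Dual.HD A K n))
    (h2 : ∀ (N : Type u) [AddCommGroup N] [Module A N], Subsingleton (DRing.ExtD A K (Dual.inD A N) (-a + 1))) :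
    ∃ P : DRing.Cx A, DRing.VanishesOutside P a b ∧ (∀ i : ℤ, Module.Projective A (P.X i)) ∧
      Nonempty (DRing.toD P ≅ K) := by
  obtain ⟨Q, hQb, hQf, hQk, ⟨e⟩⟩ := Groth.L02.PC.exists_free_rep (K := K) (n := b)
    fun i hi => haveI := h1 i (Or.inr hi); ModuleCat.isZero_of_subsingleton _
  haveI := hQk
  have hQp : ∀ i, Module.Projective A (Q.X i) := fun i => by haveI := hQf i; infer_instance
  obtain ⟨c, hc⟩ : ∃ c, c = a - 1 := ⟨_, rfl⟩
  let C : ModuleCat.{u} A := ModuleCat.of A (Q.X c ⧸ LinearMap.range (Q.d (c - 1) c).hom)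
  have hfac : ∃ t : Q.X a →ₗ[A] C, ∀ x, t ((Q.d c a).hom x) = Submodule.Quotient.mk x := by
    let f : Q.X c ⟶ C := ModuleCat.ofHom (Submodule.mkQ _)
    let g : Q ⟶ (CochainComplex.singleFunctor (ModuleCat.{u} A) c).obj C :=
      HomologicalComplex.mkHomToSingle f fun i hi => ModuleCat.hom_ext (LinearMap.ext fun x => by
        obtain rfl : i = c - 1 := by simp at hi; omega
        exact (Submodule.Quotient.mk_eq_zero _).2 ⟨x, rfl⟩)
    haveI : Subsingleton (DRing.toD Q ⟶ DRing.toD ((CochainComplex.singleFunctor (ModuleCat.{u} A) c).obj C)) :=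
      haveI := (subsingleton_ext_iff K C (-a + 1) c (by omega)).1 (h2 C)
      (Iso.homCongr e ((DerivedCategory.singleFunctorIsoCompQ (ModuleCat.{u} A) c).app C).symm).subsingleton
    have hq : DerivedCategory.Q.map g = DerivedCategory.Q.map 0 := Subsingleton.elim _ _
    have hh : (HomotopyCategory.quotient _ _).map g = (HomotopyCategory.quotient _ _).map 0 := by
      refine (CochainComplex.IsKProjective.Qh_map_bijective Q
        ((HomotopyCategory.quotient _ _).obj _)).injective ?_
      have n1 := (DerivedCategory.quotientCompQhIso (ModuleCat.{u} A)).hom.naturality g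
      have n2 := (DerivedCategory.quotientCompQhIso (ModuleCat.{u} A)).hom.naturality
        (0 : Q ⟶ (CochainComplex.singleFunctor (ModuleCat.{u} A) c).obj C)
      refine (cancel_mono ((DerivedCategory.quotientCompQhIso (ModuleCat.{u} A)).hom.app _)).1 ?_
      exact n1.trans ((congrArg (_ ≫ ·) hq).trans n2.symm)
    let H := HomotopyCategory.homotopyOfEq _ _ hh
    have hcomm := H.comm c
    rw [dNext_eq H.hom (i' := a) (by simp; omega), prevD_eq H.hom (j' := c - 1) (by simp)] at hcomm
    have hd : ((CochainComplex.singleFunctor (ModuleCat.{u} A) c).obj C).d (c - 1) c = 0 :=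
      (HomologicalComplex.isZero_single_obj_X (ComplexShape.up ℤ) c C (c - 1) (by omega)).eq_of_src _ _
    rw [hd, comp_zero, add_zero, HomologicalComplex.zero_f, add_zero] at hcomm
    refine ⟨(H.hom a c ≫ (HomologicalComplex.singleObjXSelf (ComplexShape.up ℤ) c C).hom).hom, fun x => ?_⟩
    have hgf : g.f c ≫ (HomologicalComplex.singleObjXSelf (ComplexShape.up ℤ) c C).hom = f := by simp [g, CochainComplex.singleFunctor, CochainComplex.singleFunctors]
    rw [hcomm, Category.assoc] at hgf
    exact LinearMap.congr_fun (congrArg ModuleCat.Hom.hom hgf) x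
  obtain ⟨t, ht⟩ := hfac
  have hexc : IsZero (Q.homology c) := by
    rw [isZero_homology_iff_exact Q (c - 1) c a (by omega) (by omega)]
    intro x
    refine ⟨fun hx => ?_, fun ⟨y, hy⟩ => ?_⟩
    · have := ht x
      rw [hx, map_zero] at this
      exact (Submodule.Quotient.mk_eq_zero _).1 this.symm
    · rw [← hy]
      exact LinearMap.congr_fun (congrArg ModuleCat.Hom.hom (Q.d_comp_d (c - 1) c a)) y
  have hH : ∀ i, i < a → IsZero (Q.homology i) := fun i hi => by
    by_cases hic : i = c
    · exact hic ▸ hexc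
    · haveI := h1 i (Or.inl (by omega))
      exact (HH_iso_zero e i).1 (ModuleCat.isZero_of_subsingleton _)
  obtain ⟨e'⟩ := toD_truncGE_iso a hH
  refine ⟨Q.truncGE a, vanishesOutside_truncGE a b hQb, fun i => ?_, ⟨e'.symm ≪≫ e⟩⟩
  rcases lt_trichotomy i a with hi | rfl | hi
  · haveI := ModuleCat.subsingleton_of_isZero (CochainComplex.isZero_of_isStrictlyGE (Q.truncGE a) a i hi)
    infer_instance
  · obtain ⟨eX⟩ := truncGE_X_iso Q i
    subst hc
    let dbar : (Q.X (i - 1) ⧸ LinearMap.range (Q.d (i - 1 - 1) (i - 1)).hom) →ₗ[A] Q.X i :=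
      (LinearMap.range (Q.d (i - 1 - 1) (i - 1)).hom).liftQ (Q.d (i - 1) i).hom (by
        rintro _ ⟨y, rfl⟩
        exact LinearMap.congr_fun (congrArg ModuleCat.Hom.hom (Q.d_comp_d (i - 1 - 1) (i - 1) i)) y)
    let s : (Q.X i ⧸ LinearMap.range (Q.d (i - 1) i).hom) →ₗ[A] Q.X i :=
      (LinearMap.range (Q.d (i - 1) i).hom).liftQ (LinearMap.id - dbar ∘ₗ t) (by
        rintro _ ⟨y, rfl⟩
        show (Q.d (i - 1) i).hom y - dbar (t ((Q.d (i - 1) i).hom y)) = 0
        rw [ht y]
        exact sub_self _)
    haveI := hQp i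
    have hs : (LinearMap.range (Q.d (i - 1) i).hom).mkQ ∘ₗ s = LinearMap.id := by
      refine LinearMap.ext fun z => ?_
      obtain ⟨x, rfl⟩ := Submodule.Quotient.mk_surjective _ z
      show Submodule.Quotient.mk (x - dbar (t x)) = Submodule.Quotient.mk x
      rw [Submodule.Quotient.eq]
      obtain ⟨w, hw⟩ := Submodule.Quotient.mk_surjective _ (t x)
      refine ⟨-w, ?_⟩
      rw [← hw, map_neg, sub_sub_cancel_left]
      rfl
    haveI := Module.Projective.of_split s _ hs
    exact Module.Projective.of_equiv eX.toLinearEquiv.symm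
  · haveI := hQp i
    exact Module.Projective.of_equiv (CochainComplex.truncGEXIso Q a i hi).toLinearEquiv.symm

end Groth.L10.DR
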