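import Groth.Agent.L10.DRing.TorDim
import Groth.Agent.L02.PC.BaseChange
import Groth.Agent.L10.DRing.ProjAmp
import Mathlib.LinearAlgebra.TensorProduct.Tower

/-!
Derived base change of perfect objects and of tor amplitude.
-/

set_option autoImplicit false
set_option linter.all false
set_option backward.isDefEq.respectTransparency false
set_option backward.isDefEq.respectTransparency.types false

universe u

open CategoryTheory CategoryTheory.Limits TensorProduct

attribute [local instance] HasDerivedCategory.standard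

namespace Groth.L10.DR

open Groth.L02.PC

variable {A B : Type u} [CommRing A] [CommRing B] (φ : A →+* B)

theorem flat_bcCx {P : DRing.Cx A} (hP : ∀ i, Module.Projective A (P.X i)) (i : ℤ) :
    Module.Projective B (((bcCx φ).obj P).X i) := by
  let := φ.toAlgebra
  haveI := hP i
  exact (inferInstanceAs (Module.Projective B (B ⊗[A] (P.X i))))

theorem tz_bcCx (P : DRing.Cx A) (i : ℤ) (h : TZ P i) : TZ ((bcCx φ).obj P) i := by
  intro N
  let := φ.toAlgebra
  letI : Module A N := Module.compHom N φ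
  haveI : IsScalarTower A B N := IsScalarTower.of_algebraMap_smul fun a x => rfl
  have h' := (tensor_exact_iff P (ModuleCat.of A N) (i - 1) i (i + 1) (by omega) rfl).1 (h _)
  rw [tensor_exact_iff ((bcCx φ).obj P) N (i - 1) i (i + 1) (by omega) rfl]
  let E : ∀ j, ((P.X j) ⊗[A] N) ≃+ ((B ⊗[A] (P.X j)) ⊗[B] N) := fun j =>
    (TensorProduct.comm A (P.X j) N).toAddEquiv.trans
      ((TensorProduct.AlgebraTensorModule.cancelBaseChange A B B N (P.X j)).symm.toAddEquiv.trans
        (TensorProduct.comm B N (B ⊗[A] (P.X j))).toAddEquiv)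
  have hsq : ∀ k l : ℤ, ∀ t, (((bcCx φ).obj P).d k l).hom.rTensor N (E k t) =
      E l ((P.d k l).hom.rTensor N t) := by
    intro k l t
    induction t using TensorProduct.induction_on with
    | zero => simp
    | tmul x y => simp [E]; rfl
    | add a b ha hb => simp only [map_add, ha, hb]
  exact (Function.Exact.iff_of_ladder_addEquiv (E (i - 1)) (E i) (E (i + 1))
    (f₁₂ := ((P.d (i - 1) i).hom.rTensor N).toAddMonoidHom)
    (f₂₃ := ((P.d i (i + 1)).hom.rTensor N).toAddMonoidHom)
    (g₁₂ := (((bcCx φ).obj P).d (i - 1) i).hom.rTensor N |>.toAddMonoidHom)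
    (g₂₃ := (((bcCx φ).obj P).d i (i + 1)).hom.rTensor N |>.toAddMonoidHom)
    (AddMonoidHom.ext (hsq (i - 1) i)) (AddMonoidHom.ext (hsq i (i + 1)))).2 h'

theorem amp_lBaseChange [DRing.HasLBaseChange φ] {K : Dual.D A} {a b : ℤ}
    (hK : DRing.HasTorAmplitudeIn A a b K) :
    DRing.HasTorAmplitudeIn B a b ((DRing.LBaseChange φ).obj K) := by
  obtain ⟨Q, hQb, hQf, hQk, ⟨e⟩, ht⟩ := exists_test hK
  haveI := hQk
  have hb : DRing.VanishesAbove ((bcCx φ).obj Q) b := fun i hi =>
    (ModuleCat.extendScalars.{u, u, u} φ).map_isZero (hQb i hi)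
  let e' := (lbcIso φ Q).symm ≪≫ (DRing.LBaseChange φ).mapIso e
  refine (amp_iff e' hb (fun i => ?_) a b).2 ⟨fun i hi => tz_bcCx φ Q i (ht i hi), fun i hi => ?_⟩
  · haveI := flat_bcCx φ (fun j => haveI := hQf j; inferInstance) (P := Q) i
    infer_instance
  · exact (HH_iso_zero e' i).2 (((bcCx φ).obj Q).exactAt_iff_isZero_homology i |>.1
      (HomologicalComplex.ExactAt.of_isZero (hb i hi)))

theorem perfect_lBaseChange [DRing.HasLBaseChange φ] {K : Dual.D A} (hK : DRing.IsPerfect A K) :
    DRing.IsPerfect B ((DRing.LBaseChange φ).obj K) := by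
  obtain ⟨E, a, b, h1, h2, ⟨e⟩⟩ := hK
  haveI := isKProjective_of_projAmp h1 fun i => (h2 i).2
  refine ⟨(bcCx φ).obj E, a, b, fun i hi => (ModuleCat.extendScalars.{u, u, u} φ).map_isZero (h1 i hi),
    fun i => ⟨?_, flat_bcCx φ (fun j => (h2 j).2) i⟩, ⟨(lbcIso φ E).symm ≪≫ (DRing.LBaseChange φ).mapIso e⟩⟩
  let := φ.toAlgebra
  haveI := (h2 i).1
  exact (inferInstanceAs (Module.Finite B (B ⊗[A] (E.X i))))

end Groth.L10.DR
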