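import Groth.Agent.L10.DRing.AmpTest
import Groth.Agent.L10.DRing.Amp
import Groth.Agent.L10.DerTrunc
import Groth.Agent.L20.TorAmpWeaklyEtale
import Mathlib.Algebra.Category.ModuleCat.ChangeOfRings
import Mathlib.RingTheory.Flat.CategoryTheory
import Mathlib.RingTheory.Flat.FaithfullyFlat.Basic
import Mathlib.RingTheory.Localization.Module
import Mathlib.RingTheory.LocalProperties.Basic
import Mathlib.RingTheory.IsTensorProduct
import Mathlib.RingTheory.Flat.Localization
import Mathlib.Algebra.Category.ModuleCat.Monoidal.Closed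
import Mathlib.CategoryTheory.Limits.Preserves.Finite

/-! Tor amplitude over a base and flat extensions upstairs. -/

universe u

open CategoryTheory CategoryTheory.Limits MonoidalCategory
open scoped TensorProduct

attribute [local instance] HasDerivedCategory.standard

set_option backward.defeqAttrib.useBackward true
set_option backward.isDefEq.respectTransparency false
set_option linter.style.haveILetI false

namespace Groth.L10.LocalAmp

open Groth.L10.KFlat Groth.L10.AmpTest

/-- restriction in two steps -/
noncomputable def resComp {A B C : Type u} [CommRing A] [CommRing B] [CommRing C] (f : A →+* B) (g : B →+* C)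
    (h : A →+* C) (e : h = g.comp f) (X : DRing.Cx C) :
    (_root_.DTen.resCx h).obj X ≅ (_root_.DTen.resCx f).obj ((_root_.DTen.resCx g).obj X) :=
  (NatIso.mapHomologicalComplex (ModuleCat.restrictScalarsComp'.{u} f g h e.symm.symm) (ComplexShape.up ℤ)).app X

variable {A B : Type u} [CommRing A] [CommRing B] (φ : A →+* B)

/-- `B` as a module over `A` -/
noncomputable abbrev resOne : ModuleCat.{u} A := (ModuleCat.restrictScalars φ).obj (𝟙_ (ModuleCat.{u} B))

/-- tensoring with the restricted unit -/
noncomputable def tensorResOne (Z : DRing.Cx A) :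
    Z ⊗ (_root_.DTen.resCx φ).obj (𝟙_ (DRing.Cx B)) ≅ DRing.tensorCx Z (resOne φ) :=
  _root_.DTen.braidCx Z _ ≪≫
    whiskerRightIso ((HomologicalComplex.singleMapHomologicalComplex (ModuleCat.restrictScalars φ)
      (ComplexShape.up ℤ) 0).app (𝟙_ (ModuleCat.{u} B))) Z ≪≫
    (KFlatLBC.singleTensorIso Z (resOne φ)).symm

/-- the key isomorphism: extending upstairs and restricting back -/
noncomputable def resExtIso (K : DRing.Cx A) :
    (_root_.DTen.resCx φ).obj ((_root_.DTen.extCx φ).obj K) ≅ K ⊗ (_root_.DTen.resCx φ).obj (𝟙_ (DRing.Cx B)) :=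
  (_root_.DTen.resCx φ).mapIso (ρ_ ((_root_.DTen.extCx φ).obj K)).symm ≪≫
    (Groth.L00.BaseChangeTensor.tensorIso φ K (𝟙_ (DRing.Cx B))).symm

/-- homology after tensoring with a flat module -/
theorem isZero_tensor_flat_iff (Z : DRing.Cx A) (M : ModuleCat.{u} A) [Module.Flat A M] (i : ℤ) :
    IsZero ((DRing.tensorCx Z M).homology i) ↔ Subsingleton ((Z.homology i : ModuleCat.{u} A) ⊗[A] M) := by
  haveI : PreservesFiniteColimits (tensorLeft M) := PreservesColimitsOfSize.preservesFiniteColimits.{u, u} _
  haveI : PreservesFiniteColimits (tensorRight M) :=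
    preservesFiniteColimits_of_natIso (BraidedCategory.tensorLeftIsoTensorRight M)
  haveI : (tensorRight M).PreservesHomology := Functor.preservesHomologyOfExact _
  have e : (DRing.tensorCx Z M).homology i ≅ (tensorRight M).obj (Z.homology i) :=
    (Z.sc i).mapHomologyIso (tensorRight M)
  refine e.isZero_iff.trans ⟨fun h => ModuleCat.subsingleton_of_isZero h, fun h => ?_⟩
  exact @ModuleCat.isZero_of_subsingleton A _ _ h

theorem isZero_tensor_flat (Z : DRing.Cx A) (M : ModuleCat.{u} A) [Module.Flat A M] (i : ℤ)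
    (h : IsZero (Z.homology i)) : IsZero ((DRing.tensorCx Z M).homology i) := by
  haveI := ModuleCat.subsingleton_of_isZero h
  exact (isZero_tensor_flat_iff Z M i).2 inferInstance

theorem isZero_tensor_ff_iff (Z : DRing.Cx A) (M : ModuleCat.{u} A) [Module.FaithfullyFlat A M] (i : ℤ) :
    IsZero ((DRing.tensorCx Z M).homology i) ↔ IsZero (Z.homology i) := by
  refine ⟨fun h => ?_, isZero_tensor_flat Z M i⟩
  have := (isZero_tensor_flat_iff Z M i).1 h
  have := Module.FaithfullyFlat.rTensor_reflects_triviality A M (Z.homology i)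
  exact ModuleCat.isZero_of_subsingleton _

/-- `B` is the restricted unit -/
noncomputable def resOneEquiv [Algebra A B] : B ≃ₗ[A] resOne (algebraMap A B) where
  toFun x := x
  invFun x := x
  map_add' _ _ := rfl
  map_smul' r x := Algebra.smul_def r x
  left_inv _ := rfl
  right_inv _ := rfl

theorem flat_resOne [Algebra A B] (h : algebraMap A B = φ) [Module.Flat A B] : Module.Flat A (resOne φ) := by
  subst h
  exact Module.Flat.of_linearEquiv resOneEquiv.symm

theorem ff_resOne [Algebra A B] (h : algebraMap A B = φ) [Module.FaithfullyFlat A B] :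
    Module.FaithfullyFlat A (resOne φ) := by
  subst h
  exact Module.FaithfullyFlat.of_linearEquiv _ _ resOneEquiv.symm

/-- homology vanishes once it does at every maximal ideal -/
theorem isZero_of_local (Z : DRing.Cx A) (i : ℤ)
    (h : ∀ (m : Ideal A) [m.IsMaximal],
      IsZero ((DRing.tensorCx Z (resOne (algebraMap A (Localization.AtPrime m)))).homology i)) :
    IsZero (Z.homology i) := by
  refine @ModuleCat.isZero_of_subsingleton A _ _ ⟨fun x y => sub_eq_zero.1 ?_⟩
  generalize x - y = z
  by_contra hz
  obtain ⟨m, hm, hle⟩ := Ideal.exists_le_maximal (LinearMap.ker (LinearMap.toSpanSingleton A _ z))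
    ((Ideal.ne_top_iff_one _).2 (by simpa [LinearMap.mem_ker] using hz))
  haveI := flat_resOne (algebraMap A (Localization.AtPrime m)) rfl
  have hs := (isZero_tensor_flat_iff Z _ i).1 (h m)
  let f := (TensorProduct.mk A (Localization.AtPrime m) (Z.homology i)) 1
  haveI : IsLocalizedModule m.primeCompl f :=
    (isLocalizedModule_iff_isBaseChange m.primeCompl (Localization.AtPrime m) f).2
      (TensorProduct.isBaseChange A (Z.homology i) (Localization.AtPrime m))
  have h0 : f z = 0 := by
    let e : Localization.AtPrime m ≃ₗ[A] resOne (algebraMap A (Localization.AtPrime m)) := resOneEquiv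
    exact ((TensorProduct.comm A _ _).trans (LinearEquiv.lTensor _ e)).injective (Subsingleton.elim _ _)
  obtain ⟨c, hc⟩ := (IsLocalizedModule.eq_zero_iff m.primeCompl f).1 h0
  exact c.2 (hle (LinearMap.mem_ker.2 hc))

/-- a complex with homology in degree zero only is a module -/
theorem exists_single (P : DRing.Cx A) (h : ∀ i, i ≠ 0 → IsZero (P.homology i)) :
    ∃ N : ModuleCat.{u} A, Nonempty
      (DRing.toD P ≅ DRing.toD ((HomologicalComplex.single (ModuleCat.{u} A) (ComplexShape.up ℤ) 0).obj N)) := by
  haveI : (DerivedCategory.Q.obj P).IsGE 0 := (DerivedCategory.isGE_iff _ 0).2 fun i hi =>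
    (Groth.L02.PC.isZero_HH_Q_iff P i).2 (h i (by omega))
  haveI : (DerivedCategory.Q.obj P).IsLE 0 := (DerivedCategory.isLE_iff _ 0).2 fun i hi =>
    (Groth.L02.PC.isZero_HH_Q_iff P i).2 (h i (by omega))
  obtain ⟨e⟩ := Groth.L10.exists_iso_single_H (DerivedCategory.Q.obj P) 0
  exact ⟨_, ⟨e ≪≫ (DerivedCategory.singleFunctorIsoCompQ (ModuleCat.{u} A) 0).app _⟩⟩

theorem single_homology {P : DRing.Cx A} {N : ModuleCat.{u} A}
    (e : DRing.toD P ≅ DRing.toD ((HomologicalComplex.single (ModuleCat.{u} A) (ComplexShape.up ℤ) 0).obj N))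
    (i : ℤ) (hi : i ≠ 0) : IsZero (P.homology i) :=
  (homology_iff e i).2 (isZero_homology_of_X (HomologicalComplex.isZero_single_obj_X _ _ _ _ hi))

/-- extension along a flat map keeps resolutions of modules -/
theorem ext_single [Algebra A B] [Module.Flat A B] {P : DRing.Cx A} (h : ∀ i, i ≠ 0 → IsZero (P.homology i))
    (i : ℤ) (hi : i ≠ 0) : IsZero (((_root_.DTen.extCx (algebraMap A B)).obj P).homology i) := by
  haveI := flat_resOne (algebraMap A B) rfl
  exact (Groth.L00.KFlatAlg.acyclic_restrictScalars (algebraMap A B) _ i).1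
    ((iso_homology (resExtIso (algebraMap A B) P ≪≫ tensorResOne (algebraMap A B) P) i).2
      (isZero_tensor_flat P _ i (h i hi)))

/-- the test upstairs -/
theorem test_iff [Algebra A B] (P : DRing.Cx A) (X : DRing.Cx B) (i : ℤ) :
    IsZero (((_root_.DTen.resCx (algebraMap A B)).obj X ⊗ P).homology i) ↔
      IsZero (((_root_.DTen.extCx (algebraMap A B)).obj P ⊗ X).homology i) :=
  (braid_homology _ P i).trans ((iso_homology (Groth.L00.BaseChangeTensor.tensorIso (algebraMap A B) P X) i).trans
    (Groth.L00.KFlatAlg.acyclic_restrictScalars (algebraMap A B) _ i))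

theorem amp_restrict_iff [Algebra A B] (X : DRing.Cx B) (a b : ℤ) :
    DRing.HasTorAmplitudeIn A a b (DRing.toD ((_root_.DTen.resCx (algebraMap A B)).obj X)) ↔
      ∀ (N : ModuleCat.{u} A) (P : DRing.Cx A), DRing.IsKFlat A P →
        (DRing.toD P ≅ DRing.toD ((HomologicalComplex.single (ModuleCat.{u} A) (ComplexShape.up ℤ) 0).obj N)) →
          ∀ i : ℤ, i < a ∨ b < i → IsZero (((_root_.DTen.extCx (algebraMap A B)).obj P ⊗ X).homology i) :=
  (amp_iff_test _ a b).trans
    ⟨fun h N P hP e i hi => (test_iff P X i).1 (h N P hP e i hi),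
      fun h N P hP e i hi => (test_iff P X i).2 (h N P hP e i hi)⟩

/-- flat extension of the complex upstairs -/
theorem test_ext {C : Type u} [CommRing C] [Algebra A B] [Algebra A C] (ψ : B →+* C)
    (hψ : algebraMap A C = ψ.comp (algebraMap A B)) (P : DRing.Cx A) (K : DRing.Cx B) (i : ℤ) :
    IsZero (((_root_.DTen.resCx (algebraMap A C)).obj ((_root_.DTen.extCx ψ).obj K) ⊗ P).homology i) ↔
      IsZero ((DRing.tensorCx ((_root_.DTen.extCx (algebraMap A B)).obj P ⊗ K) (resOne ψ)).homology i) :=
  (iso_homology (whiskerRightIso (resComp (algebraMap A B) ψ (algebraMap A C) hψ _ ≪≫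
    (_root_.DTen.resCx (algebraMap A B)).mapIso (resExtIso ψ K)) P) i).trans
    ((test_iff P _ i).trans (iso_homology ((α_ _ _ _).symm ≪≫ tensorResOne ψ _) i))

end Groth.L10.LocalAmp
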