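import Groth.Agent.L10.DRing.GammaTensor
import Groth.Agent.L10.DRing.LocalAmp

/-! Base change of the Čech complex. -/

universe u

open CategoryTheory CategoryTheory.Limits MonoidalCategory CochainComplex DerCA

attribute [local instance] HasDerivedCategory.standard

set_option backward.defeqAttrib.useBackward true
set_option backward.isDefEq.respectTransparency false
set_option linter.style.haveILetI false

namespace Groth.L10.CechBaseChange

open Groth.L10.CompletionFormula Groth.L10.CechTorsLocal Groth.L04.RGamma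

variable {A B : Type u} [CommRing A] [CommRing B] (φ : A →+* B)

theorem extCx_map_smul {K L : DRing.Cx A} (f : A) (g : K ⟶ L) :
    (Groth.L02.PC.bcCx φ).map (f • g) = φ f • (Groth.L02.PC.bcCx φ).map g := by
  ext n : 1
  letI := φ.toAlgebra
  refine ModuleCat.hom_ext (LinearMap.ext fun (x : TensorProduct A B (K.X n)) => ?_)
  change (f • (g.f n).hom).baseChange B x = φ f • (g.f n).hom.baseChange B x
  rw [LinearMap.baseChange_smul, LinearMap.smul_apply]
  exact algebraMap_smul B f ((g.f n).hom.baseChange B x) |>.symm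

variable (J : Ideal B) [IsNoetherianRing B] [DRing.HasRgammaI J]

theorem tbij_bc_augE : ∀ fs : List A, (∀ x ∈ fs, φ x ∈ J) →
    Tbij J (DerivedCategory.Q.map ((Groth.L02.PC.bcCx φ).map (GammaTensor.augE fs)))
  | [], _ => by rw [GammaTensor.augE, CategoryTheory.Functor.map_id, CategoryTheory.Functor.map_id]; exact tbij_iso J _
  | f :: fs, h => by
    rw [GammaTensor.augE, Functor.map_comp, Functor.map_comp]
    refine Tbij.comp ?_ (tbij_bc_augE fs fun x hx => h x (List.mem_cons_of_mem _ hx))
    let ψ := locCxUnit (Submonoid.powers f) (extCech (ModuleCat.of A A) fs)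
    let S := (coconeSC ψ).map (Groth.L02.PC.bcCx φ)
    haveI := isIso_smul_locCx f (extCech (ModuleCat.of A A) fs)
    haveI : IsIso (f • 𝟙 (((locCx (Submonoid.powers f)).obj (extCech (ModuleCat.of A A) fs))⟦(-1 : ℤ)⟧)) :=
      isIso_smul_shift f _ _
    haveI : IsIso (φ f • 𝟙 S.X₁) := by
      change IsIso (φ f • 𝟙 ((Groth.L02.PC.bcCx φ).obj (((locCx (Submonoid.powers f)).obj (extCech (ModuleCat.of A A) fs))⟦(-1 : ℤ)⟧)))
      rw [← CategoryTheory.Functor.map_id, ← extCx_map_smul]
      infer_instance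
    exact tbij_of_ses J (S := S) (shortExact_of_split fun i => (coconeSplit ψ i).map (ModuleCat.extendScalars φ))
      (h f (List.mem_cons_self ..))

variable [IsNoetherianRing A]

/-- base change of the Čech complex is `RΓ` of the extended ideal -/
theorem nonempty_iso [DRing.HasLBaseChange φ] (I : Ideal A) [DRing.HasRgammaI I]
    (h1 : I.map φ ≤ J) (h2 : J ≤ (I.map φ).radical) :
    Nonempty ((DRing.LBaseChange φ).obj ((DRing.RgammaI I).obj (Dual.inD A A)) ≅
      (DRing.RgammaI J).obj (Dual.inD B B)) := by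
  have hFA : I.FG := (isNoetherianRing_iff_ideal_fg A).1 inferInstance I
  obtain ⟨s, hs⟩ := hFA
  have hI : Ideal.span {x : A | x ∈ s.toList} = I := by
    rw [← hs]; congr 1; ext; simp
  let E := extCech (ModuleCat.of A A) s.toList
  obtain ⟨g, -⟩ := GammaTensor.exists_gamma_iso I (ModuleCat.of A A) s.toList hI
  let r : (CompletionAdic.tC (ModuleCat.of A A)).obj E ≅ E :=
    (NatIso.mapHomologicalComplex (NatIso.ofComponents (fun X => ρ_ X) (fun f => MonoidalCategory.rightUnitor_naturality f) :
      tensorRight (ModuleCat.of A A) ≅ 𝟭 (ModuleCat.{u} A)) (ComplexShape.up ℤ)).app E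
  let e : (DRing.LBaseChange φ).obj ((DRing.RgammaI I).obj (Dual.inD A A)) ≅
      DRing.toD ((Groth.L02.PC.bcCx φ).obj E) :=
    (DRing.LBaseChange φ).mapIso (g.symm ≪≫ DerivedCategory.Q.mapIso r) ≪≫
      KFlatLBC.lbcKF φ E (CechTorsion.isKFlat s.toList)
  have hb : Tbij J (DerivedCategory.Q.map ((Groth.L02.PC.bcCx φ).map (GammaTensor.augE s.toList))) :=
    tbij_bc_augE φ J s.toList fun x hx => h1 (Ideal.mem_map_of_mem φ (hI ▸ Ideal.subset_span hx))
  have ht : IsTors J (DRing.toD ((Groth.L02.PC.bcCx φ).obj E)) := fun i => by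
    haveI : (ModuleCat.restrictScalars.{u} φ).PreservesHomology := inferInstance
    obtain ⟨k, hk⟩ := Ideal.exists_pow_le_of_le_radical_of_fg h2 ((isNoetherianRing_iff_ideal_fg B).1 inferInstance J)
    refine isPowerTorsion_of_iso J ((DerivedCategory.homologyFunctorFactors (ModuleCat.{u} B) i).app _).symm ?_
    intro z
    let M := LocalAmp.resOne φ
    let w : (ModuleCat.restrictScalars.{u} φ).obj (((Groth.L02.PC.bcCx φ).obj E).homology i) ≅
        ((CompletionAdic.tC M).obj E).homology i :=
      ((((Groth.L02.PC.bcCx φ).obj E).sc i).mapHomologyIso (ModuleCat.restrictScalars.{u} φ)).symm ≪≫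
        (HomologicalComplex.homologyFunctor _ _ i).mapIso (LocalAmp.resExtIso φ E ≪≫ LocalAmp.tensorResOne φ E)
    have hp := isPowerTorsion_of_iso I (((HomologicalComplex.homologyFunctor _ _ i).mapIso
      (KFlatLBC.singleTensorIso E M)).symm ≪≫ w.symm)
      (CompletionAdic.isPowerTorsion_homology I s.toList hI ((isNoetherianRing_iff_ideal_fg A).1 inferInstance I) _ i)
    obtain ⟨n, hn⟩ := hp z
    refine ⟨k * n, fun b hb => ?_⟩
    have hle : J ^ (k * n) ≤ (I ^ n).map φ := by
      rw [pow_mul, Ideal.map_pow]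
      exact Ideal.pow_right_mono hk n
    have h0 : (I ^ n).map φ ≤ LinearMap.ker (LinearMap.toSpanSingleton B _ z) :=
      Ideal.map_le_iff_le_comap.2 fun a ha => hn a ha
    exact h0 (hle hb)
  let j : (Groth.L02.PC.bcCx φ).obj ((HomologicalComplex.single (ModuleCat.{u} A) (ComplexShape.up ℤ) 0).obj (ModuleCat.of A A)) ≅
      (HomologicalComplex.single (ModuleCat.{u} B) (ComplexShape.up ℤ) 0).obj (ModuleCat.of B B) :=
    (HomologicalComplex.singleMapHomologicalComplex (ModuleCat.extendScalars φ) (ComplexShape.up ℤ) 0).app _ ≪≫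
      (HomologicalComplex.single _ _ 0).mapIso
        (letI := φ.toAlgebra; (TensorProduct.AlgebraTensorModule.rid A B B).toModuleIso)
  obtain ⟨f⟩ := CechTorsLocal.exists_iso J (Tbij.comp hb
      (tbij_iso J (DerivedCategory.Q.map j.hom ≫ GammaTensor.toInD (ModuleCat.of B B))))
    (tbij_ε J (Dual.inD B B)) ht (isTors_RgammaI J _)
  exact ⟨e ≪≫ f⟩

end Groth.L10.CechBaseChange
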