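import Groth.Agent.L10.DRing.AdicTowerRlim

/-! Degree zero of the completed Čech complex. -/

universe u

open CategoryTheory CategoryTheory.Limits MonoidalCategory CochainComplex DerCA
open scoped TensorProduct

attribute [local instance] HasDerivedCategory.standard

set_option backward.defeqAttrib.useBackward true
set_option backward.isDefEq.respectTransparency false
set_option linter.style.haveILetI false

namespace Groth.L10.CechDegreeZero

open Groth.L10.CompletionFormula Groth.L10.AdicTower Groth.L10.AdicTowerRlim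

variable {A : Type u} [CommRing A]

/-- modules in degree zero -/
noncomputable abbrev S₀ : ModuleCat.{u} A ⥤ DRing.Cx A :=
  HomologicalComplex.single (ModuleCat.{u} A) (ComplexShape.up ℤ) 0

/-- degree zero cohomology -/
noncomputable abbrev H₀ : Dual.D A ⥤ ModuleCat.{u} A := DerivedCategory.homologyFunctor (ModuleCat.{u} A) 0

theorem isIso_augE_zero : ∀ fs : List A, IsIso ((GammaTensor.augE fs).f 0)
  | [] => inferInstanceAs (IsIso (𝟙 _))
  | f :: fs => by
    let φ := locCxUnit (Submonoid.powers f) (extCech (ModuleCat.of A A) fs)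
    haveI := isIso_augE_zero fs
    haveI : IsIso ((mappingCocone.fst φ).f 0) := by
      haveI : Subsingleton (((locCx (Submonoid.powers f)).obj (extCech (ModuleCat.of A A) fs)).X (0 + -1)) := by
        haveI := ModuleCat.subsingleton_of_isZero (CechTorsion.isZero_X (ModuleCat.of A A) fs (0 + -1) (Or.inl (by norm_num)))
        exact inferInstanceAs (Subsingleton (LocalizedModule (Submonoid.powers f) ((extCech (ModuleCat.of A A) fs).X (0 + -1))))
      refine ⟨(mappingCocone.inl φ).v 0 0 (add_zero 0), ?_, mappingCocone.inl_v_fst_f φ 0⟩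
      have h := mappingCocone.id_X φ 0 (0 + -1) rfl
      rw [show (mappingCocone.snd φ).v 0 (0 + -1) rfl = 0 from
        (ModuleCat.isZero_of_subsingleton _).eq_of_tgt _ _, zero_comp, add_zero] at h
      exact h
    change IsIso ((mappingCocone.fst φ).f 0 ≫ (GammaTensor.augE fs).f 0)
    infer_instance

theorem isIso_augM_zero (N : ModuleCat.{u} A) (fs : List A) : IsIso ((GammaTensor.augM N fs).f 0) := by
  haveI := isIso_augE_zero fs
  haveI : IsIso (((CompletionAdic.tC N).map (GammaTensor.augE fs)).f 0) :=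
    inferInstanceAs (IsIso ((tensorRight N).map ((GammaTensor.augE fs).f 0)))
  change IsIso (((CompletionAdic.tC N).map (GammaTensor.augE fs) ≫ _).f 0)
  rw [HomologicalComplex.comp_f]
  infer_instance

theorem eq_of_homologyπ_eq {K : DRing.Cx A} (hK : IsZero (K.X (-1))) {z z' : (K.cycles 0 : ModuleCat.{u} A)}
    (h : (K.homologyπ 0).hom z = (K.homologyπ 0).hom z') : z = z' := by
  haveI := ModuleCat.subsingleton_of_isZero hK
  obtain ⟨y, hy⟩ := (L28.HomElt.π_eq_zero_iff (K := K) (i := -1) (j := 0) (by simp) (z - z')).1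
    ((map_sub (K.homologyπ 0).hom z z').trans (sub_eq_zero.2 h))
  refine sub_eq_zero.1 (L28.HomElt.iCycles_injective K 0 ?_)
  rw [← hy, Subsingleton.elim y 0, map_zero, map_zero]

theorem injective_homologyMap_augM (N : ModuleCat.{u} A) (fs : List A) :
    Function.Injective (HomologicalComplex.homologyMap (GammaTensor.augM N fs) 0).hom := by
  haveI := isIso_augM_zero N fs
  refine (L28.HomElt.injective_homologyMap_iff _ (i := -1) (j := 0) (k := 1) (by simp) (by simp)).2
    fun x w _ hw => ⟨0, ?_⟩
  haveI := ModuleCat.subsingleton_of_isZero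
    (HomologicalComplex.isZero_single_obj_X (ComplexShape.up ℤ) 0 N (-1) (by norm_num) : IsZero (((S₀).obj N).X (-1)))
  rw [Subsingleton.elim w 0, map_zero] at hw
  rw [map_zero]
  refine (((ConcreteCategory.isIso_iff_bijective _).1 (isIso_augM_zero N fs)).1 ?_).symm
  exact hw.trans (map_zero _).symm

/-- `N ≅ H⁰ (N[0])` on complexes -/
noncomputable def zeta : 𝟭 (ModuleCat.{u} A) ≅ S₀ ⋙ HomologicalComplex.homologyFunctor (ModuleCat.{u} A) _ 0 :=
  (DerivedCategory.singleFunctorCompHomologyFunctorIso (ModuleCat.{u} A) 0).symm ≪≫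
    Functor.isoWhiskerRight (DerivedCategory.singleFunctorIsoCompQ (ModuleCat.{u} A) 0) _ ≪≫
    Functor.associator _ _ _ ≪≫
    Functor.isoWhiskerLeft _ (DerivedCategory.homologyFunctorFactors (ModuleCat.{u} A) 0)

theorem zeta_apply (N : ModuleCat.{u} A) :
    zeta.hom.app N = (DerivedCategory.singleFunctorCompHomologyFunctorIso (ModuleCat.{u} A) 0).inv.app N ≫
      (H₀).map ((DerivedCategory.singleFunctorIsoCompQ (ModuleCat.{u} A) 0).hom.app N) ≫
      (CompletionBound.hhIso ((S₀).obj N) 0).hom := by
  simp [zeta, CompletionBound.hhIso]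
  rfl

theorem zeta_naturality {N N' : ModuleCat.{u} A} (ν : N ⟶ N') (v : N) :
    (HomologicalComplex.homologyMap ((S₀).map ν) 0).hom ((zeta.hom.app N).hom v) = (zeta.hom.app N').hom (ν.hom v) :=
  LinearMap.congr_fun (congrArg ModuleCat.Hom.hom (zeta.hom.naturality ν).symm) v

theorem zeta_injective (N : ModuleCat.{u} A) : Function.Injective (zeta.hom.app N).hom :=
  ((ConcreteCategory.isIso_iff_bijective _).1 inferInstance).1

theorem zeta_surjective (N : ModuleCat.{u} A) : Function.Surjective (zeta.hom.app N).hom :=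
  ((ConcreteCategory.isIso_iff_bijective _).1 inferInstance).2

variable (J : Ideal A)

theorem torsion_of_range [IsNoetherianRing A] (N : ModuleCat.{u} A) (fs : List A) (hJ : Ideal.span {x : A | x ∈ fs} = J)
    (y : ((CompletionAdic.tC N).obj (extCech (ModuleCat.of A A) fs)).homology 0) (v : N)
    (h : (HomologicalComplex.homologyMap (GammaTensor.augM N fs) 0).hom y = (zeta.hom.app N).hom v) :
    ∃ k : ℕ, ∀ a ∈ J ^ k, a • v = 0 := by
  have ht := Groth.L04.RGamma.isPowerTorsion_of_iso J
    ((HomologicalComplex.homologyFunctor _ _ 0).mapIso (KFlatLBC.singleTensorIso (extCech (ModuleCat.of A A) fs) N)).symm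
    (CompletionAdic.isPowerTorsion_homology J fs hJ ((isNoetherianRing_iff_ideal_fg A).1 inferInstance J) _ 0)
  obtain ⟨k, hk⟩ := ht y
  refine ⟨k, fun a ha => zeta_injective N ?_⟩
  refine ((map_smul _ a v).trans ((congrArg (a • ·) h).symm.trans ((map_smul _ a y).symm.trans ?_))).trans (map_zero _).symm
  exact (congrArg _ (hk a ha)).trans (map_zero _)

theorem exists_of_torsion [IsNoetherianRing A] [DRing.HasRgammaI J] (N : ModuleCat.{u} A) (fs : List A) (hJ : Ideal.span {x : A | x ∈ fs} = J)
    (v : N) (k : ℕ) (hk : ∀ a ∈ J ^ k, a • v = 0) :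
    ∃ y, (HomologicalComplex.homologyMap (GammaTensor.augM N fs) 0).hom y = (zeta.hom.app N).hom v := by
  let T : ModuleCat.{u} A := ModuleCat.of A (A ⧸ J ^ k)
  let f : T ⟶ N := ModuleCat.ofHom (Submodule.liftQ (J ^ k) (LinearMap.toSpanSingleton A N v)
    fun a ha => LinearMap.mem_ker.2 (hk a ha))
  have hT : Groth.L04.RGamma.IsTors J ((DerivedCategory.singleFunctor (ModuleCat.{u} A) 0).obj T) := fun i => by
    by_cases hi : i = 0
    · subst hi
      refine Groth.L04.RGamma.isPowerTorsion_of_iso J
        ((DerivedCategory.singleFunctorCompHomologyFunctorIso (ModuleCat.{u} A) 0).app T).symm fun x => ⟨k, fun a ha => ?_⟩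
      obtain ⟨b, rfl⟩ := Submodule.Quotient.mk_surjective _ x
      exact (Submodule.Quotient.mk_eq_zero _).2 (Ideal.mul_mem_right b _ ha)
    · intro x
      haveI := L04.RGamma.subsingleton_HD_inD (A := A) (M := A ⧸ J ^ k) hi
      exact ⟨0, fun a _ => @Subsingleton.elim _ this _ _⟩
  obtain ⟨a, ha⟩ := (CechTorsLocal.Tbij.comp (GammaTensor.tbij_augM J N fs fun x hx => hJ ▸ Ideal.subset_span hx)
    (CechTorsLocal.tbij_iso J (GammaTensor.toInD N)) _ hT).2 ((DerivedCategory.singleFunctor (ModuleCat.{u} A) 0).map f)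
  change a ≫ DerivedCategory.Q.map (GammaTensor.augM N fs) ≫ GammaTensor.toInD N = _ at ha
  let t := (DerivedCategory.singleFunctorCompHomologyFunctorIso (ModuleCat.{u} A) 0).inv.app T
  refine ⟨((t ≫ (H₀).map a) ≫ (CompletionBound.hhIso _ 0).hom).hom (Submodule.Quotient.mk (1 : A)), ?_⟩
  have key : ((t ≫ (H₀).map a) ≫ (CompletionBound.hhIso _ 0).hom) ≫
      HomologicalComplex.homologyMap (GammaTensor.augM N fs) 0 = f ≫ zeta.hom.app N := by
    rw [zeta_apply]
    have hn : (H₀).map (DerivedCategory.Q.map (GammaTensor.augM N fs)) ≫ (CompletionBound.hhIso _ 0).hom =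
        (CompletionBound.hhIso _ 0).hom ≫ HomologicalComplex.homologyMap (GammaTensor.augM N fs) 0 :=
      (DerivedCategory.homologyFunctorFactors (ModuleCat.{u} A) 0).hom.naturality _
    have hσ := (DerivedCategory.singleFunctorCompHomologyFunctorIso (ModuleCat.{u} A) 0).inv.naturality f
    simp only [Functor.id_map, Functor.comp_map] at hσ
    rw [reassoc_of% hσ, ← ha]
    simp only [Category.assoc, ← hn, ← Functor.map_comp_assoc]
    congr 3
  refine (LinearMap.congr_fun (congrArg ModuleCat.Hom.hom key) (Submodule.Quotient.mk (1 : A))).trans ?_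
  exact congrArg (zeta.hom.app N).hom (LinearMap.toSpanSingleton_apply_one A N v)

theorem lid_lTensor {N N' : Type u} [AddCommGroup N] [Module A N] [AddCommGroup N'] [Module A N'] (f : N →ₗ[A] N')
    (t : A ⊗[A] N) : TensorProduct.lid A N' (f.lTensor A t) = f (TensorProduct.lid A N t) := by
  induction t using TensorProduct.induction_on with
  | zero => simp
  | add p q hp hq => simp only [map_add, hp, hq]
  | tmul a b => simp

variable (I : Ideal A) (M : Type u) [AddCommGroup M] [Module A M]

/-- `lim M/I^n` -/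
noncomputable abbrev Mh : ModuleCat.{u} A := (limF I M).obj (ModuleCat.of A A)

/-- `M ⟶ lim` -/
noncomputable abbrev kap : ModuleCat.of A M ⟶ Mh I M := (λ_ (ModuleCat.of A M)).inv ≫ (kappa I M).app (ModuleCat.of A A)

/-- `lim ⟶ M/I^n` -/
noncomputable abbrev piH (n : ℕ) : Mh I M ⟶ lvl I M n :=
  ((incl I M ≫ proj I M n).app (ModuleCat.of A A)) ≫ (λ_ (lvl I M n)).hom

theorem piH_kap (n : ℕ) : kap I M ≫ piH I M n = pr I M n := by
  refine ModuleCat.hom_ext (LinearMap.ext fun m => ?_)
  change (TensorProduct.lid A (lvl I M n)) ((1 : A) ⊗ₜ (pr I M n).hom m) = _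
  simp

theorem piH_injective {x y : Mh I M} (h : ∀ n, (piH I M n).hom x = (piH I M n).hom y) : x = y :=
  Subtype.ext (funext fun n => (TensorProduct.lid A (lvl I M n)).injective (h n))

/-- `G ⟶ lim [0]` -/
noncomputable def bMap (fs : List A) : G I M (extCech (ModuleCat.of A A) fs) ⟶ (S₀).obj (Mh I M) :=
  ((limF I M).mapHomologicalComplex _).map (GammaTensor.augE fs) ≫
    (HomologicalComplex.singleMapHomologicalComplex (limF I M) (ComplexShape.up ℤ) 0).hom.app (ModuleCat.of A A)

theorem kappa_bMap (fs : List A) :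
    (NatTrans.mapHomologicalComplex (kappa I M) (ComplexShape.up ℤ)).app (extCech (ModuleCat.of A A) fs) ≫ bMap I M fs =
      GammaTensor.augM (ModuleCat.of A M) fs ≫ (S₀).map (kap I M) := by
  simp only [bMap, GammaTensor.augM, Category.assoc, ← Functor.map_comp, Iso.hom_inv_id_assoc, kap]
  rw [← (NatTrans.mapHomologicalComplex (kappa I M) (ComplexShape.up ℤ)).naturality_assoc, CompletionFlat.single_natTrans]

/-- projections of the limit complex -/
noncomputable abbrev pG (E : DRing.Cx A) (n : ℕ) : G I M E ⟶ W I M E n :=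
  (NatTrans.mapHomologicalComplex (incl I M ≫ proj I M n) (ComplexShape.up ℤ)).app E

theorem pG_augM (fs : List A) (n : ℕ) :
    pG I M (extCech (ModuleCat.of A A) fs) n ≫ GammaTensor.augM (lvl I M n) fs = bMap I M fs ≫ (S₀).map (piH I M n) := by
  simp only [bMap, GammaTensor.augM, Category.assoc, piH, pG]
  rw [← (NatTrans.mapHomologicalComplex (incl I M ≫ proj I M n) (ComplexShape.up ℤ)).naturality_assoc,
    reassoc_of% (CompletionFlat.single_natTrans (incl I M ≫ proj I M n) (ModuleCat.of A A)), Functor.map_comp]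

theorem eq_zero_of_pG (E : DRing.Cx A) (hE : IsZero (E.X (-1))) (z : (G I M E).homology 0)
    (h : ∀ n, (HomologicalComplex.homologyMap (pG I M E n) 0).hom z = 0) : z = 0 := by
  obtain ⟨c, rfl⟩ := L28.HomElt.homologyπ_surjective (G I M E) 0 z
  have hc : ∀ n, HomologicalComplex.cyclesMap (pG I M E n) 0 c = 0 := fun n => by
    refine eq_of_homologyπ_eq ((tensorRight (lvl I M n)).map_isZero hE) ?_
    rw [← L28.HomElt.homologyMap_π]
    exact (h n).trans (map_zero _).symm
  have : c = 0 := by
    refine L28.HomElt.iCycles_injective _ 0 ((Subtype.ext (funext fun n => ?_)).trans (map_zero _).symm)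
    have := congrArg ((W I M E n).iCycles 0) (hc n)
    rw [L28.HomElt.iCycles_cyclesMap, map_zero] at this
    exact this
  rw [this, map_zero]

theorem exists_of_compatible (E : DRing.Cx A) (hE : IsZero (E.X (-1))) (y : ∀ n, (W I M E n).homology 0)
    (hy : ∀ n, (HomologicalComplex.homologyMap ((CompletionAdic.tau (tr I M n)).app E) 0).hom (y (n + 1)) = y n) :
    ∃ z : (G I M E).homology 0, ∀ n, (HomologicalComplex.homologyMap (pG I M E n) 0).hom z = y n := by
  choose c hc using fun n => L28.HomElt.homologyπ_surjective (W I M E n) 0 (y n)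
  have hcc : ∀ n, HomologicalComplex.cyclesMap ((CompletionAdic.tau (tr I M n)).app E) 0 (c (n + 1)) = c n := fun n => by
    refine eq_of_homologyπ_eq ((tensorRight (lvl I M n)).map_isZero hE) ?_
    refine (L28.HomElt.homologyMap_π _ _ _).symm.trans ?_
    exact (congrArg _ (hc (n + 1))).trans ((hy n).trans (hc n).symm)
  let x : (G I M E).X 0 := ⟨fun n => (W I M E n).iCycles 0 (c n), by
    rw [LinearMap.mem_ker]
    funext n
    rw [deltaMap_apply]
    refine sub_eq_zero.2 ?_
    have := L28.HomElt.iCycles_cyclesMap ((CompletionAdic.tau (tr I M n)).app E) 0 (c (n + 1))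
    rw [hcc n] at this
    exact this⟩
  have hx : ((G I M E).d 0 1).hom x = 0 := by
    refine Subtype.ext (funext fun n => ?_)
    exact L28.HomElt.d_iCycles 0 1 (c n)
  obtain ⟨z, hz⟩ := L28.HomElt.exists_cycle (K := G I M E) (j := 0) (k := 1) (by simp) x hx
  refine ⟨((G I M E).homologyπ 0).hom z, fun n => ?_⟩
  rw [← hc n]
  refine (L28.HomElt.homologyMap_π _ _ _).trans (congrArg _ (L28.HomElt.iCycles_injective _ 0 ?_))
  rw [L28.HomElt.iCycles_cyclesMap, hz]
  rfl

theorem injective_bMap (fs : List A) :
    Function.Injective (HomologicalComplex.homologyMap (bMap I M fs) 0).hom := by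
  rw [injective_iff_map_eq_zero]
  intro z hz
  refine eq_zero_of_pG I M _ (CechTorsion.isZero_X _ fs (-1) (Or.inl (by norm_num))) z fun n => ?_
  refine injective_homologyMap_augM (lvl I M n) fs ?_
  have h := congrArg (fun φ : G I M (extCech (ModuleCat.of A A) fs) ⟶ (S₀).obj (lvl I M n) =>
      (HomologicalComplex.homologyMap φ 0).hom z) (pG_augM I M fs n)
  simp only [HomologicalComplex.homologyMap_comp, ModuleCat.hom_comp, LinearMap.comp_apply, hz, map_zero] at h
  rw [map_zero]
  exact h

theorem mem_range_bMap [IsNoetherianRing A] [DRing.HasRgammaI J] (fs : List A) (hJ : Ideal.span {x : A | x ∈ fs} = J) (w : Mh I M) :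
    (zeta.hom.app (Mh I M)).hom w ∈ Set.range (HomologicalComplex.homologyMap (bMap I M fs) 0).hom ↔
      ∀ n, ∃ k : ℕ, ∀ a ∈ J ^ k, a • (piH I M n).hom w = 0 := by
  have hp : ∀ n z, (HomologicalComplex.homologyMap (GammaTensor.augM (lvl I M n) fs) 0).hom
      ((HomologicalComplex.homologyMap (pG I M (extCech (ModuleCat.of A A) fs) n) 0).hom z) =
      (HomologicalComplex.homologyMap ((S₀).map (piH I M n)) 0).hom
        ((HomologicalComplex.homologyMap (bMap I M fs) 0).hom z) := fun n z => by
    have h := congrArg (fun φ : G I M (extCech (ModuleCat.of A A) fs) ⟶ (S₀).obj (lvl I M n) =>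
      (HomologicalComplex.homologyMap φ 0).hom z) (pG_augM I M fs n)
    simpa only [HomologicalComplex.homologyMap_comp, ModuleCat.hom_comp, LinearMap.comp_apply] using h
  constructor
  · rintro ⟨z, hz⟩ n
    refine torsion_of_range J (lvl I M n) fs hJ _ _ ((hp n z).trans ?_)
    rw [hz, zeta_naturality]
  · intro h
    choose k hk using h
    choose y hy using fun n => exists_of_torsion J (lvl I M n) fs hJ _ (k n) (hk n)
    obtain ⟨z, hz⟩ := exists_of_compatible I M (extCech (ModuleCat.of A A) fs)
      (CechTorsion.isZero_X _ fs (-1) (Or.inl (by norm_num))) y fun n => by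
        refine injective_homologyMap_augM (lvl I M n) fs ?_
        have h := congrArg (fun φ : W I M (extCech (ModuleCat.of A A) fs) (n + 1) ⟶ (S₀).obj (lvl I M n) =>
            (HomologicalComplex.homologyMap φ 0).hom (y (n + 1)))
          (GammaTensor.augM_naturality (tr I M n) fs)
        simp only [HomologicalComplex.homologyMap_comp, ModuleCat.hom_comp, LinearMap.comp_apply] at h
        rw [h, hy (n + 1), hy n, zeta_naturality]
        refine congrArg _ ?_
        exact LinearMap.congr_fun (LinearMap.ext fun x : Mh I M => by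
          have hx := congrFun (LinearMap.mem_ker.1 x.2) n
          rw [deltaMap_apply] at hx
          have hx := sub_eq_zero.1 hx
          change (TensorProduct.lid A (lvl I M n)) (x.1 n) = _
          exact (congrArg _ hx).trans (lid_lTensor (tr I M n).hom (x.1 (n + 1))) : (piH I M n).hom = (tr I M n).hom ∘ₗ (piH I M (n + 1)).hom) w |>.symm
    refine ⟨z, ?_⟩
    obtain ⟨w', hw'⟩ := zeta_surjective (Mh I M) ((HomologicalComplex.homologyMap (bMap I M fs) 0).hom z)
    rw [← hw']
    refine congrArg _ (piH_injective I M fun n => zeta_injective _ ?_)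
    rw [← zeta_naturality, hw', ← hp, hz, hy]

end Groth.L10.CechDegreeZero
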