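import Groth.Agent.L10.DRing.CompletionFormula
import Groth.Agent.L04.RGamma.GM
import Groth.Agent.L00.BifunctorExact
import Groth.Agent.S8933

/-! `RΓ_I K` is the tensor product with the extended Čech complex; torsion objects and `RHom`. -/

universe u

open CategoryTheory CategoryTheory.Limits MonoidalCategory CategoryTheory.Pretriangulated CochainComplex
  CochainComplex.HomComplex DerCA
open scoped TensorProduct

attribute [local instance] HasDerivedCategory.standard

set_option backward.defeqAttrib.useBackward true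
set_option backward.isDefEq.respectTransparency false
set_option linter.style.haveILetI false

namespace Groth.L10.CechTorsLocal

open Groth.L10.CompletionFormula Groth.L04.RGamma

variable {A : Type u} [CommRing A] (I : Ideal A)

/-- tensor with `E` on the right of a fixed complex -/
noncomputable abbrev TL (P : DRing.Cx A) : DRing.Cx A ⥤ DRing.Cx A := Groth.L10.KFlat.T P

theorem TL_map_smul (P E : DRing.Cx A) (f : A) : (TL P).map (f • 𝟙 E) = f • 𝟙 ((TL P).obj E) := by
  ext n : 1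
  refine HomologicalComplex.mapBifunctor.hom_ext fun p q h => ?_
  rw [show ((TL P).map (f • 𝟙 E)).f n = (HomologicalComplex.mapBifunctorMap (𝟙 P) (f • 𝟙 E)
    (curriedTensor (ModuleCat.{u} A)) (ComplexShape.up ℤ)).f n from rfl, HomologicalComplex.ι_mapBifunctorMap]
  refine ModuleCat.hom_ext (TensorProduct.ext' fun (x : P.X p) (y : E.X q) => ?_)
  change (HomologicalComplex.ιMapBifunctor P E (curriedTensor (ModuleCat.{u} A)) (ComplexShape.up ℤ) p q n h).hom
      (x ⊗ₜ[A] (f • y)) =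
    f • (HomologicalComplex.ιMapBifunctor P E (curriedTensor (ModuleCat.{u} A)) (ComplexShape.up ℤ) p q n h).hom
      (x ⊗ₜ[A] y)
  rw [TensorProduct.tmul_smul, map_smul]

/-- postcomposition is bijective on maps out of torsion objects -/
def Tbij {X Y : Dual.D A} (φ : X ⟶ Y) : Prop :=
  ∀ T : Dual.D A, IsTors I T → Function.Bijective fun a : T ⟶ X => a ≫ φ

theorem tbij_iso {X Y : Dual.D A} (φ : X ⟶ Y) [IsIso φ] : Tbij I φ := fun T _ =>
  ⟨fun a b h => (cancel_mono φ).1 h, fun a => ⟨a ≫ inv φ, by simp⟩⟩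

variable {I} in
theorem Tbij.comp {X Y Z : Dual.D A} {φ : X ⟶ Y} {ψ : Y ⟶ Z} (h : Tbij I φ) (h' : Tbij I ψ) :
    Tbij I (φ ≫ ψ) := fun T hT => by
  have := (h' T hT).comp (h T hT)
  simpa [Function.comp_def] using this

variable [IsNoetherianRing A] [DRing.HasRgammaI I]

theorem vanT_of_isIso_smul {f : A} (hf : f ∈ I) (E : DRing.Cx A) [IsIso (f • 𝟙 E)] :
    VanT I (DRing.toD E) := fun T hT a => by
  have hb : ∀ n, Function.Bijective fun x : E.X n => f • x := fun n =>
    ((ConcreteCategory.isIso_iff_bijective _).1 (inferInstance : IsIso ((f • 𝟙 E).f n)))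
  have hz := Groth.Agent.S8933.result A I ((isNoetherianRing_iff_ideal_fg A).1 inferInstance I) E f hf hb
  obtain ⟨u, rfl⟩ := exists_comp_ε I hT (DRing.toD E) a
  rw [hz.eq_of_tgt u 0, zero_comp]

theorem tbij_of_ses {S : ShortComplex (DRing.Cx A)} (hS : S.ShortExact) {f : A} (hf : f ∈ I)
    [IsIso (f • 𝟙 S.X₁)] : Tbij I (DerivedCategory.Q.map S.g) := fun T hT' => by
  have hT := DerivedCategory.triangleOfSES_distinguished hS
  have hv := vanT_of_isIso_smul I hf S.X₁
  refine ⟨fun a b hab => sub_eq_zero.1 ?_, fun b => ?_⟩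
  · obtain ⟨c, hc⟩ := Triangle.coyoneda_exact₂ _ hT (a - b) (by
      change (a - b) ≫ DerivedCategory.Q.map S.g = 0
      rw [Preadditive.sub_comp]; exact sub_eq_zero.2 hab)
    rw [hc, hv T hT' c]
    exact zero_comp
  · obtain ⟨c, hc⟩ := Triangle.coyoneda_exact₃ _ hT b (eq_zero_of_shift_vanT I hv hT' _)
    exact ⟨c, hc.symm⟩

omit [IsNoetherianRing A] [DRing.HasRgammaI I]

/-- `P ⊗ A[0] ≅ P` -/
noncomputable def rightUnit (P : DRing.Cx A) : (TL P).obj (extCech (ModuleCat.of A A) []) ≅ P :=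
  DTen.braidCx _ _ ≪≫ (KFlatLBC.singleTensorIso P (ModuleCat.of A A)).symm ≪≫
    HomologicalComplex.Hom.isoOfComponents (fun i => ρ_ (P.X i))
      (fun i j _ => (MonoidalCategory.rightUnitor_naturality (P.d i j)).symm)

/-- `P ⊗ Č ⟶ P` -/
noncomputable def aug (P : DRing.Cx A) : ∀ fs : List A, (TL P).obj (extCech (ModuleCat.of A A) fs) ⟶ P
  | [] => (rightUnit P).hom
  | f :: fs => (TL P).map (mappingCocone.fst (locCxUnit (Submonoid.powers f) (extCech (ModuleCat.of A A) fs))) ≫
      aug P fs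

theorem tbij_aug [IsNoetherianRing A] [DRing.HasRgammaI I] (P : DRing.Cx A) : ∀ fs : List A, (∀ x ∈ fs, x ∈ I) →
    Tbij I (DerivedCategory.Q.map (aug P fs))
  | [], _ => by rw [aug]; exact tbij_iso I _
  | f :: fs, h => by
    rw [aug, Functor.map_comp]
    refine Tbij.comp ?_ (tbij_aug P fs fun x hx => h x (List.mem_cons_of_mem _ hx))
    let φ := locCxUnit (Submonoid.powers f) (extCech (ModuleCat.of A A) fs)
    haveI := isIso_smul_locCx f (extCech (ModuleCat.of A A) fs)
    haveI : IsIso (f • 𝟙 (((locCx (Submonoid.powers f)).obj (extCech (ModuleCat.of A A) fs))⟦(-1 : ℤ)⟧)) :=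
      isIso_smul_shift f _ _
    haveI : IsIso (f • 𝟙 ((coconeSC φ).map (TL P)).X₁) := by
      change IsIso (f • 𝟙 ((TL P).obj (((locCx (Submonoid.powers f)).obj (extCech (ModuleCat.of A A) fs))⟦(-1 : ℤ)⟧)))
      rw [← TL_map_smul]
      infer_instance
    exact tbij_of_ses I (S := (coconeSC φ).map (TL P))
      (Groth.L00.BifExact.shortExact_T_of_splitting _ P _ (coconeSplit φ)) (h f (List.mem_cons_self ..))

theorem subsingleton_tensor_away {N : Type u} [AddCommGroup N] [Module A N] (g : A)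
    (h : Subsingleton (N ⊗[A] Localization.Away g)) (x : N) : ∃ k : ℕ, g ^ k • x = 0 := by
  obtain ⟨⟨_, k, rfl⟩, hk⟩ := (LocalizedModule.mk_eq (m := x) (m' := 0) (s := 1) (s' := (1 : Submonoid.powers g))).1 (by
    apply (LocalizedModule.equivTensorProduct (Submonoid.powers g) N).injective
    apply (TensorProduct.comm A (Localization.Away g) N).injective
    exact Subsingleton.elim _ _)
  exact ⟨k, by simpa [Submonoid.smul_def] using hk⟩

omit [IsNoetherianRing A] [DRing.HasRgammaI I] in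
theorem isPowerTorsion_of_elements (hI : I.FG) (N : Type u) [AddCommGroup N] [Module A N]
    (h : ∀ g ∈ I, ∀ x : N, ∃ k : ℕ, g ^ k • x = 0) : LocCoh.IsPowerTorsion I N := fun x => by
  let 𝔞 : Ideal A := LinearMap.ker (LinearMap.toSpanSingleton A N x)
  obtain ⟨n, hn⟩ := Ideal.exists_pow_le_of_le_radical_of_fg (J := 𝔞) (fun g hg => h g hg x) hI
  exact ⟨n, fun a ha => hn ha⟩

theorem isTors_tensor (fs : List A) (hI : Ideal.span {x : A | x ∈ fs} = I) (hFG : I.FG) (P : DRing.Cx A)
    (hP : DRing.IsKFlat A P) : IsTors I (DRing.toD ((TL P).obj (extCech (ModuleCat.of A A) fs))) := fun i => by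
  refine isPowerTorsion_of_iso I ((DerivedCategory.homologyFunctorFactors (ModuleCat.{u} A) i).app _).symm
    (isPowerTorsion_of_elements I hFG _ fun g hg => subsingleton_tensor_away g ?_)
  haveI : Module.Flat A (ModuleCat.of A (Localization.Away g)) :=
    IsLocalization.flat (Localization.Away g) (Submonoid.powers g)
  refine (LocalAmp.isZero_tensor_flat_iff _ (ModuleCat.of A (Localization.Away g)) i).1 ?_
  let E := extCech (ModuleCat.of A A) fs
  let S := (HomologicalComplex.single (ModuleCat.{u} A) (ComplexShape.up ℤ) 0).obj (ModuleCat.of A (Localization.Away g))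
  refine (hP (S ⊗ E) (fun j => CechTorsion.isZero_away_tensor fs (hI.ge hg) j) i).of_iso
    ((HomologicalComplex.homologyFunctor _ _ i).mapIso (KFlatLBC.singleTensorIso _ _ ≪≫
      (Groth.L10.KFlat.T S).mapIso (DTen.braidCx P E) ≪≫ (α_ S E P).symm))

/-- uniqueness -/
theorem exists_iso {X Y Z : Dual.D A} {a : X ⟶ Z} {b : Y ⟶ Z} (ha : Tbij I a) (hb : Tbij I b)
    (hX : IsTors I X) (hY : IsTors I Y) : Nonempty (X ≅ Y) := by
  obtain ⟨u, hu⟩ := (hb X hX).2 a
  obtain ⟨v, hv⟩ := (ha Y hY).2 b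
  change u ≫ b = a at hu
  change v ≫ a = b at hv
  refine ⟨⟨u, v, (ha X hX).1 ?_, (hb Y hY).1 ?_⟩⟩
  · change (u ≫ v) ≫ a = 𝟙 X ≫ a
    rw [Category.assoc, hv, hu, Category.id_comp]
  · change (v ≫ u) ≫ b = 𝟙 Y ≫ b
    rw [Category.assoc, hu, hv, Category.id_comp]

theorem tbij_ε [IsNoetherianRing A] [DRing.HasRgammaI I] (K : Dual.D A) : Tbij I ((DRing.RgammaIε I).app K) :=
  fun _ hT => ⟨fun u v h => injective_comp_ε I hT K u v h, fun a => exists_comp_ε I hT K a⟩

/-- `RΓ_I` by the Čech complex -/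
theorem nonempty_gamma_iso [IsNoetherianRing A] [DRing.HasRgammaI I] (fs : List A)
    (hI : Ideal.span {x : A | x ∈ fs} = I) (P : DRing.Cx A) (hP : DRing.IsKFlat A P) :
    Nonempty (DRing.toD ((TL P).obj (extCech (ModuleCat.of A A) fs)) ≅ (DRing.RgammaI I).obj (DRing.toD P)) :=
  exists_iso I (tbij_aug I P fs fun x hx => hI ▸ Ideal.subset_span hx) (tbij_ε I _)
    (isTors_tensor I fs hI ((isNoetherianRing_iff_ideal_fg A).1 inferInstance I) P hP) (isTors_RgammaI I _)

omit [IsNoetherianRing A] [DRing.HasRgammaI I] in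
/-- `Hom•(-, J)` only depends on the class in `D(A)` -/
theorem nonempty_homCx_iso {S S' : DRing.Cx A} (e : DRing.toD S ≅ DRing.toD S') (J : DRing.Cx A) [J.IsKInjective] :
    Nonempty (DRing.toD (DRing.homCx S J) ≅ DRing.toD (DRing.homCx S' J)) := by
  obtain ⟨X, s, hs, g, hfac⟩ := DerivedCategory.right_fac e.hom
  haveI : QuasiIso s := (DerivedCategory.isIso_Q_map_iff_quasiIso _ s).1 hs
  haveI : QuasiIso g := (DerivedCategory.isIso_Q_map_iff_quasiIso _ g).1 (by
    rw [show DerivedCategory.Q.map g = DerivedCategory.Q.map s ≫ e.hom by rw [hfac, IsIso.hom_inv_id_assoc]]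
    infer_instance)
  haveI := RHomCx.quasiIso_homCxPre s J
  haveI := RHomCx.quasiIso_homCxPre g J
  haveI := RHomCx.isIso_Q_map (RHomCx.homCxPre s J)
  haveI := RHomCx.isIso_Q_map (RHomCx.homCxPre g J)
  exact ⟨asIso (DerivedCategory.Q.map (RHomCx.homCxPre s J)) ≪≫
    (asIso (DerivedCategory.Q.map (RHomCx.homCxPre g J))).symm⟩

/-- `Hom•(E, -)` inverts maps seen as bijections by the shifts of `E` -/
theorem quasiIso_post {E J J' : DRing.Cx A} [J.IsKInjective] [J'.IsKInjective] (j : J ⟶ J')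
    (h : ∀ n : ℤ, Function.Bijective
      fun a : DRing.toD E ⟶ (DRing.toD J)⟦n⟧ => a ≫ (DerivedCategory.Q.map j)⟦n⟧') :
    QuasiIso (DRing.homCxMap E j) := by
  let q := HomotopyCategory.quotient (ModuleCat.{u} A) (ComplexShape.up ℤ)
  let c := DerivedCategory.quotientCompQhIso (ModuleCat.{u} A)
  let ε := fun n : ℤ => (DerivedCategory.Q (C := ModuleCat.{u} A)).commShiftIso n
  let conv : ∀ (L : DRing.Cx A) (n : ℤ), (q.obj E ⟶ q.obj (L⟦n⟧)) → (DRing.toD E ⟶ (DRing.toD L)⟦n⟧) := fun L n a =>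
    c.inv.app E ≫ DerivedCategory.Qh.map a ≫ c.hom.app (L⟦n⟧) ≫ (ε n).hom.app L
  have hcb : ∀ (L : DRing.Cx A) [L.IsKInjective] (n : ℤ), Function.Bijective (conv L n) := fun L _ n => by
    refine ⟨fun a b hab => (CochainComplex.IsKInjective.Qh_map_bijective (q.obj E) (L⟦n⟧)).1 ?_, fun t => ?_⟩
    · simpa only [conv, cancel_epi, cancel_mono] using hab
    · obtain ⟨a, ha⟩ := (CochainComplex.IsKInjective.Qh_map_bijective (q.obj E) (L⟦n⟧)).2
        (c.hom.app E ≫ t ≫ (ε n).inv.app L ≫ c.inv.app (L⟦n⟧))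
      refine ⟨a, ?_⟩
      simp only [conv]
      rw [ha]
      simp
  have hconv : ∀ n (a : q.obj E ⟶ q.obj (J⟦n⟧)),
      conv J' n (a ≫ q.map (j⟦n⟧')) = conv J n a ≫ (DerivedCategory.Q.map j)⟦n⟧' := fun n a => by
    have h1 := c.hom.naturality (j⟦n⟧')
    have h2 := (ε n).hom.naturality j
    simp only [Functor.comp_map] at h1 h2
    simp only [conv, Functor.map_comp, Category.assoc]
    rw [← h2]
    erw [reassoc_of% h1]
  have hb : ∀ n : ℤ, Function.Bijective fun a : q.obj E ⟶ q.obj (J⟦n⟧) => a ≫ q.map (j⟦n⟧') := fun n => by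
    refine (Function.Bijective.of_comp_iff' (hcb J' n) _).1 ?_
    rw [show conv J' n ∘ (fun a => a ≫ q.map (j⟦n⟧')) = (fun a => a ≫ (DerivedCategory.Q.map j)⟦n⟧') ∘ conv J n from
      funext (hconv n)]
    exact (h n).comp (hcb J n)
  have key : ∀ {n : ℤ} (x : Cocycle E J n), CohomologyClass.toHom (CohomologyClass.mk (x.postcomp j)) =
      CohomologyClass.toHom (CohomologyClass.mk x) ≫ q.map (j⟦n⟧') := fun x => by
    rw [CohomologyClass.toHom_mk, CohomologyClass.toHom_mk, Cocycle.equivHomShift_symm_postcomp, Functor.map_comp]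
  refine RHomCx.quasiIso_of_elements _ (fun n (y : Cochain E J' n) (hy : δ n (n + 1) y = 0) => ?_)
    (fun n (x : Cochain E J n) (w : Cochain E J' (n - 1)) (hx : δ n (n + 1) x = 0)
      (he : x.comp (Cochain.ofHom j) (add_zero n) = δ (n - 1) n w) => ?_)
  · let yc : Cocycle E J' n := Cocycle.mk y (n + 1) rfl hy
    obtain ⟨a, ha⟩ := (hb n).2 (CohomologyClass.toHom (CohomologyClass.mk yc))
    obtain ⟨cl, hcl⟩ := (CohomologyClass.toHom_bijective E J n).2 a
    obtain ⟨x, rfl⟩ := CohomologyClass.mk_surjective cl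
    have h0 : CohomologyClass.toHom (CohomologyClass.mk (yc - x.postcomp j)) = 0 := by
      rw [CohomologyClass.mk_sub, map_sub, key, hcl]
      exact sub_eq_zero.2 ha.symm
    obtain ⟨w, hw⟩ := (mem_coboundaries_iff _ (n - 1) (sub_add_cancel n 1)).1
      ((CohomologyClass.toHom_mk_eq_zero_iff _).1 h0)
    refine ⟨x.1, w, x.δ_eq_zero (n + 1), ?_⟩
    change x.1.comp (Cochain.ofHom j) (add_zero n) + δ (n - 1) n w = y
    rw [hw]
    simp [yc]
  · let xc : Cocycle E J n := Cocycle.mk x (n + 1) rfl hx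
    have h0 : CohomologyClass.toHom (CohomologyClass.mk (xc.postcomp j)) = 0 :=
      (CohomologyClass.toHom_mk_eq_zero_iff _).2
        ((mem_coboundaries_iff _ (n - 1) (sub_add_cancel n 1)).2 ⟨w, he.symm⟩)
    rw [key] at h0
    have hx0 : CohomologyClass.toHom (CohomologyClass.mk xc) = 0 := (hb n).1 (h0.trans zero_comp.symm)
    obtain ⟨v, hv⟩ := (mem_coboundaries_iff _ (n - 1) (sub_add_cancel n 1)).1
      ((CohomologyClass.toHom_mk_eq_zero_iff _).1 hx0)
    exact ⟨v, hv⟩

end Groth.L10.CechTorsLocal
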