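import Groth.Agent.L04.Koszul.ExtCech
import Groth.Agent.L10.DRing.LocalAmp
import Groth.Agent.L10.KFlat.Res
import Groth.Agent.L10.DRing.KFlatLBC
import Mathlib.RingTheory.Flat.Stability
import Mathlib.RingTheory.Ideal.Operations

/-! The extended Čech complex of the ring: K-flat, torsion cohomology. -/

universe u

open CategoryTheory CategoryTheory.Limits MonoidalCategory CochainComplex DerCA
open scoped TensorProduct

attribute [local instance] HasDerivedCategory.standard

set_option backward.defeqAttrib.useBackward true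
set_option backward.isDefEq.respectTransparency false
set_option linter.style.haveILetI false

namespace Groth.L10.CechTorsion

open Groth.L04.Koszul Groth.L04.Koszul.ExtCech

variable {A : Type u} [CommRing A]

/-- the Čech cohomology is torsion for each element of the list -/
theorem exists_pow_smul (M : ModuleCat.{u} A) : ∀ (fs : List A) (g : A), g ∈ fs → ∀ (q : ℤ)
    (c : ((extCech M fs).homology q : Type u)), ∃ k : ℕ, g ^ k • c = 0
  | f :: fs, g, hg, q, c => by
    let φ := unitP M f fs
    have main : ∀ c : ((mappingCone φ).homology (q - 1) : Type u), ∃ k : ℕ, g ^ k • c = 0 := fun c => by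
      have ha : ∃ a : ℕ, g ^ a • deltaC φ (q - 1) q (sub_add_cancel q 1) c = 0 := by
        rcases List.mem_cons.1 hg with rfl | hg
        · obtain ⟨⟨_, k, rfl⟩, hk⟩ := (IsLocalizedModule.eq_zero_iff (Submonoid.powers g)
            (HomologicalComplex.homologyMap φ q).hom).1
            ((exact_deltaC_map φ (q - 1) q (sub_add_cancel q 1) _).2 ⟨c, rfl⟩)
          exact ⟨k, hk⟩
        · exact exists_pow_smul M fs g hg q _
      obtain ⟨a, ha⟩ := ha
      obtain ⟨l, hl⟩ := (exact_inr_deltaC φ (q - 1) q (sub_add_cancel q 1) (g ^ a • c)).1 (by rw [map_smul, ha])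
      obtain ⟨⟨k, s⟩, hk⟩ := IsLocalizedModule.surj (Submonoid.powers f)
        (HomologicalComplex.homologyMap φ (q - 1)).hom l
      change (s : A) • l = _ at hk
      have hb : ∃ b : ℕ, g ^ b • (HomologicalComplex.homologyMap (mappingCone.inr φ) (q - 1)).hom l = 0 := by
        rcases List.mem_cons.1 hg with rfl | hg
        · obtain ⟨_, b, rfl⟩ := s
          exact ⟨b, by rw [← map_smul]; exact (exact_map_inr φ (q - 1) _).2 ⟨k, hk.symm⟩⟩
        · obtain ⟨b, hb⟩ := exists_pow_smul M fs g hg (q - 1) k
          refine ⟨b, ?_⟩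
          rw [← map_smul, show g ^ b • l = 0 from
            ((Module.End.isUnit_iff _).1 (IsLocalizedModule.map_units (HomologicalComplex.homologyMap φ (q - 1)).hom s)).1
              (show (s : A) • g ^ b • l = (s : A) • (0 : ((locCx (Submonoid.powers f)).obj (extCech M fs)).homology (q - 1)) by
                rw [smul_comm, hk, ← map_smul, hb, map_zero, smul_zero]), map_zero]
      obtain ⟨b, hb⟩ := hb
      exact ⟨b + a, by rw [pow_add, mul_smul, ← hl]; exact hb⟩
    let e := (stepIso M f fs (q - 1) q (by ring)).toLinearEquiv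
    obtain ⟨k, hk⟩ := main (e c)
    exact ⟨k, e.injective ((map_smul e _ c).trans (hk.trans (map_zero e).symm))⟩

theorem exists_pow_smul_span (M : ModuleCat.{u} A) (fs : List A) {g : A}
    (hg : g ∈ Ideal.span {x : A | x ∈ fs}) (q : ℤ) (c : ((extCech M fs).homology q : Type u)) :
    ∃ k : ℕ, g ^ k • c = 0 := by
  let 𝔞 : Ideal A := LinearMap.ker (LinearMap.toSpanSingleton A _ c)
  have h : Ideal.span {x : A | x ∈ fs} ≤ 𝔞.radical := Ideal.span_le.2 fun x hx => exists_pow_smul M fs x hx q c
  exact h hg

theorem flat_locCx (S : Submonoid A) (K : DRing.Cx A) (n : ℤ) (h : Module.Flat A (K.X n)) :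
    Module.Flat A (((locCx S).obj K).X n) := by
  haveI := h
  haveI := IsLocalization.flat (Localization S) S
  exact (Module.Flat.of_linearEquiv ((LocalizedModule.equivTensorProduct S (K.X n)).restrictScalars A) :
    Module.Flat A (LocalizedModule S (K.X n)))

theorem termwiseFlat : ∀ fs : List A, DRing.TermwiseFlat (extCech (ModuleCat.of A A) fs)
  | [] => fun n => by
    by_cases hn : n = 0
    · subst hn
      exact Groth.L10.KFlat.flat_of_iso (HomologicalComplex.singleObjXSelf (ComplexShape.up ℤ) 0 _).symm
        (inferInstanceAs (Module.Flat A A))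
    · exact Groth.L10.KFlat.flat_zero (HomologicalComplex.isZero_single_obj_X _ _ _ _ hn)
  | f :: fs => fun n => Groth.L10.KFlat.flat_of_iso (mappingCoconeXIso (unitP _ f fs) n).symm
      (Groth.L10.KFlat.flat_biprod (termwiseFlat fs n) (flat_locCx _ _ _ (termwiseFlat fs (n - 1))))

theorem isZero_X (M : ModuleCat.{u} A) : ∀ (fs : List A) (n : ℤ), n < 0 ∨ (fs.length : ℤ) < n →
    IsZero ((extCech M fs).X n)
  | [], n, hn => HomologicalComplex.isZero_single_obj_X _ _ _ _ (by simp at hn; omega)
  | f :: fs, n, hn => by
    simp only [List.length_cons, Nat.cast_add, Nat.cast_one] at hn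
    refine (biprod_isZero_iff _ _ |>.2 ⟨isZero_X M fs n (by omega), ?_⟩).of_iso (mappingCoconeXIso (unitP M f fs) n)
    haveI := ModuleCat.subsingleton_of_isZero (isZero_X M fs (n - 1) (by omega))
    exact ModuleCat.isZero_of_subsingleton (ModuleCat.of A (LocalizedModule (Submonoid.powers f) ((extCech M fs).X (n - 1))))

theorem isKFlat (fs : List A) : DRing.IsKFlat A (extCech (ModuleCat.of A A) fs) :=
  Groth.L10.KFlat.of_bounded _ fs.length (fun n hn => isZero_X _ fs n (Or.inr hn)) (termwiseFlat fs)

/-- localising at an element of the ideal kills the Čech complex -/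
theorem isZero_away_tensor (fs : List A) {g : A} (hg : g ∈ Ideal.span {x : A | x ∈ fs}) (n : ℤ) :
    IsZero (((HomologicalComplex.single (ModuleCat.{u} A) (ComplexShape.up ℤ) 0).obj
      (ModuleCat.of A (Localization.Away g)) ⊗ extCech (ModuleCat.of A A) fs).homology n) := by
  haveI : Module.Flat A (ModuleCat.of A (Localization.Away g)) :=
    IsLocalization.flat (Localization.Away g) (Submonoid.powers g)
  refine IsZero.of_iso ?_ ((HomologicalComplex.homologyFunctor _ _ n).mapIso
    (KFlatLBC.singleTensorIso _ (ModuleCat.of A (Localization.Away g))).symm)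
  refine (LocalAmp.isZero_tensor_flat_iff _ _ n).2 (subsingleton_of_forall_eq 0 fun z => ?_)
  induction z using TensorProduct.induction_on with
  | zero => rfl
  | tmul c y =>
    obtain ⟨k, hk⟩ := exists_pow_smul_span _ fs hg n c
    obtain ⟨v, hv⟩ := (IsLocalization.map_units (Localization.Away g)
      (⟨g ^ k, k, rfl⟩ : Submonoid.powers g)).exists_right_inv
    have hy : (y : Localization.Away g) = g ^ k • (v * y) := by
      rw [Algebra.smul_def, ← mul_assoc, hv, one_mul]
    calc c ⊗ₜ[A] y = c ⊗ₜ[A] (g ^ k • (v * y : Localization.Away g)) := by rw [← hy]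
      _ = (g ^ k • c) ⊗ₜ[A] (v * y : Localization.Away g) := (TensorProduct.smul_tmul _ _ _).symm
      _ = 0 := by rw [hk, TensorProduct.zero_tmul]
  | add z z' e e' => rw [e, e', add_zero]

end Groth.L10.CechTorsion
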