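import Groth.Agent.L10.DRing.LocalAmp
import Groth.Agent.L10.RelPC.Tensor
import Groth.Prelude.Def_DDual2
import Mathlib.RingTheory.FiniteLength
import Mathlib.RingTheory.LocalRing.ResidueField.Basic

/-! `⊗^L` with a module computed by K-flat complexes; devissage along finite length modules. -/

universe u

open CategoryTheory CategoryTheory.Limits MonoidalCategory CategoryTheory.Pretriangulated

attribute [local instance] HasDerivedCategory.standard

set_option backward.defeqAttrib.useBackward true
set_option backward.isDefEq.respectTransparency false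
set_option linter.style.haveILetI false

namespace Groth.L10.LTensorKFlat

open Groth.L10.KFlat Groth.L10.DR

variable {A : Type u} [CommRing A] (M : ModuleCat.{u} A)

/-- tensoring complexes with `M`, localized -/
noncomputable abbrev Txq : DRing.Cx A ⥤ Dual.D A :=
  HomotopyCategory.quotient (ModuleCat.{u} A) (ComplexShape.up ℤ) ⋙ DRing.tensorKh A M

/-- comparison with the termwise functor -/
noncomputable def txqIso : Txq M ≅ tF M ⋙ DerivedCategory.Q :=
  (Functor.associator _ _ _).symm ≪≫
    Functor.isoWhiskerRight ((tensorRight M).mapHomotopyCategoryFactors (ComplexShape.up ℤ)) _ ≪≫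
    Functor.associator _ _ _ ≪≫ Functor.isoWhiskerLeft _ (DerivedCategory.quotientCompQhIso (ModuleCat.{u} A))

theorem isIso_txq_map {P Q : DRing.Cx A} (α : P ⟶ Q) [QuasiIso α]
    (hP : DRing.IsKFlat A P) (hQ : DRing.IsKFlat A Q) : IsIso ((Txq M).map α) := by
  haveI := KFlatLBC.quasiIso_tF α hP hQ M
  exact (NatIso.isIso_map_iff (txqIso M) α).2 (isIso_Q_map _ inferInstance)

theorem inverts : (HomologicalComplex.quasiIso (ModuleCat.{u} A) (ComplexShape.up ℤ)).IsInvertedBy
    (R A ⋙ Txq M) :=
  fun P Q α hα => by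
    haveI := (HomologicalComplex.mem_quasiIso_iff α).1 hα
    haveI := quasiIso_R_map α
    exact isIso_txq_map M _ (isKFlat_R P) (isKFlat_R Q)

theorem isIso_counit [DRing.HasLTensor A M] (P : DRing.Cx A) (hP : DRing.IsKFlat A P) :
    IsIso (((DRing.tensorKh A M).totalLeftDerivedCounit DerivedCategory.Qh
      (HomotopyCategory.quasiIso (ModuleCat.{u} A) (ComplexShape.up ℤ))).app
        ((HomotopyCategory.quotient _ _).obj P)) := by
  let W := HomologicalComplex.quasiIso (ModuleCat.{u} A) (ComplexShape.up ℤ)
  haveI := Groth.L00.LeftDeriv.isRightKanExtension (Txq M) W KFlatLBC.qQh (R A) (r A)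
    (fun K => (HomologicalComplex.mem_quasiIso_iff _).2 inferInstance) (inverts M)
    (fun K => isIso_txq_map M _ (isKFlat_R _) (isKFlat_R _))
  refine Groth.L00.LeftDeriv.isIso_totalCounit_of_quotient
    (HomotopyCategory.quotient (ModuleCat.{u} A) (ComplexShape.up ℤ))
    (fun Z => Z.as) (fun Z => rfl) (HomotopyCategory.quasiIso (ModuleCat.{u} A) (ComplexShape.up ℤ))
    DerivedCategory.Qh (DRing.tensorKh A M) (Groth.L00.LeftDeriv.LF (Txq M) W KFlatLBC.qQh (R A) (inverts M))
    (Groth.L00.LeftDeriv.α (Txq M) W KFlatLBC.qQh (R A) (r A) (inverts M)) P ?_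
  rw [Groth.L00.LeftDeriv.α_app]
  haveI : IsIso ((Txq M).map ((r A).app P)) := isIso_txq_map M _ (isKFlat_R P) hP
  infer_instance

/-- derived tensor of a K-flat complex with a module is termwise -/
noncomputable def compute [DRing.HasLTensor A M] (P : DRing.Cx A) (hP : DRing.IsKFlat A P) :
    (DRing.LTensor A M).obj (DRing.toD P) ≅ DRing.toD (DRing.tensorCx P M) :=
  haveI := isIso_counit M P hP
  (DRing.LTensor A M).mapIso ((DerivedCategory.quotientCompQhIso _).app P).symm ≪≫
    asIso (((DRing.tensorKh A M).totalLeftDerivedCounit DerivedCategory.Qh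
      (HomotopyCategory.quasiIso (ModuleCat.{u} A) (ComplexShape.up ℤ))).app
        ((HomotopyCategory.quotient _ _).obj P)) ≪≫
    (DerivedCategory.quotientCompQhIso _).app (DRing.tensorCx P M)

variable {M}

theorem isZero_of_iso {C : DRing.Cx A} {N N' : ModuleCat.{u} A} (e : N ≅ N') (i : ℤ)
    (h : IsZero ((DRing.tensorCx C N).homology i)) : IsZero ((DRing.tensorCx C N').homology i) :=
  h.of_iso ((HomologicalComplex.homologyFunctor _ _ i).mapIso
    (HomologicalComplex.Hom.isoOfComponents (fun j => whiskerLeftIso (C.X j) e)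
      (fun j k _ => (MonoidalCategory.whisker_exchange (C.d j k) e.hom))) ).symm

/-- vanishing on simple modules spreads to modules of finite length -/
theorem isZero_finiteLength {C : DRing.Cx A} (hC : DRing.TermwiseFlat C) (i : ℤ)
    (h : ∀ I : Ideal A, I.IsMaximal → IsZero ((DRing.tensorCx C (ModuleCat.of A (A ⧸ I))).homology i))
    {N : Type u} [AddCommGroup N] [Module A N] (hN : IsFiniteLength A N) :
    IsZero ((DRing.tensorCx C (ModuleCat.of A N)).homology i) := by
  induction hN with
  | @of_subsingleton M _ _ _ =>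
    have hM : IsZero (ModuleCat.of A M) := ModuleCat.isZero_of_subsingleton _
    exact AmpTest.isZero_homology_of_X ((tensorLeft (C.X i)).map_isZero hM)
  | @of_simple_quotient M _ _ N' hs _ ih =>
    obtain ⟨I, hI, ⟨e⟩⟩ := isSimpleModule_iff_quot_maximal.1 hs
    let S : ShortComplex (ModuleCat.{u} A) := ShortComplex.mk (ModuleCat.ofHom N'.subtype)
      (ModuleCat.ofHom N'.mkQ) (ModuleCat.hom_ext (LinearMap.ext fun x => (Submodule.Quotient.mk_eq_zero N').2 x.2))
    have hS : S.ShortExact :=
      { exact := (ShortComplex.ShortExact.moduleCat_exact_iff_function_exact _).2 (LinearMap.exact_subtype_mkQ N')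
        mono_f := ConcreteCategory.mono_of_injective _ Subtype.val_injective
        epi_g := ConcreteCategory.epi_of_surjective _ (Submodule.mkQ_surjective N') }
    obtain ⟨T, hT, e1, e2, e3⟩ := Groth.L10.RelPC.tensor_shortExact hC hS
    have hex := (Groth.L02.PC.HH i).map_distinguished_exact T hT
    refine (Groth.L02.PC.isZero_HH_Q_iff (DRing.tensorCx C (ModuleCat.of A M)) i).1 ?_
    have h1 : IsZero ((Groth.L02.PC.HH i).obj T.obj₁) := by
      rw [e1]; exact (Groth.L02.PC.isZero_HH_Q_iff _ i).2 ih
    have h3 : IsZero ((Groth.L02.PC.HH i).obj T.obj₃) := by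
      rw [e3]; exact (Groth.L02.PC.isZero_HH_Q_iff _ i).2 (isZero_of_iso e.symm.toModuleIso i (h I hI))
    have h2 := hex.isZero_X₂ (h1.eq_of_src _ _) (h3.eq_of_tgt _ _)
    rw [← show T.obj₂ = DRing.toD (DRing.tensorCx C (ModuleCat.of A M)) from e2]
    exact h2

theorem isZero_quotient_maximal {R : Type u} [CommRing R] [IsLocalRing R] (C : DRing.Cx R) (i : ℤ)
    (h : IsZero (((_root_.DTen.extCx (IsLocalRing.residue R)).obj C).homology i)) (I : Ideal R) (hI : I.IsMaximal) :
    IsZero ((DRing.tensorCx C (ModuleCat.of R (R ⧸ I))).homology i) := by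
  obtain rfl := IsLocalRing.eq_maximalIdeal hI
  refine isZero_of_iso ?_ i ((AmpTest.iso_homology (LocalAmp.resExtIso (IsLocalRing.residue R) C ≪≫
    LocalAmp.tensorResOne (IsLocalRing.residue R) C) i).1
      ((Groth.L00.KFlatAlg.acyclic_restrictScalars _ _ i).2 h))
  exact (LocalAmp.resOneEquiv (A := R) (B := IsLocalRing.ResidueField R)).symm.toModuleIso

end Groth.L10.LTensorKFlat
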