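import Groth.Agent.L10.DRing.KFlatLBC
import Groth.Agent.L10.DRing.BaseChange
import Groth.Agent.L10.DRing.Perfect
import Groth.Agent.L10.DRing.Modules
import Groth.Agent.L20.TorAmpWeaklyEtale
import Mathlib.RingTheory.Nilpotent.Lemmas
import Mathlib.RingTheory.Finiteness.Nakayama
import Mathlib.Algebra.Homology.DerivedCategory.ShortExact
import Mathlib.Algebra.Homology.HomologicalComplexAbelian
import Groth.Agent.L29.Dual.FlatBC

/-! Tor amplitude, pseudo-coherence and perfectness modulo a nilpotent ideal. -/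

universe u

open CategoryTheory CategoryTheory.Limits CategoryTheory.Pretriangulated MonoidalCategory CochainComplex TensorProduct

attribute [local instance] HasDerivedCategory.standard

set_option backward.defeqAttrib.useBackward true
set_option backward.isDefEq.respectTransparency false
namespace Groth.L10.NilpotentThick

open Groth.L02.PC Groth.L10.DR Groth.L10.KFlatLBC

section Aux

variable {A : Type u} [CommRing A]

/-- tensoring a short exact sequence with a complex of flat modules -/
theorem tensor_shortExact {C : DRing.Cx A} (hC : DRing.TermwiseFlat C) {S : ShortComplex (ModuleCat.{u} A)}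
    (hS : S.ShortExact) :
    ∃ (T' : Triangle (Dual.D A)), T' ∈ distinguishedTriangles ∧ T'.obj₁ = DRing.toD (DRing.tensorCx C S.X₁) ∧
      T'.obj₂ = DRing.toD (DRing.tensorCx C S.X₂) ∧ T'.obj₃ = DRing.toD (DRing.tensorCx C S.X₃) := by
  let μ : ∀ {M N : ModuleCat.{u} A}, (M ⟶ N) → (DRing.tensorCx C M ⟶ DRing.tensorCx C N) := fun {M N} f =>
    { f := fun i => C.X i ◁ f
      comm' := fun i j _ => (MonoidalCategory.whisker_exchange (C.d i j) f) }
  let S' : ShortComplex (DRing.Cx A) := ShortComplex.mk (μ S.f) (μ S.g) (by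
    ext i : 1
    show C.X i ◁ S.f ≫ C.X i ◁ S.g = 0
    rw [← MonoidalCategory.whiskerLeft_comp, S.zero]
    exact ModuleCat.hom_ext (TensorProduct.ext' fun x y => TensorProduct.tmul_zero _ x))
  have hS' : S'.ShortExact := HomologicalComplex.shortExact_of_degreewise_shortExact _ fun i => by
    haveI := hC i
    have hfg := (ShortComplex.ShortExact.moduleCat_exact_iff_function_exact _).1 hS.exact
    exact
      { exact := (ShortComplex.ShortExact.moduleCat_exact_iff_function_exact _).2
          (lTensor_exact (C.X i) hfg hS.moduleCat_surjective_g)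
        mono_f := ConcreteCategory.mono_of_injective _
          (Module.Flat.lTensor_preserves_injective_linearMap _ hS.moduleCat_injective_f)
        epi_g := ConcreteCategory.epi_of_surjective _
          (LinearMap.lTensor_surjective _ hS.moduleCat_surjective_g) }
  exact ⟨DerivedCategory.triangleOfSES hS', DerivedCategory.triangleOfSES_distinguished hS', rfl, rfl, rfl⟩

/-- the top homology of a complex vanishing above -/
theorem top_homology (P : DRing.Cx A) (n : ℤ) (hP : DRing.VanishesAbove P n) :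
    Nonempty (P.homology n ≃ₗ[A] P.X n ⧸ LinearMap.range (P.d (n - 1) n).hom) := by
  haveI := HomologicalComplex.isIso_homologyι P n (n + 1) (by simp)
    ((hP (n + 1) (by omega)).eq_of_tgt _ _)
  exact ⟨(asIso (P.homologyι n)).toLinearEquiv.trans (Groth.L20.TorAmp.opcyclesEquiv P (n - 1) n (by omega))⟩

end Aux

variable {A B : Type u} [CommRing A] [CommRing B] (φ : A →+* B)

/-- `(M ⊗_A B) ⊗_B N` and `M ⊗_A N` -/
noncomputable def bcTenIso (N : ModuleCat.{u} B) :
    tensorRight ((ModuleCat.restrictScalars.{u} φ).obj N) ≅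
      ModuleCat.extendScalars.{u, u, u} φ ⋙ tensorRight N ⋙ ModuleCat.restrictScalars.{u} φ :=
  letI : Algebra A B := φ.toAlgebra
  letI : Module A N := Module.compHom N φ
  haveI : IsScalarTower A B N := IsScalarTower.of_algebraMap_smul fun _ _ => rfl
  NatIso.ofComponents
    (fun M => LinearEquiv.toModuleIso
      (X₂ := (ModuleCat.restrictScalars.{u} φ).obj ((ModuleCat.extendScalars.{u, u, u} φ).obj M ⊗ N))
      ((TensorProduct.comm A M N).trans
        { ((TensorProduct.AlgebraTensorModule.cancelBaseChange A B B N M).symm.toAddEquiv.trans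
            ((TensorProduct.comm B N (B ⊗[A] M)).toAddEquiv.trans
              (TensorProduct.congr (Groth.L29.FlatBC.extEquiv A B M).symm (LinearEquiv.refl B N)).toAddEquiv)) with
          map_smul' := fun a x => by
            show (TensorProduct.congr (Groth.L29.FlatBC.extEquiv A B M).symm (LinearEquiv.refl B N))
                (TensorProduct.comm B N (B ⊗[A] M)
                  ((TensorProduct.AlgebraTensorModule.cancelBaseChange A B B N M).symm (a • x))) =
              φ a • (TensorProduct.congr (Groth.L29.FlatBC.extEquiv A B M).symm (LinearEquiv.refl B N))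
                (TensorProduct.comm B N (B ⊗[A] M)
                  ((TensorProduct.AlgebraTensorModule.cancelBaseChange A B B N M).symm x))
            rw [← IsScalarTower.algebraMap_smul B a x, map_smul, map_smul, map_smul]
            rfl }))
    fun {M M'} f => by
      refine ModuleCat.hom_ext (TensorProduct.ext' fun m n => ?_)
      rfl

theorem isZero_tensor_bc_iff (Q : DRing.Cx A) (N : ModuleCat.{u} B) (j : ℤ) :
    IsZero ((DRing.tensorCx ((bcCx φ).obj Q) N).homology j) ↔
      IsZero ((DRing.tensorCx Q ((ModuleCat.restrictScalars.{u} φ).obj N)).homology j) := by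
  rw [isZero_homology_iff_exact _ (j - 1) j (j + 1) (by omega) rfl,
    isZero_homology_iff_exact _ (j - 1) j (j + 1) (by omega) rfl]
  let e : ∀ i, (DRing.tensorCx Q ((ModuleCat.restrictScalars.{u} φ).obj N)).X i ≃+
      (DRing.tensorCx ((bcCx φ).obj Q) N).X i := fun i =>
    ((bcTenIso φ N).app (Q.X i)).toLinearEquiv.toAddEquiv
  have he : ∀ i k x, (DRing.tensorCx ((bcCx φ).obj Q) N).d i k (e i x) =
      e k ((DRing.tensorCx Q ((ModuleCat.restrictScalars.{u} φ).obj N)).d i k x) := fun i k x =>
    (LinearMap.congr_fun (congrArg ModuleCat.Hom.hom ((bcTenIso φ N).hom.naturality (Q.d i k))) x).symm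
  exact (Function.Exact.iff_of_ladder_addEquiv (e (j - 1)) (e j) (e (j + 1))
    (f₁₂ := ((DRing.tensorCx Q ((ModuleCat.restrictScalars.{u} φ).obj N)).d (j - 1) j).hom.toAddMonoidHom)
    (f₂₃ := ((DRing.tensorCx Q ((ModuleCat.restrictScalars.{u} φ).obj N)).d j (j + 1)).hom.toAddMonoidHom)
    (g₁₂ := ((DRing.tensorCx ((bcCx φ).obj Q) N).d (j - 1) j).hom.toAddMonoidHom)
    (g₂₃ := ((DRing.tensorCx ((bcCx φ).obj Q) N).d j (j + 1)).hom.toAddMonoidHom)
    (AddMonoidHom.ext (he _ _)) (AddMonoidHom.ext (he _ _))).symm.symm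

section One

variable {φ} (hφ : Function.Surjective φ)
include hφ

/-- vanishing against modules killed by the kernel -/
theorem isZero_tensor_of_killed {Q : DRing.Cx A} (j : ℤ)
    (h : ∀ N : ModuleCat.{u} B, IsZero ((DRing.tensorCx ((bcCx φ).obj Q) N).homology j))
    (M : ModuleCat.{u} A) (hM : ∀ a ∈ RingHom.ker φ, ∀ x : M, a • x = 0) :
    IsZero ((DRing.tensorCx Q M).homology j) := by
  letI : Algebra A B := φ.toAlgebra
  let ε : (A ⧸ RingHom.ker φ) ≃+* B := RingHom.quotientKerEquivOfSurjective hφ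
  haveI : Module.IsTorsionBySet A (M) (RingHom.ker φ) := fun x a => hM a.1 a.2 x
  letI : Module (A ⧸ RingHom.ker φ) (M) := Module.IsTorsionBySet.module ‹_›
  letI : Module B (M) := Module.compHom _ (ε.symm : B →+* A ⧸ RingHom.ker φ)
  have hsm : ∀ (a : A) (x : M), φ a • x = a • x := fun a x => by
    show ε.symm (φ a) • x = a • x
    rw [show φ a = ε (Ideal.Quotient.mk (RingHom.ker φ) a) from rfl, RingEquiv.symm_apply_apply]
    rfl
  let eN : (ModuleCat.restrictScalars.{u} φ).obj (ModuleCat.of B (M)) ≅ ModuleCat.of A (M) :=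
    LinearEquiv.toModuleIso (X₁ := (ModuleCat.restrictScalars.{u} φ).obj (ModuleCat.of B (M)))
      { AddEquiv.refl (M) with map_smul' := fun a x => hsm a x }
  exact ((isZero_tensor_bc_iff φ Q _ j).1 (h _)).of_iso ((HomologicalComplex.homologyFunctor _ _ j).mapIso
    ((NatIso.mapHomologicalComplex ((curriedTensor (ModuleCat.{u} A)).flip.mapIso eN.symm)
      (ComplexShape.up ℤ)).app Q))

/-- generators modulo the kernel -/
theorem exists_gen (M : ModuleCat.{u} A) [hM : Module.Finite B ((ModuleCat.extendScalars.{u, u, u} φ).obj M)] :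
    ∃ t : Finset M, (⊤ : Submodule A M) ≤ Submodule.span A (t : Set M) ⊔ RingHom.ker φ • ⊤ := by
  letI : Algebra A B := φ.toAlgebra
  haveI : Module.Finite B (B ⊗[A] M) := Module.Finite.equiv (Groth.L29.FlatBC.extEquiv A B M)
  haveI : Module.Finite A B := Module.Finite.of_surjective (Algebra.linearMap A B) hφ
  haveI : Module.Finite A (B ⊗[A] M) := Module.Finite.trans B _
  let f : M →ₗ[A] B ⊗[A] M := TensorProduct.mk A B M 1
  have hf : Function.Surjective f := fun z => by
    induction z using TensorProduct.induction_on with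
    | zero => exact ⟨0, map_zero _⟩
    | add x y hx hy => obtain ⟨x, rfl⟩ := hx; obtain ⟨y, rfl⟩ := hy; exact ⟨x + y, map_add _ _ _⟩
    | tmul b m =>
      obtain ⟨a, rfl⟩ := hφ b
      exact ⟨a • m, (TensorProduct.tmul_smul a (1 : B) m).trans
        (by rw [TensorProduct.smul_tmul', Algebra.smul_def, mul_one]; rfl)⟩
  obtain ⟨s, hs⟩ := Module.Finite.fg_top (R := A) (M := B ⊗[A] M)
  choose g hg using hf
  classical
  refine ⟨s.image g, fun x _ => ?_⟩
  have hker : ∀ x : M, f x = 0 → x ∈ RingHom.ker φ • (⊤ : Submodule A M) := fun x hx => by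
    let l : B ⊗[A] M →ₗ[A] M ⧸ (RingHom.ker φ • (⊤ : Submodule A M)) :=
      ((TensorProduct.quotTensorEquivQuotSMul M (RingHom.ker φ)).toLinearMap).comp
        (LinearMap.rTensor M
          ({ (RingHom.quotientKerEquivOfSurjective hφ).symm.toAddEquiv with
              map_smul' := fun a b => by
                obtain ⟨y, rfl⟩ := hφ b
                show (RingHom.quotientKerEquivOfSurjective hφ).symm (φ a * φ y) =
                  a • (RingHom.quotientKerEquivOfSurjective hφ).symm (φ y)
                rw [← map_mul, show φ (a * y) = RingHom.quotientKerEquivOfSurjective hφ (Ideal.Quotient.mk _ (a * y))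
                  from rfl, RingEquiv.symm_apply_apply,
                  show φ y = RingHom.quotientKerEquivOfSurjective hφ (Ideal.Quotient.mk _ y) from rfl,
                  RingEquiv.symm_apply_apply, map_mul]
                rfl } : B ≃ₗ[A] A ⧸ RingHom.ker φ).toLinearMap)
    rw [← Submodule.Quotient.mk_eq_zero]
    have := congrArg l hx
    rw [map_zero] at this
    rw [← this]
    have h1 : (1 : B) = RingHom.quotientKerEquivOfSurjective hφ 1 := (map_one _).symm
    show _ = l (1 ⊗ₜ x)
    simp [l]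
  obtain ⟨y, hy, hyx⟩ : ∃ y ∈ Submodule.span A (s.image g : Set M), f y = f x := by
    have hm : f x ∈ Submodule.map f (Submodule.span A (s.image g : Set M)) := by
      rw [Submodule.map_span, Finset.coe_image, ← Set.image_comp,
        show f ∘ g = id from funext hg, Set.image_id, hs]
      trivial
    exact hm
  rw [← add_sub_cancel y x]
  exact Submodule.add_mem_sup hy (hker _ (by rw [map_sub, hyx, sub_self]))

end One

/-- bounded derived base change gives vanishing -/
theorem vanish_of_leh [DRing.HasLBaseChange φ] {Q : DRing.Cx A} (hQ : DRing.IsKFlat A Q) {b : ℤ}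
    (h : LEH ((DRing.LBaseChange φ).obj (DRing.toD Q)) b) (j : ℤ) (hj : b < j) (N : ModuleCat.{u} B) :
    IsZero ((DRing.tensorCx ((bcCx φ).obj Q) N).homology j) := by
  obtain ⟨E, hEb, hEf, -, ⟨eE⟩⟩ := exists_free_rep h
  exact (tensor_congr (Groth.L10.DTen.isKFlat_ext φ hQ)
      (Groth.L10.KFlat.of_bounded E b hEb (flat_of_free hEf)) ((lbcKF φ Q hQ).symm ≪≫ eE.symm) N j).2
    ((HomologicalComplex.exactAt_iff_isZero_homology _ j).1
      (HomologicalComplex.ExactAt.of_isZero ((tensorRight N).map_isZero (hEb j hj))))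

/-- tor amplitude of the derived base change gives vanishing -/
theorem vanish_of_amp [DRing.HasLBaseChange φ] {Q : DRing.Cx A} (hQ : DRing.IsKFlat A Q) {a b : ℤ}
    (h : DRing.HasTorAmplitudeIn B a b ((DRing.LBaseChange φ).obj (DRing.toD Q))) (j : ℤ) (hj : j < a ∨ b < j)
    (N : ModuleCat.{u} B) : IsZero ((DRing.tensorCx ((bcCx φ).obj Q) N).homology j) := by
  obtain ⟨E, hEv, hEf, ⟨eE⟩⟩ := h
  exact (tensor_congr (Groth.L10.DTen.isKFlat_ext φ hQ)
      (Groth.L10.KFlat.of_bounded E b (fun i hi => hEv i (Or.inr hi)) hEf) ((lbcKF φ Q hQ).symm ≪≫ eE.symm) N j).2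
    ((HomologicalComplex.exactAt_iff_isZero_homology _ j).1
      (HomologicalComplex.ExactAt.of_isZero ((tensorRight N).map_isZero (hEv j hj))))

/-- the base change of the cokernel at the top is finite when the base change is pseudo-coherent -/
theorem finite_top [DRing.HasLBaseChange φ] {P₀ : DRing.Cx A} {n : ℤ} (hP₀b : DRing.VanishesAbove P₀ n)
    (hpcC : DRing.IsPseudoCoherent B n (DRing.toD ((bcCx φ).obj P₀))) :
    Module.Finite B ((ModuleCat.extendScalars.{u, u, u} φ).obj
      (ModuleCat.of A (P₀.X n ⧸ LinearMap.range (P₀.d (n - 1) n).hom))) := by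
  let M := ModuleCat.of A (P₀.X n ⧸ LinearMap.range (P₀.d (n - 1) n).hom)
  have hz : LEH (DRing.toD ((bcCx φ).obj P₀)) n := fun i hi => (isZero_HH_Q_iff _ i).2
    ((HomologicalComplex.exactAt_iff_isZero_homology _ i).1 (HomologicalComplex.ExactAt.of_isZero
      ((ModuleCat.extendScalars.{u, u, u} φ).map_isZero (hP₀b i hi))))
  obtain ⟨e1⟩ := top_homology ((bcCx φ).obj P₀) n
    (fun i hi => (ModuleCat.extendScalars.{u, u, u} φ).map_isZero (hP₀b i hi))
  haveI : Module.Finite B ((DerivedCategory.Q ⋙ DerivedCategory.homologyFunctor (ModuleCat.{u} B) n).obj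
      ((bcCx φ).obj P₀)) := pc_finite hpcC hz
  haveI : Module.Finite B
      ((((bcCx φ).obj P₀)).X n ⧸ LinearMap.range (((bcCx φ).obj P₀).d (n - 1) n).hom) :=
    Module.Finite.equiv (((DerivedCategory.homologyFunctorFactors _ n).app _).toLinearEquiv.trans e1)
  let q := (((bcCx φ).obj P₀).d (n - 1) n).hom
  let p := ((ModuleCat.extendScalars.{u, u, u} φ).map
    (ModuleCat.ofHom (LinearMap.range (P₀.d (n - 1) n).hom).mkQ : P₀.X n ⟶ M)).hom
  have hle : LinearMap.range q ≤ LinearMap.ker p := by
    rintro _ ⟨x, rfl⟩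
    have h0 : P₀.d (n - 1) n ≫ (ModuleCat.ofHom (LinearMap.range (P₀.d (n - 1) n).hom).mkQ : P₀.X n ⟶ M) = 0 :=
      ModuleCat.hom_ext (LinearMap.ext fun y => (Submodule.Quotient.mk_eq_zero _).2 ⟨y, rfl⟩)
    have h1 := congrArg (fun t => (ModuleCat.extendScalars.{u, u, u} φ).map t) h0
    simp only [Functor.map_comp, Functor.map_zero] at h1
    exact LinearMap.congr_fun (congrArg ModuleCat.Hom.hom h1) x
  refine Module.Finite.of_surjective (Submodule.liftQ _ p hle) ?_
  intro z
  letI : Algebra A B := φ.toAlgebra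
  obtain ⟨w, hw⟩ := LinearMap.lTensor_surjective _ (Submodule.mkQ_surjective
    (LinearMap.range (P₀.d (n - 1) n).hom)) z
  exact ⟨Submodule.Quotient.mk w, hw⟩

section Family

variable {ι : Type*} {C : ι → Type u} [∀ i, CommRing (C i)] (ψ : ∀ i, A →+* C i)
  (hψ : ∀ i, Function.Surjective (ψ i)) (hprod : ∃ l : List ι, (l.map fun i => RingHom.ker (ψ i)).prod = ⊥)
include hψ hprod

/-- vanishing against all modules -/
theorem isZero_tensor_of_bc {Q : DRing.Cx A} (hQ : DRing.TermwiseFlat Q) (j : ℤ)
    (h : ∀ i, ∀ N : ModuleCat.{u} (C i), IsZero ((DRing.tensorCx ((bcCx (ψ i)).obj Q) N).homology j))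
    (M : ModuleCat.{u} A) : IsZero ((DRing.tensorCx Q M).homology j) := by
  obtain ⟨l₀, hl₀⟩ := hprod
  suffices ∀ (l : List ι) (M : ModuleCat.{u} A),
      (∀ a ∈ (l.map fun i => RingHom.ker (ψ i)).prod, ∀ x : M, a • x = 0) →
      IsZero ((DRing.tensorCx Q M).homology j) from
    this l₀ M (fun a ha x => by
      rw [hl₀] at ha
      rw [show a = 0 from ha, zero_smul])
  intro l
  induction l with
  | nil =>
    intro M hM
    haveI : Subsingleton M := subsingleton_of_forall_eq 0 fun x => by
      simpa using hM 1 (by rw [List.map_nil, List.prod_nil, Ideal.one_eq_top]; trivial) x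
    exact (HomologicalComplex.exactAt_iff_isZero_homology _ j).1
      (HomologicalComplex.ExactAt.of_isZero ((tensorLeft (Q.X j)).map_isZero (ModuleCat.isZero_of_subsingleton M)))
  | cons i l ih =>
    intro M hM
    let M₁ : Submodule A M := RingHom.ker (ψ i) • (⊤ : Submodule A M)
    have h1 : IsZero ((DRing.tensorCx Q (ModuleCat.of A M₁)).homology j) := ih _ fun a ha x => by
      apply Subtype.ext
      show a • (x : M) = 0
      have hx : (x : M) ∈ RingHom.ker (ψ i) • (⊤ : Submodule A M) := x.2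
      refine Submodule.smul_induction_on (p := fun z => a • z = 0) hx (fun r hr y _ => ?_)
        (fun y z hy hz => by rw [smul_add, hy, hz, add_zero])
      rw [← mul_smul, mul_comm]
      exact hM _ (by rw [List.map_cons, List.prod_cons]; exact Ideal.mul_mem_mul hr ha) y
    have h3 : IsZero ((DRing.tensorCx Q (ModuleCat.of A (M ⧸ M₁))).homology j) :=
      isZero_tensor_of_killed (hψ i) j (h i) _ fun a ha x => by
        obtain ⟨y, rfl⟩ := Submodule.Quotient.mk_surjective _ x
        exact (Submodule.Quotient.mk_eq_zero _).2 (Submodule.smul_mem_smul ha trivial)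
    let S : ShortComplex (ModuleCat.{u} A) := ShortComplex.mk (ModuleCat.ofHom M₁.subtype)
      (ModuleCat.ofHom M₁.mkQ) (ModuleCat.hom_ext (LinearMap.ext fun x => (Submodule.Quotient.mk_eq_zero _).2 x.2))
    have hS : S.ShortExact :=
      { exact := (ShortComplex.ShortExact.moduleCat_exact_iff_function_exact _).2 (LinearMap.exact_subtype_mkQ _)
        mono_f := ConcreteCategory.mono_of_injective _ Subtype.val_injective
        epi_g := ConcreteCategory.epi_of_surjective _ (Submodule.mkQ_surjective _) }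
    obtain ⟨T', hT', e1, e2, e3⟩ := tensor_shortExact hQ hS
    have := (DerivedCategory.HomologySequence.exact₂ T' hT' j).isZero_X₂
      ((show IsZero ((HH j).obj T'.obj₁) from e1 ▸ (isZero_HH_Q_iff _ j).2 h1).eq_of_src _ _)
      ((show IsZero ((HH j).obj T'.obj₃) from e3 ▸ (isZero_HH_Q_iff _ j).2 h3).eq_of_tgt _ _)
    exact (isZero_HH_Q_iff _ j).1 (e2 ▸ (show IsZero ((HH j).obj T'.obj₂) from this))

theorem leh_of_family [∀ i, DRing.HasLBaseChange (ψ i)] (K : Dual.D A) (b : ℤ)
    (h : ∀ i, LEH ((DRing.LBaseChange (ψ i)).obj K) b) : LEH K b := by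
  obtain ⟨Q, hQ, hQf, ⟨e⟩⟩ := exists_rep_flat K
  exact fun i hi => (HH_iso_zero e i).2 (by
    rw [isZero_homology_iff_exact Q (i - 1) i (i + 1) (by omega) rfl]
    refine Groth.L00.TorAmp.exact_of_rTensor_self _ _
      ((tensor_exact_iff Q (ModuleCat.of A A) (i - 1) i (i + 1) (by omega) rfl).1 ?_)
    exact isZero_tensor_of_bc ψ hψ hprod hQf i (fun t N => vanish_of_leh (ψ t) hQ
      (fun k hk => (h t k hk).of_iso ((HH k).mapIso ((DRing.LBaseChange (ψ t)).mapIso e))) i hi N) _)

theorem amp_of_family [∀ i, DRing.HasLBaseChange (ψ i)] (K : Dual.D A) (a b : ℤ)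
    (h : ∀ i, DRing.HasTorAmplitudeIn (C i) a b ((DRing.LBaseChange (ψ i)).obj K)) :
    DRing.HasTorAmplitudeIn A a b K := by
  obtain ⟨Q, hQ, hQf, ⟨e⟩⟩ := exists_rep_flat K
  have hout : ∀ j, (j < a ∨ b < j) → ∀ M : ModuleCat.{u} A, IsZero ((DRing.tensorCx Q M).homology j) :=
    fun j hj M => isZero_tensor_of_bc ψ hψ hprod hQf j (fun t N => vanish_of_amp (ψ t) hQ (by
      obtain ⟨E, h1, h2, ⟨e'⟩⟩ := h t
      exact ⟨E, h1, h2, ⟨e' ≪≫ ((DRing.LBaseChange (ψ t)).mapIso e).symm⟩⟩) j hj N) M
  have hb : LEH K b := fun i hi => (HH_iso_zero e i).2 (by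
    rw [isZero_homology_iff_exact Q (i - 1) i (i + 1) (by omega) rfl]
    exact Groth.L00.TorAmp.exact_of_rTensor_self _ _
      ((tensor_exact_iff Q (ModuleCat.of A A) (i - 1) i (i + 1) (by omega) rfl).1 (hout i (Or.inr hi) _)))
  obtain ⟨P, hPb, hPf, -, ⟨eP⟩⟩ := exists_free_rep hb
  have hPk : DRing.IsKFlat A P := Groth.L10.KFlat.of_bounded P b hPb (flat_of_free hPf)
  exact (amp_iff eP hPb (flat_of_free hPf) a b).2
    ⟨fun i hi N => (tensor_congr hPk hQ (eP ≪≫ e.symm) N i).2 (hout i (Or.inl hi) N), hb⟩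

/-- finiteness from finiteness modulo each kernel -/
theorem finite_of_family [Finite ι] (M : ModuleCat.{u} A)
    (hM : ∀ i, Module.Finite (C i) ((ModuleCat.extendScalars.{u, u, u} (ψ i)).obj M)) : Module.Finite A M := by
  classical
  cases nonempty_fintype ι
  choose t ht using fun i => haveI := hM i; exists_gen (hψ i) M
  let N : Submodule A M := Submodule.span A ((Finset.univ.biUnion t : Finset M) : Set M)
  have hN : ∀ i, (⊤ : Submodule A M) ≤ N ⊔ RingHom.ker (ψ i) • ⊤ := fun i =>
    (ht i).trans (sup_le_sup_right (Submodule.span_mono (Finset.coe_subset.2 fun x hx =>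
      Finset.mem_biUnion.2 ⟨i, Finset.mem_univ _, hx⟩)) _)
  have key : ∀ l : List ι, (⊤ : Submodule A M) ≤ N ⊔ (l.map fun i => RingHom.ker (ψ i)).prod • ⊤ := by
    intro l
    induction l with
    | nil => simp
    | cons i l ih =>
      rw [List.map_cons, List.prod_cons, Submodule.mul_smul]
      refine (hN i).trans (sup_le le_sup_left ((Submodule.smul_mono le_rfl ih).trans ?_))
      rw [Submodule.smul_sup]
      exact sup_le (Submodule.smul_le_right.trans le_sup_left) le_sup_right
  obtain ⟨l₀, hl₀⟩ := hprod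
  exact ⟨⟨_, top_le_iff.1 (show ⊤ ≤ N by simpa [hl₀] using key l₀)⟩⟩

theorem pc_of_family [Finite ι] [∀ i, DRing.HasLBaseChange (ψ i)] (K : Dual.D A)
    (h : ∀ i, DRing.IsPseudoCoherent' (C i) ((DRing.LBaseChange (ψ i)).obj K)) :
    DRing.IsPseudoCoherent' A K := by
  choose bs hbs using fun i => exists_LEH (pc_of_pc' (h i) 0)
  obtain ⟨b, hb⟩ := Finite.exists_le bs
  have hK := leh_of_family ψ hψ hprod K b fun i k hk => hbs i k (by have := hb i; omega)
  obtain ⟨P, hPb, hPf, hPk, ⟨e⟩⟩ := exists_free_rep hK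
  haveI := hPk
  have hbcP : ∀ t m, DRing.IsPseudoCoherent (C t) m (DRing.toD ((bcCx (ψ t)).obj P)) := fun t m =>
    pc_of_iso ((DRing.LBaseChange (ψ t)).mapIso e.symm ≪≫ lbcIso (ψ t) P) (pc_of_pc' (h t) m)
  refine pc'_of_forall fun m => pc_of_iso e ?_
  suffices ∀ (k : ℕ), DRing.IsPseudoCoherent A (b + 1 - k) (DRing.toD P) from
    pc_mono (show b + 1 - ((b + 1 - m).toNat : ℤ) ≤ m by omega) (this _)
  intro k
  induction k with
  | zero =>
    simpa using pc_of_LEH (K := DRing.toD P) (n := b) fun i hi => (HH i).mapIso e |>.isZero_iff.2 (hK i hi)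
  | succ k ih =>
    obtain ⟨E, a', b', α, v, fE, happ⟩ := (pc_iff _ _).1 ih
    have := isKProjective_bounded v fE
    obtain ⟨g, rfl⟩ := exists_chainMap α
    rw [isApprox_Q_map_iff] at happ
    generalize hn : b + 1 - ((k + 1 : ℕ) : ℤ) = n
    have hex : ∀ i, n < i → IsZero ((mappingCone g).homology i) := fun i hi => happ i (by omega)
    have hEfl : DRing.TermwiseFlat E := flat_of_free fun i => (fE i).2
    have hEb : DRing.VanishesAbove E b' := fun i hi => v i (Or.inr hi)
    have hCk : DRing.IsKFlat A (mappingCone g) :=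
      Groth.L10.KFlat.cone g (Groth.L10.KFlat.of_bounded E b' hEb hEfl)
        (Groth.L10.KFlat.of_bounded P b hPb (flat_of_free hPf))
    obtain ⟨P₀, hP₀b, hP₀f, -, ⟨e₀⟩⟩ := exists_free_rep (K := DRing.toD (mappingCone g)) (n := n)
      fun i hi => (isZero_HH_Q_iff _ i).2 (hex i hi)
    have hP₀k : DRing.IsKFlat A P₀ := Groth.L10.KFlat.of_bounded P₀ n hP₀b (flat_of_free hP₀f)
    have hpcC : ∀ t, DRing.IsPseudoCoherent (C t) n (DRing.toD ((bcCx (ψ t)).obj P₀)) := fun t => by
      refine pc_of_iso ((lbcKF (ψ t) _ hP₀k).symm ≪≫ (DRing.LBaseChange (ψ t)).mapIso e₀ ≪≫ lbcKF (ψ t) _ hCk ≪≫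
        DerivedCategory.Q.mapIso (mappingCone.mapHomologicalComplexIso g (ModuleCat.extendScalars.{u, u, u} (ψ t)))).symm ?_
      exact pc_third _ (mappingCone_distinguished _) n
        (pc_of_bounded_free (bcCx_bounded (ψ t) v fE).1 (bcCx_bounded (ψ t) v fE).2 (n + 1)) (hbcP t n)
    have hfin : Module.Finite A ((mappingCone g).homology n) := by
      haveI := finite_of_family ψ hψ hprod (ModuleCat.of A (P₀.X n ⧸ LinearMap.range (P₀.d (n - 1) n).hom))
        fun t => finite_top (ψ t) hP₀b (hpcC t)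
      obtain ⟨e1⟩ := top_homology P₀ n hP₀b
      exact Module.Finite.equiv (e1.symm.trans
        (((DerivedCategory.homologyFunctorFactors _ n).app P₀).symm ≪≫ (HH n).mapIso e₀ ≪≫
          (DerivedCategory.homologyFunctorFactors _ n).app (mappingCone g)).toLinearEquiv)
    haveI := hfin
    exact pc_second _ (mappingCone_distinguished g) n (pc_of_bounded_free v fE n)
      (pc_of_finite (mappingCone g) n hex)

theorem perfect_of_family [Finite ι] [∀ i, DRing.HasLBaseChange (ψ i)] (K : Dual.D A)
    (h : ∀ i, DRing.IsPerfect (C i) ((DRing.LBaseChange (ψ i)).obj K)) : DRing.IsPerfect A K := by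
  choose as bs hamp using fun i => amp_of_perfect (h i)
  obtain ⟨b, hb⟩ := Finite.exists_le bs
  obtain ⟨a, ha⟩ := Finite.exists_le fun i => -as i
  refine perfect_of_pc'_amp
    (pc_of_family ψ hψ hprod K fun i => Groth.L29.PerfPC.isPseudoCoherent'_of_isPerfect (h i))
    (amp_of_family ψ hψ hprod K (-a) b fun i => ?_)
  obtain ⟨E, h1, h2, h3⟩ := hamp i
  exact ⟨E, fun j hj => h1 j (by have := ha i; have := hb i; omega), h2, h3⟩

end Family

section Nilpotent

variable {φ} (hφ : Function.Surjective φ) (hnil : IsNilpotent (RingHom.ker φ))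
include hφ hnil

theorem exists_prod : ∃ l : List PUnit.{1}, (l.map fun _ => RingHom.ker φ).prod = ⊥ := by
  obtain ⟨c, hc⟩ := hnil
  exact ⟨List.replicate c PUnit.unit, by simpa using hc⟩

theorem amp_of_lBaseChange [DRing.HasLBaseChange φ] (K : Dual.D A) (a b : ℤ)
    (h : DRing.HasTorAmplitudeIn B a b ((DRing.LBaseChange φ).obj K)) : DRing.HasTorAmplitudeIn A a b K :=
  amp_of_family (fun _ : PUnit.{1} => φ) (fun _ => hφ) (exists_prod hφ hnil) K a b fun _ => h

theorem pc_of_lBaseChange [DRing.HasLBaseChange φ] (K : Dual.D A)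
    (h : DRing.IsPseudoCoherent' B ((DRing.LBaseChange φ).obj K)) : DRing.IsPseudoCoherent' A K :=
  pc_of_family (fun _ : PUnit.{1} => φ) (fun _ => hφ) (exists_prod hφ hnil) K fun _ => h

theorem perfect_of_lBaseChange [DRing.HasLBaseChange φ] (K : Dual.D A)
    (h : DRing.IsPerfect B ((DRing.LBaseChange φ).obj K)) : DRing.IsPerfect A K :=
  perfect_of_family (fun _ : PUnit.{1} => φ) (fun _ => hφ) (exists_prod hφ hnil) K fun _ => h

end Nilpotent

end Groth.L10.NilpotentThick
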