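import Groth.Agent.L04.RGamma.TensorQuotient
import Groth.Agent.L04.RGamma.CompleteSeparated
import Groth.Agent.L10.DRing.LTensorKFlat
import Groth.Agent.L10.DRing.Nilpotent
import Groth.Agent.L02.PC.Cone
import Groth.Agent.L28.HomElt

/-! Upper bounds on derived complete objects from derived reductions. -/

set_option autoImplicit false
set_option maxHeartbeats 800000
set_option backward.defeqAttrib.useBackward true
set_option backward.isDefEq.respectTransparency false
set_option backward.isDefEq.respectTransparency.types false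
universe u

open CategoryTheory CategoryTheory.Limits MonoidalCategory CochainComplex CategoryTheory.Pretriangulated

attribute [local instance] HasDerivedCategory.standard

namespace Groth.L10.CompleteLEH

open Groth.L04.RGamma

variable {A : Type u} [CommRing A]

/-- the two tensor conventions -/
noncomputable def lTBraid (N : ModuleCat.{u} A) (X : DRing.Cx A) : (lT N).obj X ≅ DRing.tensorCx X N :=
  (NatIso.mapHomologicalComplex (BraidedCategory.tensorLeftIsoTensorRight N) (ComplexShape.up ℤ)).app X

/-- multiplication on a tensor with kernel and cokernel of vanishing upper homology -/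
theorem lTMap_smul_bij {X : DRing.Cx A} (hX : DRing.TermwiseFlat X) (f : A) (N : ModuleCat.{u} A)
    (hk : ∀ i, 0 < i → IsZero (((lT (ModuleCat.of A (LinearMap.ker (f • LinearMap.id : N →ₗ[A] N)))).obj X).homology i))
    (hc : ∀ i, 0 < i → IsZero (((lT (ModuleCat.of A (N ⧸ LinearMap.range (f • LinearMap.id : N →ₗ[A] N)))).obj X).homology i))
    (i : ℤ) (hi : 0 < i) :
    Epi (HomologicalComplex.homologyMap (lTMap (ModuleCat.ofHom (f • LinearMap.id : N →ₗ[A] N)) X) i) ∧
      Mono (HomologicalComplex.homologyMap (lTMap (ModuleCat.ofHom (f • LinearMap.id : N →ₗ[A] N)) X) (i + 1)) := by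
  let φ : N →ₗ[A] N := f • LinearMap.id
  let p : N ⟶ ModuleCat.of A (LinearMap.range φ) := ModuleCat.ofHom φ.rangeRestrict
  let j : ModuleCat.of A (LinearMap.range φ) ⟶ N := ModuleCat.ofHom (LinearMap.range φ).subtype
  obtain ⟨h1, s1⟩ := shortExact_lT hX (ModuleCat.ofHom (LinearMap.ker φ).subtype) p
    Subtype.val_injective φ.surjective_rangeRestrict (fun x => ⟨fun hx => ⟨⟨x, congrArg Subtype.val hx⟩, rfl⟩,
      fun ⟨y, hy⟩ => hy ▸ Subtype.ext y.2⟩)
  obtain ⟨h2, s2⟩ := shortExact_lT hX j (ModuleCat.ofHom (LinearMap.range φ).mkQ) Subtype.val_injective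
    (Submodule.mkQ_surjective _) (LinearMap.exact_subtype_mkQ _)
  have hfac : lTMap (ModuleCat.ofHom φ) X = lTMap p X ≫ lTMap j X := HomologicalComplex.hom_ext _ _ fun i =>
    ModuleCat.hom_ext (LinearMap.rTensor_comp (X.X i) (LinearMap.range φ).subtype φ.rangeRestrict)
  haveI e1 : Epi (HomologicalComplex.homologyMap (lTMap p X) i) :=
    (s1.homology_exact₃ i (i + 1) rfl).epi_f ((hk (i + 1) (by omega)).eq_of_tgt _ _)
  haveI e2 : Epi (HomologicalComplex.homologyMap (lTMap j X) i) :=
    (s2.homology_exact₂ i).epi_f ((hc i hi).eq_of_tgt _ _)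
  haveI m1 : Mono (HomologicalComplex.homologyMap (lTMap p X) (i + 1)) :=
    (s1.homology_exact₂ (i + 1)).mono_g ((hk (i + 1) (by omega)).eq_of_src _ _)
  haveI m2 : Mono (HomologicalComplex.homologyMap (lTMap j X) (i + 1)) :=
    (s2.homology_exact₁ i (i + 1) rfl).mono_g ((hc i hi).eq_of_src _ _)
  constructor <;> rw [hfac, HomologicalComplex.homologyMap_comp]
  · exact epi_comp _ _
  · exact mono_comp _ _

theorem coneExact_of_bij {P K : DRing.Cx A} (g : P ⟶ K) (i : ℤ)
    (he : Epi (HomologicalComplex.homologyMap g i)) (hm : Mono (HomologicalComplex.homologyMap g (i + 1))) :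
    Groth.L02.PC.ConeExact g (i - 1) i (i + 1) (i + 1 + 1) := by
  have hs := (Groth.L28.HomElt.surjective_homologyMap_iff g (i := i - 1) (k := i + 1) (CochainComplex.prev ℤ i)
    (CochainComplex.next ℤ i)).1 ((ModuleCat.epi_iff_surjective _).1 he)
  have hi := (Groth.L28.HomElt.injective_homologyMap_iff g (i := i) (j := i + 1) (k := i + 1 + 1) (by simp) (by simp)).1
    ((ModuleCat.mono_iff_injective _).1 hm)
  intro q x hq hx
  obtain ⟨q₀, rfl⟩ := hi q x hq hx
  have hcyc : K.d i (i + 1) (x - g.f i q₀) = 0 := by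
    rw [map_sub, sub_eq_zero]
    have h := congrArg (fun φ => φ.hom q₀) (g.comm i (i + 1))
    simp only [ModuleCat.hom_comp, LinearMap.comp_apply] at h
    exact hx.symm.trans h.symm
  obtain ⟨z, y, hz, hy⟩ := hs _ hcyc
  refine ⟨q₀ + z, y, by rw [map_add, hz, add_zero], ?_⟩
  rw [map_add, add_assoc, hy, add_sub_cancel]

theorem surjective_of_coneExact {P K : DRing.Cx A} (g : P ⟶ K) (i : ℤ)
    (h : Groth.L02.PC.ConeExact g (i - 1) i (i + 1) (i + 1 + 1)) :
    Function.Surjective (HomologicalComplex.homologyMap g i) :=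
  (Groth.L28.HomElt.surjective_homologyMap_iff g (i := i - 1) (k := i + 1) (CochainComplex.prev ℤ i)
    (CochainComplex.next ℤ i)).2 fun y hy => by
    obtain ⟨q, w, hq, hw⟩ := h 0 y (map_zero _) (by rw [map_zero]; exact hy.symm)
    exact ⟨q, w, hq, hw⟩

theorem leh_of_complete (s : Finset A) :
    ∀ X : DRing.Cx A, DRing.TermwiseFlat X →
      DRing.IsDerivedComplete (Ideal.span (s : Set A)) (DerivedCategory.Q.obj X) →
      (∀ N : ModuleCat.{u} A, (∀ g ∈ s, ∀ n : N, g • n = 0) → ∀ i, 0 < i → IsZero (((lT N).obj X).homology i)) →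
      ∀ i, 0 < i → IsZero (X.homology i) := by
  classical
  induction s using Finset.induction_on with
  | empty =>
    intro X _ _ h i hi
    exact (h (ModuleCat.of A A) (by simp) i hi).of_iso
      ((HomologicalComplex.homologyFunctor _ _ i).mapIso
        ((NatIso.mapHomologicalComplex (leftUnitorNatIso (ModuleCat.{u} A)) (ComplexShape.up ℤ)).app X ≪≫
          (Functor.mapHomologicalComplexIdIso _ _).app X).symm)
  | @insert f t _ ih =>
    intro X hX hc h i hi
    have htle : Ideal.span (t : Set A) ≤ Ideal.span ((insert f t : Finset A) : Set A) :=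
      Ideal.span_mono (by simp)
    let φ : X ⟶ X := f • 𝟙 X
    have hcone : ∀ k, 0 < k → IsZero ((mappingCone φ).homology k) := by
      refine ih _ (Groth.L10.KFlat.flat_mappingCone φ hX hX) ?_ fun N hN k hk => ?_
      · have hc' : DRing.IsDerivedComplete (Ideal.span (t : Set A)) (DerivedCategory.Q.obj X) :=
          fun g hg => hc g (htle hg)
        exact isDerivedComplete_obj₃ _ (Groth.L02.PC.mappingCone_distinguished φ) hc' hc'
      · obtain ⟨he, hm⟩ := lTMap_smul_bij hX f N (h _ fun g hg n => by
            rcases Finset.mem_insert.1 hg with rfl | hg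
            · exact Subtype.ext n.2
            · exact Subtype.ext (hN g hg n.1))
          (h _ fun g hg n => by
            obtain ⟨n, rfl⟩ := Submodule.Quotient.mk_surjective _ n
            rw [← Submodule.Quotient.mk_smul]
            rcases Finset.mem_insert.1 hg with rfl | hg
            · exact (Submodule.Quotient.mk_eq_zero _).2 ⟨n, rfl⟩
            · rw [hN g hg n]; rfl) k hk
        rw [← lT_map_smul] at he hm
        exact ((Groth.L02.PC.coneExact_iff _ (k - 1) k (k + 1) (k + 1 + 1) (by omega) rfl rfl).1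
          (coneExact_of_bij _ k he hm)).of_iso
          ((HomologicalComplex.homologyFunctor _ _ k).mapIso
            (mappingCone.mapHomologicalComplexIso φ (tensorLeft N)))
    have hsurj := surjective_of_coneExact φ i
      ((Groth.L02.PC.coneExact_iff φ (i - 1) i (i + 1) (i + 1 + 1) (by omega) rfl rfl).2 (hcone i hi))
    have hmap : ∀ z : X.homology i, HomologicalComplex.homologyMap φ i z = f • z := fun z => by
      have := (HomologicalComplex.homologyFunctor (ModuleCat.{u} A) (ComplexShape.up ℤ) i).map_smul f (𝟙 X) (R := A)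
      rw [CategoryTheory.Functor.map_id] at this
      exact LinearMap.congr_fun (congrArg ModuleCat.Hom.hom this) z
    let e := ((DerivedCategory.homologyFunctorFactors (ModuleCat.{u} A) i).app X).toLinearEquiv
    have htz := (isDerivedComplete_iff _ _).1 hc f (Ideal.subset_span (by simp)) i
    haveI : Subsingleton (Dual.HD A (DerivedCategory.Q.obj X) i) := by
      refine subsingleton_of_span_smul_top_eq_top {f} _ (fun g hg => by
        rw [Finset.mem_singleton] at hg; subst hg; exact htz) (top_le_iff.1 fun w _ => ?_)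
      obtain ⟨z, hz⟩ := hsurj (e w)
      rw [hmap] at hz
      rw [show w = f • e.symm z by rw [← map_smul, hz]; exact (e.symm_apply_apply w).symm]
      exact Submodule.smul_mem_smul (Ideal.subset_span (by simp)) trivial
    haveI : Subsingleton ↑((DerivedCategory.Q ⋙ DerivedCategory.homologyFunctor (ModuleCat.{u} A) i).obj X) :=
      inferInstanceAs (Subsingleton (Dual.HD A (DerivedCategory.Q.obj X) i))
    haveI : Subsingleton (X.homology i) := e.symm.injective.subsingleton
    exact ModuleCat.isZero_of_subsingleton _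

theorem iff_quotient {I : Ideal A} (hI : I.FG) [DRing.HasLTensor A (ModuleCat.of A (A ⧸ I))]
    (K : Dual.D A) (hc : DRing.IsDerivedComplete I K) :
    (∀ i : ℤ, 0 < i → Subsingleton (Dual.HD A K i)) ↔
      ∀ i : ℤ, 0 < i → Subsingleton (Dual.HD A ((DRing.LTensor A (ModuleCat.of A (A ⧸ I))).obj K) i) := by
  classical
  let M := ModuleCat.of A (A ⧸ I)
  constructor
  · intro h i hi
    have hb : Groth.L02.PC.LEH K 0 := fun j hj =>
      haveI := h j hj
      ModuleCat.isZero_of_subsingleton ((DerivedCategory.homologyFunctor (ModuleCat.{u} A) j).obj K)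
    obtain ⟨P, hPb, hPf, -, ⟨e⟩⟩ := Groth.L02.PC.exists_free_rep hb
    have hPk : DRing.IsKFlat A P := Groth.L10.KFlat.of_bounded P 0 hPb fun j => haveI := hPf j; inferInstance
    exact ModuleCat.subsingleton_of_isZero ((Groth.L10.DR.HH_iso_zero
      ((Groth.L10.LTensorKFlat.compute M P hPk).symm ≪≫ (DRing.LTensor A M).mapIso e) i).2
      ((HomologicalComplex.exactAt_iff_isZero_homology _ i).1
        (HomologicalComplex.ExactAt.of_isZero ((tensorRight M).map_isZero (hPb i hi)))))
  · intro h i hi
    obtain ⟨s, rfl⟩ := hI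
    obtain ⟨X, hX, hXf, ⟨e⟩⟩ := Groth.L10.KFlatLBC.exists_rep_flat K
    refine ModuleCat.subsingleton_of_isZero ((Groth.L10.DR.HH_iso_zero e i).2
      (leh_of_complete s X hXf (fun f hf n => ?_) (fun N hN k hk => ?_) i hi))
    · haveI := hc f hf n
      exact ((Iso.homCongr (Iso.refl _) ((CategoryTheory.shiftFunctor _ n).mapIso e)).injective).subsingleton
    · let J := Ideal.span (s : Set A)
      let φ := Ideal.Quotient.mk J
      haveI := Groth.L10.KFlatLBC.hasLBaseChange φ
      have hbc : ∀ j, 0 < j → IsZero (((Groth.L02.PC.bcCx φ).obj X).homology j) := fun j hj => by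
        haveI := h j hj
        have h1 : IsZero ((DRing.tensorCx X M).homology j) :=
          (Groth.L10.DR.HH_iso_zero ((Groth.L10.LTensorKFlat.compute M X hX).symm ≪≫ (DRing.LTensor A M).mapIso e) j).1
            (ModuleCat.isZero_of_subsingleton ((DerivedCategory.homologyFunctor (ModuleCat.{u} A) j).obj _))
        have h2 := (Groth.L10.NilpotentThick.isZero_tensor_bc_iff φ X (ModuleCat.of (A ⧸ J) (A ⧸ J)) j).2
          (Groth.L10.LTensorKFlat.isZero_of_iso (LinearEquiv.toModuleIso (X₁ := A ⧸ J)
            (X₂ := (ModuleCat.restrictScalars.{u} φ).obj (ModuleCat.of (A ⧸ J) (A ⧸ J)))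
            { AddEquiv.refl (A ⧸ J) with map_smul' := fun _ _ => rfl }) j h1)
        exact h2.of_iso ((HomologicalComplex.homologyFunctor _ _ j).mapIso
          ((NatIso.mapHomologicalComplex (rightUnitorNatIso (ModuleCat.{u} (A ⧸ J))) (ComplexShape.up ℤ)).app _ ≪≫
            (Functor.mapHomologicalComplexIdIso _ _).app _).symm)
      have hle : Groth.L02.PC.LEH ((DRing.LBaseChange φ).obj (DRing.toD X)) 0 := fun j hj =>
        (Groth.L10.DR.HH_iso_zero (Groth.L10.KFlatLBC.lbcKF φ X hX).symm j).2 (hbc j hj)
      exact (Groth.L10.NilpotentThick.isZero_tensor_of_killed (Q := X) Ideal.Quotient.mk_surjective k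
        (fun N' => Groth.L10.NilpotentThick.vanish_of_leh φ hX hle k hk N') N fun a ha n => by
          rw [Ideal.mk_ker] at ha
          exact Module.mem_annihilator.1 ((Ideal.span_le.2 fun g hg => Module.mem_annihilator.2 (hN g hg) :
            J ≤ Module.annihilator A N) ha) n).of_iso
        ((HomologicalComplex.homologyFunctor _ _ k).mapIso (lTBraid N X))

end Groth.L10.CompleteLEH
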