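import Groth.Agent.L04.RGamma.CompleteModule
import Mathlib.Algebra.Homology.ShortComplex.ModuleCat
import Mathlib.LinearAlgebra.FreeModule.Finite.Basic

/-! Pseudo-coherent objects over a derived complete ring. -/

universe u

open CategoryTheory CategoryTheory.Limits

attribute [local instance] HasDerivedCategory.standard

set_option backward.defeqAttrib.useBackward true
set_option backward.isDefEq.respectTransparency false

namespace Groth.L10.CompletePC

open Groth.L04.RGamma

variable {A : Type u} [CommRing A]

theorem tzMod_pi {f : A} (h : TzMod f A) (ι : Type) : TzMod f (ι → A) := by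
  rw [tzMod_iff] at h ⊢
  intro y
  choose x hx hu using fun j : ι => h fun i => y i j
  exact ⟨fun i j => x j i, fun i => funext fun j => hx j i,
    fun x' hx' => funext fun i => funext fun j => congrFun (hu j (fun i => x' i j) fun i => congrFun (hx' i) j) i⟩

theorem tzMod_finiteFree {f : A} (h : TzMod f A) (M : Type u) [AddCommGroup M] [Module A M]
    [Module.Finite A M] [Module.Free A M] : TzMod f M := by
  rcases subsingleton_or_nontrivial A with hA | hA
  · haveI := Module.subsingleton A M
    exact TzMod.of_subsingleton
  · exact (TzMod.congr (Module.finBasis A M).equivFun).2 (tzMod_pi h _)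

theorem tzMod_homology {f : A} (P : DRing.Cx A) (h : ∀ i, TzMod f (P.X i)) (i : ℤ) :
    TzMod f (P.homology i) := by
  let S := P.sc i
  refine (TzMod.congr S.moduleCatHomologyIso.toLinearEquiv).2 ?_
  exact TzMod.coker S.moduleCatToCycles (h _) ((h _).ker S.g.hom (h _))

end Groth.L10.CompletePC
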