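import Groth.Agent.L10.DRing.CechTorsion
import Groth.Agent.L10.DRing.RHomComp
import Groth.Agent.L04.RGamma.Complete
import Mathlib.Algebra.Homology.DerivedCategory.ShortExact
import Mathlib.Algebra.Homology.HomotopyCategory.MappingCocone

/-! Derived completion as `Hom•` out of the extended Čech complex. -/

universe u

open CategoryTheory CategoryTheory.Limits MonoidalCategory CategoryTheory.Pretriangulated CochainComplex
  CochainComplex.HomComplex DerCA

attribute [local instance] HasDerivedCategory.standard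

set_option backward.defeqAttrib.useBackward true
set_option backward.isDefEq.respectTransparency false
set_option linter.style.haveILetI false

namespace Groth.L10.CompletionFormula

variable {A : Type u} [CommRing A]

/-- the degree `i` component of a short complex of complexes -/
noncomputable abbrev deg (S : ShortComplex (DRing.Cx A)) (i : ℤ) : ShortComplex (ModuleCat.{u} A) :=
  S.map (HomologicalComplex.eval (ModuleCat.{u} A) (ComplexShape.up ℤ) i)

/-- `Hom•(-, I)` of a short complex -/
noncomputable def preSC (S : ShortComplex (DRing.Cx A)) (I : DRing.Cx A) : ShortComplex (DRing.Cx A) :=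
  ShortComplex.mk (RHomCx.homCxPre S.g I) (RHomCx.homCxPre S.f I) (by
    ext i (z : Cochain S.X₃ I i) : 3
    change (Cochain.ofHom S.f).comp ((Cochain.ofHom S.g).comp z (zero_add i)) (zero_add i) = 0
    rw [← Cochain.comp_assoc_of_first_is_zero_cochain, ← Cochain.ofHom_comp, S.zero, Cochain.ofHom_zero,
      Cochain.zero_comp])

/-- `Hom•(K, -)` of a short complex -/
noncomputable def postSC (K : DRing.Cx A) (S : ShortComplex (DRing.Cx A)) : ShortComplex (DRing.Cx A) :=
  ShortComplex.mk (DRing.homCxMap K S.f) (DRing.homCxMap K S.g) (by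
    ext i (z : Cochain K S.X₁ i) : 3
    change (z.comp (Cochain.ofHom S.f) (add_zero i)).comp (Cochain.ofHom S.g) (add_zero i) = 0
    rw [Cochain.comp_assoc_of_third_is_zero_cochain, ← Cochain.ofHom_comp, S.zero, Cochain.ofHom_zero,
      Cochain.comp_zero])

/-- a splitting of `Hom•(-, I)` -/
noncomputable def preSplit {S : ShortComplex (DRing.Cx A)} (σ : ∀ i, (deg S i).Splitting) (I : DRing.Cx A)
    (i : ℤ) : (deg (preSC S I) i).Splitting where
  r := ModuleCat.ofHom (X := Cochain S.X₂ I i) (Y := Cochain S.X₃ I i)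
    { toFun := fun z => Cochain.mk fun p q h => (σ p).s ≫ z.v p q h
      map_add' := fun z z' => by ext p q h : 1; simp
      map_smul' := fun a z => by ext p q h : 1; simp }
  s := ModuleCat.ofHom (X := Cochain S.X₁ I i) (Y := Cochain S.X₂ I i)
    { toFun := fun z => Cochain.mk fun p q h => (σ p).r ≫ z.v p q h
      map_add' := fun z z' => by ext p q h : 1; simp
      map_smul' := fun a z => by ext p q h : 1; simp }
  f_r := by
    refine ModuleCat.hom_ext (LinearMap.ext fun (z : Cochain S.X₃ I i) => Cochain.ext _ _ fun p q h => ?_)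
    change (σ p).s ≫ ((Cochain.ofHom S.g).comp z (zero_add i)).v p q h = z.v p q h
    rw [Cochain.zero_cochain_comp_v, Cochain.ofHom_v, ← Category.assoc]
    exact (congrArg (· ≫ z.v p q h) (σ p).s_g).trans (Category.id_comp _)
  s_g := by
    refine ModuleCat.hom_ext (LinearMap.ext fun (z : Cochain S.X₁ I i) => Cochain.ext _ _ fun p q h => ?_)
    change ((Cochain.ofHom S.f).comp (Cochain.mk fun p q h => (σ p).r ≫ z.v p q h) (zero_add i)).v p q h = z.v p q h
    rw [Cochain.zero_cochain_comp_v, Cochain.ofHom_v, Cochain.mk_v, ← Category.assoc]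
    exact (congrArg (· ≫ z.v p q h) (σ p).f_r).trans (Category.id_comp _)
  id := by
    refine ModuleCat.hom_ext (LinearMap.ext fun (z : Cochain S.X₂ I i) => Cochain.ext _ _ fun p q h => ?_)
    change ((Cochain.ofHom S.g).comp (Cochain.mk fun p q h => (σ p).s ≫ z.v p q h) (zero_add i) +
      (Cochain.mk fun p q h => (σ p).r ≫ ((Cochain.ofHom S.f).comp z (zero_add i)).v p q h)).v p q h = z.v p q h
    rw [Cochain.add_v, Cochain.zero_cochain_comp_v, Cochain.ofHom_v, Cochain.mk_v, Cochain.mk_v,
      Cochain.zero_cochain_comp_v, Cochain.ofHom_v, ← Category.assoc, ← Category.assoc, ← Preadditive.add_comp,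
      add_comm]
    exact (congrArg (· ≫ z.v p q h) (σ p).id).trans (Category.id_comp _)

/-- a splitting of `Hom•(K, -)` -/
noncomputable def postSplit (K : DRing.Cx A) {S : ShortComplex (DRing.Cx A)} (σ : ∀ i, (deg S i).Splitting)
    (i : ℤ) : (deg (postSC K S) i).Splitting where
  r := ModuleCat.ofHom (X := Cochain K S.X₂ i) (Y := Cochain K S.X₁ i)
    { toFun := fun z => Cochain.mk fun p q h => z.v p q h ≫ (σ q).r
      map_add' := fun z z' => by ext p q h : 1; simp
      map_smul' := fun a z => by ext p q h : 1; simp }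
  s := ModuleCat.ofHom (X := Cochain K S.X₃ i) (Y := Cochain K S.X₂ i)
    { toFun := fun z => Cochain.mk fun p q h => z.v p q h ≫ (σ q).s
      map_add' := fun z z' => by ext p q h : 1; simp
      map_smul' := fun a z => by ext p q h : 1; simp }
  f_r := by
    refine ModuleCat.hom_ext (LinearMap.ext fun (z : Cochain K S.X₁ i) => Cochain.ext _ _ fun p q h => ?_)
    change (z.comp (Cochain.ofHom S.f) (add_zero i)).v p q h ≫ (σ q).r = z.v p q h
    rw [Cochain.comp_zero_cochain_v, Cochain.ofHom_v, Category.assoc]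
    exact (congrArg (z.v p q h ≫ ·) (σ q).f_r).trans (Category.comp_id _)
  s_g := by
    refine ModuleCat.hom_ext (LinearMap.ext fun (z : Cochain K S.X₃ i) => Cochain.ext _ _ fun p q h => ?_)
    change ((Cochain.mk fun p q h => z.v p q h ≫ (σ q).s).comp (Cochain.ofHom S.g) (add_zero i)).v p q h = z.v p q h
    rw [Cochain.comp_zero_cochain_v, Cochain.ofHom_v, Cochain.mk_v, Category.assoc]
    exact (congrArg (z.v p q h ≫ ·) (σ q).s_g).trans (Category.comp_id _)
  id := by
    refine ModuleCat.hom_ext (LinearMap.ext fun (z : Cochain K S.X₂ i) => Cochain.ext _ _ fun p q h => ?_)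
    change ((Cochain.mk fun p q h => z.v p q h ≫ (σ q).r).comp (Cochain.ofHom S.f) (add_zero i) +
      (Cochain.mk fun p q h => (z.comp (Cochain.ofHom S.g) (add_zero i)).v p q h ≫ (σ q).s)).v p q h = z.v p q h
    rw [Cochain.add_v, Cochain.comp_zero_cochain_v, Cochain.ofHom_v, Cochain.mk_v, Cochain.mk_v,
      Cochain.comp_zero_cochain_v, Cochain.ofHom_v, Category.assoc, Category.assoc, ← Preadditive.comp_add]
    exact (congrArg (z.v p q h ≫ ·) (σ q).id).trans (Category.comp_id _)

theorem shortExact_of_split {S : ShortComplex (DRing.Cx A)} (σ : ∀ i, (deg S i).Splitting) : S.ShortExact :=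
  HomologicalComplex.shortExact_of_degreewise_shortExact S fun i => (σ i).shortExact

/-! ### the step sequence -/

variable {K L : DRing.Cx A} (φ : K ⟶ L)

/-- `L[-1] ⟶ cocone` -/
noncomputable def inrHom : L⟦(-1 : ℤ)⟧ ⟶ mappingCocone φ := (mappingCone.inr φ)⟦(-1 : ℤ)⟧'

theorem inrHom_f (p : ℤ) : (inrHom φ).f p = (mappingCocone.inr φ).1.v (p + -1) p (by omega) := by
  simp [inrHom, mappingCocone.inr, Cochain.rightShift_v _ _ _ _ _ _ _ _ (add_zero (p + -1))]

/-- the sequence of a cocone -/
noncomputable def coconeSC : ShortComplex (DRing.Cx A) :=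
  ShortComplex.mk (inrHom φ) (mappingCocone.fst φ) (by
    ext p : 1
    rw [HomologicalComplex.comp_f, inrHom_f]
    exact mappingCocone.inr_v_fst_f φ _ _ _)

/-- it is degreewise split -/
noncomputable def coconeSplit (p : ℤ) : (deg (coconeSC φ) p).Splitting where
  r := (mappingCocone.snd φ).v p (p + -1) rfl
  s := (mappingCocone.inl φ).v p p (add_zero p)
  f_r := by
    change (inrHom φ).f p ≫ (mappingCocone.snd φ).v p (p + -1) rfl = _
    rw [inrHom_f]
    exact mappingCocone.inr_v_snd_v φ _ _ _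
  s_g := mappingCocone.inl_v_fst_f φ p
  id := by
    change (mappingCocone.snd φ).v p (p + -1) rfl ≫ (inrHom φ).f p +
      (mappingCocone.fst φ).f p ≫ (mappingCocone.inl φ).v p p (add_zero p) = 𝟙 _
    rw [inrHom_f, add_comm]
    exact mappingCocone.id_X φ p _ rfl

/-! ### maps seen as bijections by complete objects -/

variable (I : Ideal A)

/-- precomposition is bijective on maps to complete objects -/
def Cbij {X Y : Dual.D A} (φ : X ⟶ Y) : Prop :=
  ∀ P : Dual.D A, DRing.IsDerivedComplete I P → Function.Bijective fun b : Y ⟶ P => φ ≫ b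

theorem cbij_iso {X Y : Dual.D A} (φ : X ⟶ Y) [IsIso φ] : Cbij I φ := fun P _ =>
  ⟨fun a b h => (cancel_epi φ).1 h, fun a => ⟨inv φ ≫ a, by simp⟩⟩

theorem Cbij.comp {X Y Z : Dual.D A} {φ : X ⟶ Y} {ψ : Y ⟶ Z} (h : Cbij I φ) (h' : Cbij I ψ) :
    Cbij I (φ ≫ ψ) := fun P hP => by
  have := (h P hP).comp (h' P hP)
  simpa [Function.comp_def] using this

theorem eq_zero_of_isIso_smul {X P : Dual.D A} {f : A} (hf : f ∈ I) [IsIso (f • 𝟙 X)]
    (hP : DRing.IsDerivedComplete I P) (a : X ⟶ P) : a = 0 :=
  Groth.L04.RGamma.eq_zero_of_complete (f := f) (fun n => hP f hf n)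
    (fun b => ⟨inv (f • 𝟙 X) ≫ b, by
      refine Eq.trans ?_ (IsIso.hom_inv_id_assoc (f • 𝟙 X) b)
      rw [Linear.smul_comp, Category.id_comp]⟩) a

theorem cbij_of_ses {S : ShortComplex (DRing.Cx A)} (hS : S.ShortExact) {f : A} (hf : f ∈ I)
    [IsIso (f • 𝟙 S.X₃)] : Cbij I (DerivedCategory.Q.map S.f) := fun P hP => by
  have hT := DerivedCategory.triangleOfSES_distinguished hS
  haveI : IsIso (f • 𝟙 (DRing.toD S.X₃)) := by
    rw [← CategoryTheory.Functor.map_id, ← Functor.map_smul]
    exact Functor.map_isIso _ _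
  haveI : IsIso (f • 𝟙 ((DRing.toD S.X₃)⟦(-1 : ℤ)⟧)) := by
    rw [← CategoryTheory.Functor.map_id, ← Functor.map_smul]
    exact Functor.map_isIso _ _
  refine ⟨fun a b hab => sub_eq_zero.1 ?_, fun a => ?_⟩
  · obtain ⟨c, hc⟩ := Triangle.yoneda_exact₂ _ hT (a - b) (by
      change DerivedCategory.Q.map S.f ≫ (a - b) = 0
      rw [Preadditive.comp_sub]; exact sub_eq_zero.2 hab)
    rw [hc, eq_zero_of_isIso_smul (X := DRing.toD S.X₃) I hf hP c]
    exact comp_zero
  · obtain ⟨c, hc⟩ := Triangle.yoneda_exact₂ _ (inv_rot_of_distTriang _ hT) a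
      (eq_zero_of_isIso_smul (X := (DRing.toD S.X₃)⟦(-1 : ℤ)⟧) I hf hP _)
    exact ⟨c, hc.symm⟩

theorem isIso_smul_locCx (g : A) (K : DRing.Cx A) :
    IsIso (g • 𝟙 ((locCx (Submonoid.powers g)).obj K)) := by
  haveI : ∀ n, IsIso ((g • 𝟙 ((locCx (Submonoid.powers g)).obj K)).f n) := fun n =>
    (ConcreteCategory.isIso_iff_bijective _).2
      (Groth.L04.Koszul.ExtCech.smul_bij (Submonoid.powers g) n ⟨g, 1, pow_one g⟩)
  exact HomologicalComplex.Hom.isIso_of_components _

theorem homCxPre_comp {E E' E'' : DRing.Cx A} (g : E'' ⟶ E') (h : E' ⟶ E) (J : DRing.Cx A) :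
    RHomCx.homCxPre (g ≫ h) J = RHomCx.homCxPre h J ≫ RHomCx.homCxPre g J := by
  ext i (z : Cochain E J i) : 3
  change (Cochain.ofHom (g ≫ h)).comp z (zero_add i) =
    (Cochain.ofHom g).comp ((Cochain.ofHom h).comp z (zero_add i)) (zero_add i)
  rw [← Cochain.comp_assoc_of_first_is_zero_cochain, Cochain.ofHom_comp]

theorem homCxPre_id (E J : DRing.Cx A) : RHomCx.homCxPre (𝟙 E) J = 𝟙 _ := by
  ext i (z : Cochain E J i) : 3
  change (Cochain.ofHom (𝟙 E)).comp z (zero_add i) = z
  exact Cochain.id_comp z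

theorem isIso_smul_homCx_src {E : DRing.Cx A} (g : A) [IsIso (g • 𝟙 E)] (J : DRing.Cx A) :
    IsIso (g • 𝟙 (DRing.homCx E J)) := by
  have h : g • 𝟙 (DRing.homCx E J) = RHomCx.homCxPre (g • 𝟙 E) J := by
    ext i (z : Cochain E J i) : 3
    refine Cochain.ext _ _ fun p q h => ?_
    change (g • z).v p q h = ((Cochain.ofHom (g • 𝟙 E)).comp z (zero_add i)).v p q h
    rw [Cochain.zero_cochain_comp_v, Cochain.ofHom_v, Cochain.smul_v, HomologicalComplex.smul_f_apply,
      Linear.smul_comp, HomologicalComplex.id_f, Category.id_comp]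
  rw [h]
  exact ⟨RHomCx.homCxPre (inv (g • 𝟙 E)) J, by rw [← homCxPre_comp, IsIso.inv_hom_id, homCxPre_id],
    by rw [← homCxPre_comp, IsIso.hom_inv_id, homCxPre_id]⟩

theorem isIso_smul_homCx_tgt {J : DRing.Cx A} (g : A) [IsIso (g • 𝟙 J)] (E : DRing.Cx A) :
    IsIso (g • 𝟙 (DRing.homCx E J)) := by
  have h : g • 𝟙 (DRing.homCx E J) = DRing.homCxMap E (g • 𝟙 J) := by
    ext i (z : Cochain E J i) : 3
    refine Cochain.ext _ _ fun p q h => ?_
    change (g • z).v p q h = (z.comp (Cochain.ofHom (g • 𝟙 J)) (add_zero i)).v p q h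
    rw [Cochain.comp_zero_cochain_v, Cochain.ofHom_v, Cochain.smul_v, HomologicalComplex.smul_f_apply,
      Linear.comp_smul, HomologicalComplex.id_f, Category.comp_id]
  rw [h]
  exact Functor.map_isIso (DRing.homCxFunctor E) _

variable {I}

theorem isIso_smul_shift (g : A) (K : DRing.Cx A) [IsIso (g • 𝟙 K)] (n : ℤ) : IsIso (g • 𝟙 (K⟦n⟧)) := by
  rw [← CategoryTheory.Functor.map_id, ← Functor.map_smul]
  exact Functor.map_isIso _ _

/-- the complex `Hom•(Č, J)` -/
noncomputable abbrev C (fs : List A) (J : DRing.Cx A) : DRing.Cx A :=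
  DRing.homCx (extCech (ModuleCat.of A A) fs) J

/-- the third term of the step -/
noncomputable abbrev T (f : A) (fs : List A) (J : DRing.Cx A) : DRing.Cx A :=
  DRing.homCx (((locCx (Submonoid.powers f)).obj (extCech (ModuleCat.of A A) fs))⟦(-1 : ℤ)⟧) J

/-- `Hom•(A, J) ≅ J` -/
noncomputable def nilIso (J : DRing.Cx A) : C [] J ≅ J :=
  HomologicalComplex.Hom.isoOfComponents
    (fun i => LinearEquiv.toModuleIso
      (X₁ := Cochain ((CochainComplex.singleFunctor (ModuleCat.{u} A) 0).obj (ModuleCat.of A A)) J i)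
      { toFun := fun z => (Cochain.fromSingleEquiv (X := ModuleCat.of A A) (zero_add i) z).hom (1 : A)
        invFun := fun x => (Cochain.fromSingleEquiv (X := ModuleCat.of A A) (zero_add i)).symm
          (ModuleCat.ofHom (LinearMap.toSpanSingleton A (J.X i) x))
        map_add' := fun z z' => by simp
        map_smul' := fun a z => by
          change ((HomologicalComplex.singleObjXSelf (ComplexShape.up ℤ) 0 (ModuleCat.of A A)).inv ≫
              (a • z).v 0 i (zero_add i)).hom (1 : A) =
            a • ((HomologicalComplex.singleObjXSelf (ComplexShape.up ℤ) 0 (ModuleCat.of A A)).inv ≫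
              z.v 0 i (zero_add i)).hom (1 : A)
          rfl
        left_inv := fun z => by
          refine (Cochain.fromSingleEquiv (X := ModuleCat.of A A) (zero_add i)).symm_apply_eq.2 ?_
          exact ModuleCat.hom_ext (LinearMap.ext_ring (LinearMap.toSpanSingleton_apply_one A (J.X i) _))
        right_inv := fun x => by
          show ((Cochain.fromSingleEquiv (X := ModuleCat.of A A) (zero_add i))
            ((Cochain.fromSingleEquiv (X := ModuleCat.of A A) (zero_add i)).symm
              (ModuleCat.ofHom (LinearMap.toSpanSingleton A (J.X i) x)))).hom (1 : A) = x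
          rw [AddEquiv.apply_symm_apply]
          exact LinearMap.toSpanSingleton_apply_one A (J.X i) x })
    (fun i j hij => by
      refine ModuleCat.hom_ext (LinearMap.ext fun
        (z : Cochain ((CochainComplex.singleFunctor (ModuleCat.{u} A) 0).obj (ModuleCat.of A A)) J i) => ?_)
      obtain ⟨g, rfl⟩ := Cochain.fromSingleMk_surjective z i (zero_add i)
      change J.d i j ((Cochain.fromSingleEquiv (X := ModuleCat.of A A) (zero_add i)
          (Cochain.fromSingleMk g (zero_add i))).hom (1 : A)) =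
        (Cochain.fromSingleEquiv (X := ModuleCat.of A A) (zero_add j)
          (δ i j (Cochain.fromSingleMk g (zero_add i)))).hom (1 : A)
      rw [Cochain.δ_fromSingleMk g _ j j (zero_add j)]
      simp only [Cochain.fromSingleEquiv_fromSingleMk]
      rfl)

/-- `J ⟶ Hom•(Č, J)` -/
noncomputable def eta (J : DRing.Cx A) : ∀ fs : List A, J ⟶ C fs J
  | [] => (nilIso J).inv
  | f :: fs => eta J fs ≫
      RHomCx.homCxPre (mappingCocone.fst (locCxUnit (Submonoid.powers f) (extCech (ModuleCat.of A A) fs))) J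

variable (I)

theorem cbij_eta (J : DRing.Cx A) : ∀ fs : List A, (∀ x ∈ fs, x ∈ I) →
    Cbij I (DerivedCategory.Q.map (eta J fs))
  | [], _ => by rw [eta]; exact cbij_iso I _
  | f :: fs, h => by
    rw [eta, Functor.map_comp]
    refine Cbij.comp I (cbij_eta J fs fun x hx => h x (List.mem_cons_of_mem _ hx)) ?_
    let S := preSC (coconeSC (locCxUnit (Submonoid.powers f) (extCech (ModuleCat.of A A) fs))) J
    haveI := isIso_smul_locCx f (extCech (ModuleCat.of A A) fs)
    haveI := isIso_smul_shift f ((locCx (Submonoid.powers f)).obj (extCech (ModuleCat.of A A) fs)) (-1)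
    haveI : IsIso (f • 𝟙 S.X₃) := isIso_smul_homCx_src
      (E := ((locCx (Submonoid.powers f)).obj (extCech (ModuleCat.of A A) fs))⟦(-1 : ℤ)⟧) f J
    exact cbij_of_ses I (shortExact_of_split (preSplit (coconeSplit _) J)) (S := S) (h f (List.mem_cons_self ..))

theorem cbij_post_eta (E : DRing.Cx A) (J : DRing.Cx A) : ∀ fs : List A, (∀ x ∈ fs, x ∈ I) →
    Cbij I ((DRing.homCxQ E).map (eta J fs))
  | [], _ => by rw [eta]; exact cbij_iso I _
  | f :: fs, h => by
    rw [eta, Functor.map_comp]
    refine Cbij.comp I (cbij_post_eta E J fs fun x hx => h x (List.mem_cons_of_mem _ hx)) ?_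
    let S := postSC E (preSC (coconeSC (locCxUnit (Submonoid.powers f) (extCech (ModuleCat.of A A) fs))) J)
    haveI := isIso_smul_locCx f (extCech (ModuleCat.of A A) fs)
    haveI := isIso_smul_shift f ((locCx (Submonoid.powers f)).obj (extCech (ModuleCat.of A A) fs)) (-1)
    haveI := isIso_smul_homCx_src (E := ((locCx (Submonoid.powers f)).obj (extCech (ModuleCat.of A A) fs))⟦(-1 : ℤ)⟧) f J
    haveI : IsIso (f • 𝟙 S.X₃) := isIso_smul_homCx_tgt (J := DRing.homCx
      (((locCx (Submonoid.powers f)).obj (extCech (ModuleCat.of A A) fs))⟦(-1 : ℤ)⟧) J) f E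
    exact cbij_of_ses I (shortExact_of_split (postSplit E (preSplit (coconeSplit _) J))) (S := S)
      (h f (List.mem_cons_self ..))

theorem eq_zero_of_isZero_homCx {S J : DRing.Cx A} [J.IsKInjective] (n : ℤ)
    (h : IsZero ((DRing.homCx S J).homology n)) (φ : DRing.toD S ⟶ (DRing.toD J)⟦n⟧) : φ = 0 := by
  let c := DerivedCategory.quotientCompQhIso (ModuleCat.{u} A)
  let q := HomotopyCategory.quotient (ModuleCat.{u} A) (ComplexShape.up ℤ)
  let e := ((DerivedCategory.Q (C := ModuleCat.{u} A)).commShiftIso n).app J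
  obtain ⟨a', ha⟩ := (CochainComplex.IsKInjective.Qh_map_bijective (q.obj S) (J⟦n⟧)).2
    (c.hom.app S ≫ (φ ≫ e.inv) ≫ c.inv.app (J⟦n⟧))
  obtain ⟨a, rfl⟩ := q.map_surjective a'
  have hz := (L28.HomElt.isZero_homology_iff (i := n - 1) (k := n + 1) (CochainComplex.prev ℤ n)
    (CochainComplex.next ℤ n)).1 h (Cocycle.equivHomShift a).1 ((Cocycle.equivHomShift a).δ_eq_zero (n + 1))
  have h0 : q.map a = 0 := by
    have := (CohomologyClass.toHom_mk_eq_zero_iff (Cocycle.equivHomShift a)).2
      ((mem_coboundaries_iff _ (n - 1) (sub_add_cancel n 1)).2 hz)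
    rwa [CohomologyClass.toHom_mk, AddEquiv.symm_apply_apply] at this
  rw [h0, Functor.map_zero] at ha
  rw [← cancel_mono e.inv, zero_comp, ← cancel_mono (c.inv.app (J⟦n⟧)), ← cancel_epi (c.hom.app S), zero_comp,
    comp_zero]
  exact ha.symm

/-- `Hom•(X, Hom•(Č, J))` is derived complete -/
theorem isComplete (fs : List A) (hI : I ≤ Ideal.span {x : A | x ∈ fs}) (J : DRing.Cx A) [J.IsKInjective] :
    DRing.IsDerivedComplete I (DRing.toD (C fs J)) := fun g hg n => by
  haveI := RHomComp.isKInjective_homCx (CechTorsion.isKFlat fs) J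
  refine subsingleton_of_forall_eq 0 fun φ => ?_
  have i0 := (DerivedCategory.singleFunctorIsoCompQ (ModuleCat.{u} A) 0).app (ModuleCat.of A (Localization.Away g))
  refine (cancel_epi i0.inv).1 ((eq_zero_of_isZero_homCx
    (S := (HomologicalComplex.single (ModuleCat.{u} A) (ComplexShape.up ℤ) 0).obj
      (ModuleCat.of A (Localization.Away g))) n ?_ (i0.inv ≫ φ)).trans comp_zero.symm)
  exact (RHomComp.isZero_homCx J _ (fun i => CechTorsion.isZero_away_tensor fs (hI hg) i) n).of_iso
    ((HomologicalComplex.homologyFunctor _ _ n).mapIso (HomTensor.iso _ _ J))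

theorem isComplete_of_iso {X Y : Dual.D A} (e : X ≅ Y) (h : DRing.IsDerivedComplete I X) :
    DRing.IsDerivedComplete I Y := fun g hg n =>
  @Equiv.subsingleton _ _ ((CategoryTheory.shiftFunctor (Dual.D A) n).mapIso e).symm.homToEquiv (h g hg n)

/-- two universal maps to complete objects agree -/
theorem exists_iso {X Y Z : Dual.D A} {a : X ⟶ Y} {b : X ⟶ Z} (ha : Cbij I a) (hb : Cbij I b)
    (hY : DRing.IsDerivedComplete I Y) (hZ : DRing.IsDerivedComplete I Z) :
    ∃ e : Y ≅ Z, a ≫ e.hom = b := by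
  obtain ⟨u, hu⟩ := (ha Z hZ).2 b
  obtain ⟨v, hv⟩ := (hb Y hY).2 a
  change a ≫ u = b at hu
  change b ≫ v = a at hv
  refine ⟨⟨u, v, (ha Y hY).1 ?_, (hb Z hZ).1 ?_⟩, hu⟩
  · change a ≫ u ≫ v = a ≫ 𝟙 Y
    rw [reassoc_of% hu, hv, Category.comp_id]
  · change b ≫ v ≫ u = b ≫ 𝟙 Z
    rw [reassoc_of% hv, hu, Category.comp_id]

theorem cbij_toDerivedCompletion [DRing.HasDerivedCompletion I] (K : Dual.D A) :
    Cbij I (DRing.toDerivedCompletion I K) := fun P hP => by
  let e := (DRing.derivedCompletionAdj I).homEquiv K ⟨P, hP⟩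
  refine ⟨fun a b hab => ?_, fun c => ⟨(e.symm c).hom, ?_⟩⟩
  · have h1 : e (ObjectProperty.homMk a) = e (ObjectProperty.homMk b) := by
      simp only [e, (DRing.derivedCompletionAdj I).homEquiv_unit]
      exact hab
    exact congrArg InducedCategory.Hom.hom (e.injective h1)
  · exact ((DRing.derivedCompletionAdj I).homEquiv_unit K ⟨P, hP⟩ _).symm.trans (e.apply_symm_apply c)

/-- completion is `Hom•(Č, -)` on K-injectives -/
theorem exists_completion_iso [DRing.HasDerivedCompletion I] (fs : List A)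
    (hI : Ideal.span {x : A | x ∈ fs} = I) (J : DRing.Cx A) [J.IsKInjective] :
    ∃ e : ((DRing.derivedCompletion I).obj (DRing.toD J)).obj ≅ DRing.toD (C fs J),
      DRing.toDerivedCompletion I (DRing.toD J) ≫ e.hom = DerivedCategory.Q.map (eta J fs) :=
  exists_iso I (cbij_toDerivedCompletion I _) (cbij_eta I J fs fun x hx => hI ▸ Ideal.subset_span hx)
    ((DRing.derivedCompletion I).obj (DRing.toD J)).property (isComplete I fs hI.ge J)

end Groth.L10.CompletionFormula
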