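import Groth.Agent.L10.DRing.CompletionAdic
import Groth.Agent.L10.DRing.CompletionTriangle
import Groth.Agent.L10.DRing.CompletePC
import Groth.Agent.L10.DRing.AmpTest
import Groth.Agent.L10.DRing.LTensorKFlat
import Groth.Agent.L10.DTen.Exact
import Groth.Agent.L04.RGamma.CompleteModule

/-! Derived completion and tensor products with pseudo-coherent complexes. -/

universe u

open CategoryTheory CategoryTheory.Limits MonoidalCategory CategoryTheory.Pretriangulated DerCA
open scoped TensorProduct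

attribute [local instance] HasDerivedCategory.standard

set_option backward.defeqAttrib.useBackward true
set_option backward.isDefEq.respectTransparency false
set_option linter.style.haveILetI false

namespace Groth.L10.CompletionTensor

open Groth.L10.KFlat Groth.L10.CompletionFormula Groth.L04.RGamma

variable {A : Type u} [CommRing A] {I : Ideal A}

section Functor

variable {F : DRing.Cx A} (hF : DRing.IsKFlat A F) [DRing.HasLTensorCx A F]

include hF in
theorem isIso_counit (X : DRing.Cx A) : IsIso (((DRing.tensorCxQ A F).totalLeftDerivedCounit DerivedCategory.Q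
    (HomologicalComplex.quasiIso (ModuleCat.{u} A) (ComplexShape.up ℤ))).app X) := by
  haveI : (DRing.LTensorCx A F).IsRightKanExtension
      ((DRing.tensorCxQ A F).totalLeftDerivedCounit DerivedCategory.Q
        (HomologicalComplex.quasiIso (ModuleCat.{u} A) (ComplexShape.up ℤ))) :=
    Functor.IsLeftDerivedFunctor.isRightKanExtension _ _
      (HomologicalComplex.quasiIso (ModuleCat.{u} A) (ComplexShape.up ℤ))
  haveI := quasiIso_r X
  exact Groth.L10.DTen.isIso_counit (DRing.tensorCxQ A F)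
    (HomologicalComplex.quasiIso (ModuleCat.{u} A) (ComplexShape.up ℤ)) DerivedCategory.Q
    (R A) (r A) (fun _ => (HomologicalComplex.mem_quasiIso_iff _).2 (quasiIso_r _))
    (AmpTest.tensorCxQ_inverted F)
    (fun _ => AmpTest.tensorCxQ_inverted.isIso_Q_tensor_map F _ (isKFlat_R _) (isKFlat_R _))
    (DRing.LTensorCx A F) _ X (Groth.L10.DTen.isIso_Q_tensor_left ((r A).app X) hF)

/-- `- ⊗^L F` for K-flat `F` -/
noncomputable def compIso : DerivedCategory.Q ⋙ DRing.LTensorCx A F ≅ T F ⋙ DerivedCategory.Q :=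
  haveI := isIso_counit hF
  haveI : IsIso ((DRing.tensorCxQ A F).totalLeftDerivedCounit DerivedCategory.Q
      (HomologicalComplex.quasiIso (ModuleCat.{u} A) (ComplexShape.up ℤ))) := NatIso.isIso_of_isIso_app _
  asIso ((DRing.tensorCxQ A F).totalLeftDerivedCounit DerivedCategory.Q
      (HomologicalComplex.quasiIso (ModuleCat.{u} A) (ComplexShape.up ℤ))) ≪≫
    Functor.isoWhiskerRight (DTen.flipIso F) DerivedCategory.Q

include hF in
theorem triF : DTen.TriF (DRing.LTensorCx A F) :=
  DTen.triF_of_cx _ (T F) (DTen.shortExact_tensorLeft F) (compIso hF)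

include hF in
theorem additive : (DRing.LTensorCx A F).Additive := DTen.additive_of_cx _ (T F) (compIso hF)

include hF in
theorem hom_eq_zero (hI : I.FG) (Z : Dual.D A)
    (h : ∀ P : Dual.D A, DRing.IsDerivedComplete I P → ∀ φ : Z ⟶ P, φ = 0)
    (E : Dual.D A) (hE : DRing.IsDerivedComplete I E) (φ : (DRing.LTensorCx A F).obj Z ⟶ E) : φ = 0 := by
  obtain ⟨s, hs⟩ := hI
  have hsI : Ideal.span {x : A | x ∈ s.toList} = I := by
    rw [← hs]; congr 1; ext; simp
  let fs := s.toList
  let Č := extCech (ModuleCat.of A A) fs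
  have hČ : DRing.IsKFlat A Č := CechTorsion.isKFlat fs
  obtain ⟨J, hJ, -, ⟨e⟩⟩ := CompletionBound.exists_rep E
  haveI := hJ
  obtain ⟨e', -⟩ := exists_iso I (cbij_iso I (𝟙 (DRing.toD J)))
    (cbij_eta I J fs fun x hx => hsI ▸ Ideal.subset_span hx) (isComplete_of_iso I e.symm hE) (isComplete I fs hsI.ge J)
  haveI := RHomComp.isKInjective_homCx hČ J
  haveI := RHomComp.isKInjective_homCx hF (C fs J)
  haveI := RHomComp.isKInjective_homCx hF J
  have hc : DRing.IsDerivedComplete I (DRing.toD (DRing.homCx F (C fs J))) := by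
    haveI := RHomCx.quasiIso_homCxPre (_root_.DTen.braidCx Č F).hom J
    haveI := RHomCx.isIso_Q_map (RHomCx.homCxPre (_root_.DTen.braidCx Č F).hom J)
    refine isComplete_of_iso I ?_ (isComplete I fs hsI.ge (DRing.homCx F J))
    exact DerivedCategory.Q.mapIso (HomTensor.iso Č F J) ≪≫
      (asIso (DerivedCategory.Q.map (RHomCx.homCxPre (_root_.DTen.braidCx Č F).hom J))).symm ≪≫
      DerivedCategory.Q.mapIso (HomTensor.iso F Č J).symm
  let W := DerivedCategory.Q.objPreimage Z
  let eZ : DRing.toD W ≅ Z := DerivedCategory.Q.objObjPreimageIso Z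
  have h0 : IsZero ((DRing.homCx (W ⊗ F) (C fs J)).homology 0) :=
    ((CompletionBound.isZero_homCx_iff 0).2 fun ψ => (cancel_epi eZ.inv).1
      ((h _ (isComplete_shift I hc 0) (eZ.inv ≫ ψ)).trans comp_zero.symm)).of_iso
      ((HomologicalComplex.homologyFunctor _ _ 0).mapIso (HomTensor.iso W F (C fs J))).symm
  let eG : DRing.toD (W ⊗ F) ≅ (DRing.LTensorCx A F).obj Z :=
    DerivedCategory.Q.mapIso (_root_.DTen.braidCx W F) ≪≫ ((compIso hF).app W).symm ≪≫
      (DRing.LTensorCx A F).mapIso eZ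
  let eE : E ≅ (DRing.toD (C fs J))⟦(0 : ℤ)⟧ :=
    e.symm ≪≫ e' ≪≫ ((shiftFunctorZero (Dual.D A) ℤ).app _).symm
  exact (cancel_epi eG.hom).1 ((cancel_mono eE.hom).1
    (((CompletionBound.isZero_homCx_iff 0).1 h0 ((eG.hom ≫ φ) ≫ eE.hom)).trans (by simp)))

include hF in
theorem cbij_map (hI : I.FG) {X Y : Dual.D A} (f : X ⟶ Y) (hf : Cbij I f) :
    Cbij I ((DRing.LTensorCx A F).map f) := by
  haveI := additive hF
  obtain ⟨Z, g, δ, hT⟩ := distinguished_cocone_triangle f
  have hZ : ∀ P : Dual.D A, DRing.IsDerivedComplete I P → ∀ φ : Z ⟶ P, φ = 0 := fun P hP φ => by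
    have hg : g ≫ φ = 0 := (hf P hP).1 (by
      change f ≫ g ≫ φ = f ≫ 0
      rw [← Category.assoc, comp_zero]
      exact (congrArg (· ≫ φ) (comp_distTriang_mor_zero₁₂ _ hT)).trans zero_comp)
    obtain ⟨d, rfl⟩ := Triangle.yoneda_exact₃ _ hT φ hg
    obtain ⟨d', rfl⟩ := (CompletionTriangle.cbij_shift I hf P hP).2 d
    change δ ≫ f⟦(1 : ℤ)⟧' ≫ d' = 0
    rw [← Category.assoc]
    exact (congrArg (· ≫ d') (comp_distTriang_mor_zero₃₁ _ hT)).trans zero_comp
  have hZ' : ∀ P : Dual.D A, DRing.IsDerivedComplete I P → ∀ φ : Z⟦(-1 : ℤ)⟧ ⟶ P, φ = 0 := fun P hP φ => by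
    let e := ((shiftEquiv' (Dual.D A) (-1 : ℤ) 1 (by norm_num)).toAdjunction).homEquiv Z P
    have hs : Subsingleton (Z ⟶ P⟦(1 : ℤ)⟧) := subsingleton_of_forall_eq 0 (hZ _ (isComplete_shift I hP 1))
    exact @Subsingleton.elim _ (@Equiv.subsingleton _ _ e hs) _ _
  intro E hE
  refine ⟨fun a b hab => sub_eq_zero.1 ?_, fun c => ?_⟩
  · obtain ⟨m, hm⟩ := (triF hF _ hT).coexact (a - b)
      (by rw [Preadditive.comp_sub]; exact sub_eq_zero.2 hab)
    rw [← hm, hom_eq_zero hF hI Z hZ E hE m, comp_zero]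
  · obtain ⟨l, hl⟩ := (triF hF _ (inv_rot_of_distTriang _ hT)).coexact c (hom_eq_zero hF hI _ hZ' E hE _)
    exact ⟨l, hl⟩

end Functor

/-! ### completeness -/

theorem tzMod_pi {f : A} {M : Type u} [AddCommGroup M] [Module A M] (h : TzMod f M) (ι : Type) :
    TzMod f (ι → M) := by
  rw [tzMod_iff] at h ⊢
  intro y
  choose x hx hu using fun j : ι => h fun i => y i j
  exact ⟨fun i j => x j i, fun i => funext fun j => hx j i,
    fun x' hx' => funext fun i => funext fun j => congrFun (hu j (fun i => x' i j) fun i => congrFun (hx' i) j) i⟩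

theorem tzMod_tensor_free {f : A} {M : Type u} [AddCommGroup M] [Module A M] (h : TzMod f M)
    (V : Type u) [AddCommGroup V] [Module A V] [Module.Finite A V] [Module.Free A V] : TzMod f (M ⊗[A] V) := by
  rcases subsingleton_or_nontrivial A with hA | hA
  · haveI := Module.subsingleton A (M ⊗[A] V)
    exact TzMod.of_subsingleton
  · exact (TzMod.congr ((LinearEquiv.lTensor M (Module.finBasis A V).equivFun) ≪≫ₗ
      TensorProduct.piScalarRight A A M _)).2 (tzMod_pi h _)

theorem isComplete_tensorCx (Y : DRing.Cx A) (hY : DRing.IsDerivedComplete I (DRing.toD Y)) (M : ModuleCat.{u} A)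
    [Module.Finite A M] [Module.Free A M] : DRing.IsDerivedComplete I (DRing.toD (DRing.tensorCx Y M)) := by
  refine (isDerivedComplete_iff I _).2 fun f hf j => ?_
  have h := (TzMod.congr (CompletionBound.hhIso Y j).toLinearEquiv).1 ((isDerivedComplete_iff I _).1 hY f hf j)
  haveI : (tensorRight M).PreservesHomology := by
    haveI : PreservesFiniteColimits (tensorLeft M) := PreservesColimitsOfSize.preservesFiniteColimits.{u, u} _
    haveI : PreservesFiniteColimits (tensorRight M) :=
      preservesFiniteColimits_of_natIso (BraidedCategory.tensorLeftIsoTensorRight M)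
    exact Functor.preservesHomologyOfExact _
  exact (TzMod.congr ((CompletionBound.hhIso (DRing.tensorCx Y M) j ≪≫
    (Y.sc j).mapHomologyIso (tensorRight M)).toLinearEquiv)).2 (tzMod_tensor_free h M)

theorem isIso_homologyMap {X X' : DRing.Cx A} (g : X ⟶ X') (m : ℤ) (hg : ∀ k, m ≤ k → IsIso (g.f k)) (j : ℤ)
    (hj : m + 1 ≤ j) : IsIso (HomologicalComplex.homologyMap g j) := by
  let φ : X.sc j ⟶ X'.sc j := (HomologicalComplex.shortComplexFunctor (ModuleCat.{u} A) (ComplexShape.up ℤ) j).map g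
  haveI : IsIso φ.τ₁ := hg _ (by simp; omega)
  haveI : IsIso φ.τ₂ := hg _ (by omega)
  haveI : IsIso φ.τ₃ := hg _ (by simp; omega)
  haveI : IsIso φ := ShortComplex.isIso_of_isIso φ
  exact (inferInstance : IsIso (ShortComplex.homologyMap φ))

theorem isIso_whiskerLeft_f {Y F F' : DRing.Cx A} (g : F' ⟶ F) (b m : ℤ) (hY : DRing.VanishesAbove Y b)
    (hg : ∀ q, m ≤ q → IsIso (g.f q)) (k : ℤ) (hk : m + b ≤ k) : IsIso ((Y ◁ g).f k) := by
  have hz : ∀ p q (W : ModuleCat.{u} A), p + q = k → ¬ m ≤ q →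
      IsZero (((curriedTensor (ModuleCat.{u} A)).obj (Y.X p)).obj W) := fun p q W hpq hq =>
    ((curriedTensor (ModuleCat.{u} A)).flip.obj W).map_isZero (hY p (by omega))
  let v : (Y ⊗ F).X k ⟶ (Y ⊗ F').X k := HomologicalComplex.mapBifunctorDesc fun p q h =>
    if hq : m ≤ q then
      haveI := hg q hq
      ((curriedTensor (ModuleCat.{u} A)).obj (Y.X p)).map (inv (g.f q)) ≫
        HomologicalComplex.ιMapBifunctor Y F' (curriedTensor (ModuleCat.{u} A)) (ComplexShape.up ℤ) p q k h
    else 0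
  have hmap : ∀ p q (h : p + q = k),
      HomologicalComplex.ιMapBifunctor Y F' (curriedTensor (ModuleCat.{u} A)) (ComplexShape.up ℤ) p q k h ≫
          (Y ◁ g).f k =
        ((curriedTensor (ModuleCat.{u} A)).obj (Y.X p)).map (g.f q) ≫
          HomologicalComplex.ιMapBifunctor Y F (curriedTensor (ModuleCat.{u} A)) (ComplexShape.up ℤ) p q k h := by
    intro p q h
    have h1 := HomologicalComplex.ι_mapBifunctorMap (𝟙 Y) g (curriedTensor (ModuleCat.{u} A))
      (ComplexShape.up ℤ) p q k h
    rw [HomologicalComplex.id_f, CategoryTheory.Functor.map_id, NatTrans.id_app, Category.id_comp] at h1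
    exact h1
  refine ⟨v, ?_, ?_⟩
  · refine HomologicalComplex.mapBifunctor.hom_ext fun p q h => ?_
    by_cases hq : m ≤ q
    · haveI := hg q hq
      erw [reassoc_of% (hmap p q h), HomologicalComplex.ι_mapBifunctorDesc, dif_pos hq, Category.comp_id]
      rw [← Category.assoc, ← Functor.map_comp, IsIso.hom_inv_id, CategoryTheory.Functor.map_id, Category.id_comp]
    · exact (hz p q _ h hq).eq_of_src _ _
  · refine HomologicalComplex.mapBifunctor.hom_ext fun p q h => ?_
    by_cases hq : m ≤ q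
    · haveI := hg q hq
      rw [HomologicalComplex.ι_mapBifunctorDesc_assoc, dif_pos hq, Category.assoc]
      erw [hmap p q h, Category.comp_id]
      rw [← Category.assoc, ← Functor.map_comp, IsIso.inv_hom_id, CategoryTheory.Functor.map_id, Category.id_comp]
    · exact (hz p q _ h hq).eq_of_src _ _

/-- tensoring a bounded above complete object with a pseudo-coherent complex -/
theorem isComplete_tensor {Y F : DRing.Cx A} {b c : ℤ} (hYb : DRing.VanishesAbove Y b)
    (hYf : ∀ i, Module.Free A (Y.X i)) (hY : DRing.IsDerivedComplete I (DRing.toD Y))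
    (hFc : DRing.VanishesAbove F c) (hFf : DRing.TermwiseFiniteFree F) :
    DRing.IsDerivedComplete I (DRing.toD (Y ⊗ F)) := by
  have hYk : DRing.IsKFlat A Y := of_bounded Y b hYb (Groth.L10.DR.flat_of_free hYf)
  haveI := AmpTest.hasLTensorCx Y
  haveI := additive hYk
  let G := DRing.LTensorCx A Y
  let P : ObjectProperty (Dual.D A) := fun X => DRing.IsDerivedComplete I (G.obj X)
  haveI : P.IsClosedUnderIsomorphisms := ⟨fun e h => isComplete_of_iso I (G.mapIso e) h⟩
  have hbdd : ∀ m, DRing.IsDerivedComplete I (DRing.toD (Y ⊗ Groth.L02.PC.trunc F m)) := fun m => by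
    let Fm := Groth.L02.PC.trunc F m
    have hFm := Groth.L02.PC.trunc_finiteFree F m fun i _ => hFf i
    refine isComplete_of_iso I ((compIso hYk).app Fm) ?_
    refine Groth.L10.DR.of_termwise P (fun Z hZ f hf n => ?_) (fun T hT h1 h3 f hf n => ?_) Fm m c
      (Groth.L02.PC.trunc_vanishesOutside F m c hFc) fun i _ _ => ?_
    · exact ⟨fun a a' => ((CategoryTheory.shiftFunctor (Dual.D A) n).map_isZero (G.map_isZero hZ)).eq_of_tgt _ _⟩
    · refine subsingleton_of_forall_eq 0 fun u => ?_
      obtain ⟨C', i', δ, φ, ψ, hT', -, hψ⟩ := triF hYk T hT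
      haveI := h3 f hf n
      haveI := h1 f hf n
      obtain ⟨l, hl⟩ := Triangle.coyoneda_exact₂ _ (Triangle.shift_distinguished _ hT' n) u
        (Subsingleton.elim (α := Dual.inD A (Localization.Away f) ⟶ (G.obj T.obj₃)⟦n⟧) _ _)
      have hl0 : l ≫ ψ⟦n⟧' = 0 :=
        Subsingleton.elim (α := Dual.inD A (Localization.Away f) ⟶ (G.obj T.obj₁)⟦n⟧) _ _
      rw [hl]
      change l ≫ (n.negOnePow • i'⟦n⟧') = 0
      rw [Linear.comp_units_smul, ← hψ, Functor.map_comp, ← Category.assoc, hl0, zero_comp, smul_zero]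
    · haveI : Module.Finite A (Fm.X i) := (hFm i).1
      haveI : Module.Free A (Fm.X i) := (hFm i).2
      let S := (HomologicalComplex.single (ModuleCat.{u} A) (ComplexShape.up ℤ) 0).obj (Fm.X i)
      refine isComplete_of_iso I ?_ (isComplete_shift I (isComplete_tensorCx Y hY (Fm.X i)) (-i))
      exact (CategoryTheory.shiftFunctor (Dual.D A) (-i)).mapIso
          (DerivedCategory.Q.mapIso (KFlatLBC.singleTensorIso Y (Fm.X i) ≪≫ _root_.DTen.braidCx S Y)) ≪≫
        ((DerivedCategory.Q (C := ModuleCat.{u} A)).commShiftIso (-i)).symm.app (Y ⊗ S) ≪≫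
        DerivedCategory.Q.mapIso (CochainComplex.mapBifunctorShift₂Iso Y S (curriedTensor (ModuleCat.{u} A)) (-i)).symm ≪≫
        ((compIso hYk).app (S⟦-i⟧)).symm ≪≫
        G.mapIso (((DerivedCategory.Q (C := ModuleCat.{u} A)).commShiftIso (-i)).app S ≪≫
          (CategoryTheory.shiftFunctor (Dual.D A) (-i)).mapIso
            ((DerivedCategory.singleFunctorIsoCompQ (ModuleCat.{u} A) 0).app (Fm.X i)).symm ≪≫
          Groth.L10.DR.singleShift i (Fm.X i))
  refine (isDerivedComplete_iff I _).2 fun f hf j => ?_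
  let m := j - 1 - b
  have h := (isDerivedComplete_iff I _).1 (hbdd m) f hf j
  haveI := isIso_homologyMap (Y ◁ Groth.L02.PC.truncι F m) (j - 1) (fun k hk =>
    isIso_whiskerLeft_f _ b m hYb (fun q hq => (ConcreteCategory.isIso_iff_bijective _).2
      (Groth.L02.PC.truncι_bijective F m hq)) k (by omega)) j (by omega)
  exact (TzMod.congr (CompletionBound.hhIso (Y ⊗ Groth.L02.PC.trunc F m) j ≪≫
    asIso (HomologicalComplex.homologyMap (Y ◁ Groth.L02.PC.truncι F m) j) ≪≫
    (CompletionBound.hhIso (Y ⊗ F) j).symm).toLinearEquiv).1 h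

theorem completion_rep [IsNoetherianRing A] [DRing.HasDerivedCompletion I] (K : Dual.D A) (b : ℤ)
    (hK : ∀ i : ℤ, b < i → Subsingleton (Dual.HD A K i)) :
    ∃ (Y : DRing.Cx A) (b' : ℤ), DRing.VanishesAbove Y b' ∧ (∀ i, Module.Free A (Y.X i)) ∧
      DRing.IsDerivedComplete I (DRing.toD Y) ∧
      Nonempty (DRing.toD Y ≅ ((DRing.derivedCompletion I).obj K).obj) := by
  obtain ⟨s, hs⟩ := (isNoetherianRing_iff_ideal_fg A).1 inferInstance I
  have hsI : Ideal.span {x : A | x ∈ s.toList} = I := by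
    rw [← hs]; congr 1; ext; simp
  obtain ⟨Y, hYb, hYf, -, ⟨e⟩⟩ := Groth.L02.PC.exists_free_rep
    (K := ((DRing.derivedCompletion I).obj K).obj) (n := b) fun i hi =>
      CompletionBound.isZero_completion I s.toList hsI K i (Or.inl fun j hj =>
        haveI := hK j (by omega); ModuleCat.isZero_of_subsingleton _)
  exact ⟨Y, b, hYb, hYf, isComplete_of_iso I e.symm ((DRing.derivedCompletion I).obj K).property, ⟨e⟩⟩

end Groth.L10.CompletionTensor
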