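import Groth.Agent.L10.DRing.CompletionTensor
import Groth.Agent.L10.DRing.Modules

/-! Derived completion and the derived tensor product with a finite module. -/

universe u

open CategoryTheory CategoryTheory.Limits MonoidalCategory CategoryTheory.Pretriangulated DerCA
open scoped TensorProduct

attribute [local instance] HasDerivedCategory.standard

set_option backward.defeqAttrib.useBackward true
set_option backward.isDefEq.respectTransparency false
set_option linter.style.haveILetI false

namespace Groth.L10.CompletionTensorModule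

open Groth.L10.KFlat Groth.L10.CompletionFormula

variable {A : Type u} [CommRing A]

theorem singleTensorIso_naturality_right (N : ModuleCat.{u} A) {P Q : DRing.Cx A} (f : P ⟶ Q) :
    (CompletionAdic.tC N).map f ≫ (KFlatLBC.singleTensorIso Q N).hom =
      (KFlatLBC.singleTensorIso P N).hom ≫
        (HomologicalComplex.single (ModuleCat.{u} A) (ComplexShape.up ℤ) 0).obj N ◁ f := by
  ext n : 1
  simp only [KFlatLBC.singleTensorIso, Iso.trans_hom, HomologicalComplex.comp_f]
  refine ModuleCat.hom_ext (TensorProduct.ext' fun x y => ?_)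
  simp [Groth.L00.SingleTotal.iso, Groth.L00.SingleTotal.XIso]
  have h := congrArg (fun φ => φ.hom) (HomologicalComplex.ι_mapBifunctorMap
    (𝟙 ((HomologicalComplex.single (ModuleCat.{u} A) (ComplexShape.up ℤ) 0).obj N)) f
    (curriedTensor (ModuleCat.{u} A)) (ComplexShape.up ℤ) 0 n n (zero_add n))
  refine Eq.trans ?_ (LinearMap.congr_fun h _).symm
  simp
  rfl

theorem compute_naturality (M : ModuleCat.{u} A) [DRing.HasLTensor A M] {P Q : DRing.Cx A}
    (hP : DRing.IsKFlat A P) (hQ : DRing.IsKFlat A Q) (f : P ⟶ Q) :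
    (DRing.LTensor A M).map (DerivedCategory.Q.map f) ≫ (LTensorKFlat.compute M Q hQ).hom =
      (LTensorKFlat.compute M P hP).hom ≫ DerivedCategory.Q.map ((CompletionAdic.tC M).map f) := by
  let c := DerivedCategory.quotientCompQhIso (ModuleCat.{u} A)
  let ν := (DRing.tensorKh A M).totalLeftDerivedCounit DerivedCategory.Qh
    (HomotopyCategory.quasiIso (ModuleCat.{u} A) (ComplexShape.up ℤ))
  let q := HomotopyCategory.quotient (ModuleCat.{u} A) (ComplexShape.up ℤ)
  have h1 : DerivedCategory.Q.map f ≫ c.inv.app Q = c.inv.app P ≫ DerivedCategory.Qh.map (q.map f) :=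
    c.inv.naturality f
  have h2 := ν.naturality (q.map f)
  have h3 : (DRing.tensorKh A M).map (q.map f) ≫ c.hom.app (DRing.tensorCx Q M) =
      c.hom.app (DRing.tensorCx P M) ≫ DerivedCategory.Q.map ((CompletionAdic.tC M).map f) :=
    c.hom.naturality ((CompletionAdic.tC M).map f)
  simp only [LTensorKFlat.compute, Iso.trans_hom, Functor.mapIso_hom, asIso_hom, Iso.app_hom, Iso.symm_hom,
    Iso.app_inv]
  rw [← Functor.map_comp_assoc]
  erw [h1, Functor.map_comp, Category.assoc, reassoc_of% h2, h3]
  simp only [Category.assoc]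
  rfl

theorem cbij_iso_conj {I : Ideal A} {X Y X' Y' : Dual.D A} (a : X ≅ X') (b : Y ≅ Y') {f : X ⟶ Y} {g : X' ⟶ Y'}
    (h : a.hom ≫ g = f ≫ b.hom) (hf : Cbij I f) : Cbij I g := by
  rw [show g = a.inv ≫ f ≫ b.hom by rw [← h, Iso.inv_hom_id_assoc]]
  exact Cbij.comp I (cbij_iso I _) (Cbij.comp I hf (cbij_iso I _))

theorem main [IsNoetherianRing A] (I : Ideal A) [DRing.HasDerivedCompletion I] (M : Type u) [AddCommGroup M]
    [Module A M] [Module.Finite A M] [DRing.HasLTensor A (ModuleCat.of A M)] (K : Dual.D A) (b : ℤ)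
    (hK : ∀ i : ℤ, b < i → Subsingleton (Dual.HD A K i)) :
    DRing.IsDerivedComplete I ((DRing.LTensor A (ModuleCat.of A M)).obj ((DRing.derivedCompletion I).obj K).obj) ∧
      Cbij I ((DRing.LTensor A (ModuleCat.of A M)).map (DRing.toDerivedCompletion I K)) := by
  have hI : I.FG := (isNoetherianRing_iff_ideal_fg A).1 inferInstance I
  let N := ModuleCat.of A M
  let S := (HomologicalComplex.single (ModuleCat.{u} A) (ComplexShape.up ℤ) 0).obj N
  obtain ⟨F, c, hFc, hFf, ⟨eF⟩⟩ := Groth.L10.DR.pcModule'_noetherian (A := A) M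
  have hFk : DRing.IsKFlat A F := of_bounded F c hFc (Groth.L10.DR.flat_of_free fun i => (hFf i).2)
  haveI : F.IsKProjective :=
    Groth.L02.PC.isKProjective_of_vanishesAbove hFc fun i => haveI := (hFf i).2; inferInstance
  let eS : DRing.toD F ≅ DRing.toD S :=
    eF ≪≫ (DerivedCategory.singleFunctorIsoCompQ (ModuleCat.{u} A) 0).app N
  obtain ⟨q, hq⟩ := Groth.L02.PC.exists_chainMap eS.hom
  haveI : QuasiIso q := (DerivedCategory.isIso_Q_map_iff_quasiIso _ q).1 (hq ▸ inferInstance)
  haveI := AmpTest.hasLTensorCx F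
  obtain ⟨Y, b', hYb, hYf, hY, ⟨e⟩⟩ := CompletionTensor.completion_rep (I := I) K b hK
  obtain ⟨W, hWb, hWf, hWk, ⟨eW⟩⟩ := Groth.L02.PC.exists_free_rep (K := K) (n := b)
    fun i hi => haveI := hK i hi; ModuleCat.isZero_of_subsingleton _
  haveI := hWk
  have hYk : DRing.IsKFlat A Y := of_bounded Y b' hYb (Groth.L10.DR.flat_of_free hYf)
  have hWflat : DRing.IsKFlat A W := of_bounded W b hWb (Groth.L10.DR.flat_of_free hWf)
  obtain ⟨f, hf⟩ := Groth.L02.PC.exists_chainMap (eW.hom ≫ DRing.toDerivedCompletion I K ≫ e.inv)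
  have hcf : Cbij I (DerivedCategory.Q.map f) :=
    cbij_iso_conj eW.symm e.symm (by rw [hf]; simp) (cbij_toDerivedCompletion I K)
  haveI := DTen.isIso_Q_tensor_left q hWflat
  haveI := DTen.isIso_Q_tensor_left q hYk
  have hF : Cbij I (DerivedCategory.Q.map (F ◁ f)) := by
    refine cbij_iso_conj ((CompletionTensor.compIso hFk).app W) ((CompletionTensor.compIso hFk).app Y) ?_
      (CompletionTensor.cbij_map hFk hI _ hcf)
    have h := (CompletionTensor.compIso hFk).hom.naturality f
    have : (T F).map f = F ◁ f := MonoidalCategory.id_tensorHom F f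
    rw [Functor.comp_map, Functor.comp_map, this] at h
    exact h.symm
  have hS : Cbij I (DerivedCategory.Q.map (S ◁ f)) :=
    cbij_iso_conj (asIso (DerivedCategory.Q.map (q ▷ W))) (asIso (DerivedCategory.Q.map (q ▷ Y)))
      (by rw [asIso_hom, asIso_hom, ← Functor.map_comp, ← Functor.map_comp, whisker_exchange]) hF
  have htC : Cbij I (DerivedCategory.Q.map ((CompletionAdic.tC N).map f)) :=
    cbij_iso_conj (DerivedCategory.Q.mapIso (KFlatLBC.singleTensorIso W N)).symm
      (DerivedCategory.Q.mapIso (KFlatLBC.singleTensorIso Y N)).symm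
      (by
        rw [Iso.symm_hom, Iso.symm_hom, Functor.mapIso_inv, Functor.mapIso_inv, ← Functor.map_comp, ← Functor.map_comp]
        congr 1
        rw [Iso.inv_comp_eq, ← Category.assoc, Iso.eq_comp_inv]
        exact singleTensorIso_naturality_right N f) hS
  have hL : Cbij I ((DRing.LTensor A N).map (DerivedCategory.Q.map f)) :=
    cbij_iso_conj (LTensorKFlat.compute N W hWflat).symm (LTensorKFlat.compute N Y hYk).symm
      (by
        rw [Iso.symm_hom, Iso.symm_hom, Iso.inv_comp_eq, ← Category.assoc, Iso.eq_comp_inv]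
        exact compute_naturality N hWflat hYk f) htC
  refine ⟨?_, cbij_iso_conj ((DRing.LTensor A N).mapIso eW) ((DRing.LTensor A N).mapIso e)
    (by simp only [Functor.mapIso_hom, ← Functor.map_comp, hf, Category.assoc, Iso.inv_hom_id, Category.comp_id]; exact (Functor.map_comp _ _ _).symm) hL⟩
  refine isComplete_of_iso I ?_ (CompletionTensor.isComplete_tensor hYb hYf hY hFc hFf)
  exact DerivedCategory.Q.mapIso (_root_.DTen.braidCx Y F) ≪≫ asIso (DerivedCategory.Q.map (q ▷ Y)) ≪≫
    DerivedCategory.Q.mapIso (KFlatLBC.singleTensorIso Y N).symm ≪≫ (LTensorKFlat.compute N Y hYk).symm ≪≫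
    (DRing.LTensor A N).mapIso e

end Groth.L10.CompletionTensorModule
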