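import Groth.Agent.L28.TensorCx
import Groth.Prelude.Def_DRing2
import Groth.Prelude.Def_DRing4
import Mathlib.CategoryTheory.Monoidal.Rigid.Basic
import Mathlib.Algebra.Module.Projective
import Mathlib.LinearAlgebra.StdBasis
import Mathlib.Algebra.Category.ModuleCat.Monoidal.Basic

/-!
# Dualizable complexes of modules are bounded and termwise finite projective
-/

set_option autoImplicit false
set_option backward.defeqAttrib.useBackward true
set_option backward.isDefEq.respectTransparency false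
set_option backward.isDefEq.respectTransparency.types false
universe u

open CategoryTheory CategoryTheory.Limits MonoidalCategory HomologicalComplex
open scoped TensorProduct

namespace Groth.L10.CxDual

open Groth.L28.TensorCx

variable {R : Type u} [CommRing R]

/-- `1` in degree `0` of the unit complex. -/
noncomputable def one0 : (𝟙_ (DRing.Cx R)).X 0 :=
  (singleObjXSelf (ComplexShape.up ℤ) 0 (𝟙_ (ModuleCat.{u} R))).inv (1 : R)

/-- The coefficient of `1`. -/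
noncomputable def val0 : (𝟙_ (DRing.Cx R)).X 0 →ₗ[R] R :=
  ((singleObjXSelf (ComplexShape.up ℤ) 0 (𝟙_ (ModuleCat.{u} R))).hom).hom

theorem val0_one0 : val0 (R := R) one0 = 1 :=
  (singleObjXSelf (ComplexShape.up ℤ) 0 (𝟙_ (ModuleCat.{u} R))).inv_hom_id_apply (1 : R)

theorem unit_eq_zero {i : ℤ} (hi : i ≠ 0) (w : (𝟙_ (DRing.Cx R)).X i) : w = 0 :=
  haveI := ModuleCat.subsingleton_of_isZero
    (isZero_single_obj_X (ComplexShape.up ℤ) 0 (𝟙_ (ModuleCat.{u} R)) i hi)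
  Subsingleton.elim (α := (((single (ModuleCat.{u} R) (ComplexShape.up ℤ) 0).obj (𝟙_ _)).X i : Type u)) w 0

theorem lam_ins (Y : DRing.Cx R) (n : ℤ) (u : (𝟙_ (DRing.Cx R)).X 0) (y : Y.X n) :
    (λ_ Y).hom.f n (ins (𝟙_ (DRing.Cx R)) Y 0 n n (zero_add n) (u ⊗ₜ[R] y)) = val0 u • y := by
  have h : ιTensorObj (𝟙_ (DRing.Cx R)) Y 0 n n (zero_add n) ≫ (λ_ Y).hom.f n =
      (singleObjXSelf (ComplexShape.up ℤ) 0 (𝟙_ (ModuleCat.{u} R))).hom ▷ Y.X n ≫ (λ_ (Y.X n)).hom := by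
    have h := congrArg (fun t => t.f n) (λ_ Y).inv_hom_id
    have h' : (λ_ Y).inv.f n = (leftUnitor' Y).inv n := rfl
    simp only [comp_f, id_f] at h
    rw [h', leftUnitor'_inv] at h
    rw [← cancel_epi ((λ_ (Y.X n)).inv ≫
      (singleObjXSelf (ComplexShape.up ℤ) 0 (𝟙_ (ModuleCat.{u} R))).inv ▷ Y.X n)]
    simp only [Category.assoc] at h ⊢
    rw [inv_hom_whiskerRight_assoc, Iso.inv_hom_id]
    exact h
  exact ConcreteCategory.congr_hom h (u ⊗ₜ[R] y)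

theorem rho_ins (Y : DRing.Cx R) (n : ℤ) (y : Y.X n) (u : (𝟙_ (DRing.Cx R)).X 0) :
    (ρ_ Y).hom.f n (ins Y (𝟙_ (DRing.Cx R)) n 0 n (add_zero n) (y ⊗ₜ[R] u)) = val0 u • y := by
  have h : ιTensorObj Y (𝟙_ (DRing.Cx R)) n 0 n (add_zero n) ≫ (ρ_ Y).hom.f n =
      Y.X n ◁ (singleObjXSelf (ComplexShape.up ℤ) 0 (𝟙_ (ModuleCat.{u} R))).hom ≫ (ρ_ (Y.X n)).hom := by
    have h := congrArg (fun t => t.f n) (ρ_ Y).inv_hom_id
    have h' : (ρ_ Y).inv.f n = (rightUnitor' Y).inv n := rfl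
    simp only [comp_f, id_f] at h
    rw [h', rightUnitor'_inv] at h
    rw [← cancel_epi ((ρ_ (Y.X n)).inv ≫
      Y.X n ◁ (singleObjXSelf (ComplexShape.up ℤ) 0 (𝟙_ (ModuleCat.{u} R))).inv)]
    simp only [Category.assoc] at h ⊢
    rw [whiskerLeft_inv_hom_assoc, Iso.inv_hom_id]
    exact h
  exact ConcreteCategory.congr_hom h (y ⊗ₜ[R] u)

theorem assoc_ins (X Y Z : DRing.Cx R) (p q k a b j : ℤ) (ha : p + q = a) (hb : q + k = b)
    (h₁ : a + k = j) (h₂ : p + b = j) (x : X.X p) (y : Y.X q) (z : Z.X k) :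
    (α_ X Y Z).hom.f j (ins (X ⊗ Y) Z a k j h₁ (ins X Y p q a ha (x ⊗ₜ[R] y) ⊗ₜ[R] z)) =
      ins X (Y ⊗ Z) p b j h₂ (x ⊗ₜ[R] ins Y Z q k b hb (y ⊗ₜ[R] z)) := by
  have h := HomologicalComplex.ι_mapBifunctorAssociatorX_hom (curriedAssociatorNatIso (ModuleCat.{u} R))
    X Y Z (ComplexShape.up ℤ) (ComplexShape.up ℤ) (ComplexShape.up ℤ) p q k j
    (show p + q + k = j by omega)
  rw [mapBifunctor₁₂.ι_eq (curriedTensor _) (curriedTensor _) X Y Z (ComplexShape.up ℤ) (ComplexShape.up ℤ) p q k a j ha h₁,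
    mapBifunctor₂₃.ι_eq (curriedTensor _) (curriedTensor _) X Y Z (ComplexShape.up ℤ) (ComplexShape.up ℤ) (ComplexShape.up ℤ) p q k b j hb h₂] at h
  exact ConcreteCategory.congr_hom h ((x ⊗ₜ[R] y) ⊗ₜ[R] z)

theorem exists_decomp (X Y : DRing.Cx R) (n : ℤ) (t : (X ⊗ Y).X n) :
    ∃ (m : ℕ) (s : Fin m → Σ (p : ℤ) (q : ℤ), PLift (p + q = n) × X.X p × Y.X q),
      t = ∑ i, ins X Y (s i).1 (s i).2.1 n (s i).2.2.1.down ((s i).2.2.2.1 ⊗ₜ[R] (s i).2.2.2.2) := by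
  classical
  let g : (Σ (p : ℤ) (q : ℤ), PLift (p + q = n) × X.X p × Y.X q) → (X ⊗ Y).X n := fun v =>
    ins X Y v.1 v.2.1 n v.2.2.1.down (v.2.2.2.1 ⊗ₜ[R] v.2.2.2.2)
  have htop : Submodule.span R (Set.range g) = ⊤ := by
    rw [eq_top_iff, ← fil_eq_top X Y (S := fun _ _ => True) (fun _ _ _ h => absurd trivial h)]
    refine fil_le X Y fun p q h _ z => ?_
    induction z using TensorProduct.induction_on with
    | zero => rw [map_zero]; exact zero_mem _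
    | tmul x y => exact Submodule.subset_span ⟨⟨p, q, ⟨h⟩, x, y⟩, rfl⟩
    | add a b ha hb => rw [map_add]; exact add_mem ha hb
  obtain ⟨m, c, v, hv⟩ := Submodule.mem_span_set'.mp (htop.ge trivial : t ∈ _)
  choose w hw using fun i => (v i).2
  refine ⟨m, fun i => ⟨(w i).1, (w i).2.1, (w i).2.2.1, c i • (w i).2.2.2.1, (w i).2.2.2.2⟩, ?_⟩
  rw [← hv]
  refine Finset.sum_congr rfl fun i _ => ?_
  show c i • ((v i).1 : (X ⊗ Y).X n) = _
  rw [← hw i]
  show c i • ins X Y _ _ n _ (_ ⊗ₜ[R] _) = ins X Y _ _ n _ ((c i • _) ⊗ₜ[R] _)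
  rw [← map_smul, TensorProduct.smul_tmul']

/-- Dual bases give finite projective modules, zero when empty. -/
theorem of_dual_basis {W : Type u} [AddCommGroup W] [Module R W] {ι : Type*} [Fintype ι]
    (f : ι → W →ₗ[R] R) (w : ι → W) (h : ∀ x, ∑ i, f i x • w i = x) :
    Module.Finite R W ∧ Module.Projective R W := by
  classical
  let g : (ι → R) →ₗ[R] W := Fintype.linearCombination R w
  let s : W →ₗ[R] (ι → R) := LinearMap.pi f
  have hgs : g ∘ₗ s = LinearMap.id := LinearMap.ext fun x => h x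
  exact ⟨Module.Finite.of_surjective g fun x => ⟨s x, LinearMap.congr_fun hgs x⟩,
    haveI : Module.Projective R (ι → R) := Module.Projective.of_free
    Module.Projective.of_split s g hgs⟩

section Terms

variable (M N : DRing.Cx R) [ExactPairing M N] (p q j : ℤ) (hpq : p + q = 0)

/-- The functional of a summand. -/
noncomputable def lf (hi : p = j) (b : N.X q) : M.X j →ₗ[R] R :=
  val0 ∘ₗ ((ε_ M N).f 0).hom ∘ₗ ins N M q j 0 (by omega) ∘ₗ TensorProduct.mk R (N.X q) (M.X j) b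

/-- The functional of a summand. -/
noncomputable def rf (hi : q = j) (a : M.X p) : N.X j →ₗ[R] R :=
  val0 ∘ₗ ((ε_ M N).f 0).hom ∘ₗ ins N M j p 0 (by omega) ∘ₗ (TensorProduct.mk R (N.X j) (M.X p)).flip a

/-- The contribution of a summand to the left triangle. -/
noncomputable def lt (a : M.X p) (b : N.X q) (x : M.X j) : M.X j :=
  (ρ_ M).hom.f j ((M ◁ ε_ M N).f j ((α_ M N M).hom.f j
    (ins (M ⊗ N) M 0 j j (zero_add j) (ins M N p q 0 hpq (a ⊗ₜ[R] b) ⊗ₜ[R] x))))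

theorem lt_eq (a : M.X p) (b : N.X q) (x : M.X j) :
    lt M N p q j hpq a b x = if hi : p = j then lf M N p q j hpq hi b x • (hi ▸ a) else 0 := by
  unfold lt
  by_cases hi : p = j
  · subst hi
    rw [dif_pos rfl, assoc_ins M N M p q p 0 0 p hpq (by omega) (zero_add p) (add_zero p) a b x]
    have e3 : (M ◁ ε_ M N).f p (ins M (N ⊗ M) p 0 p (add_zero p) (a ⊗ₜ[R] ins N M q p 0 (by omega) (b ⊗ₜ[R] x))) =
        ins M (𝟙_ (DRing.Cx R)) p 0 p (add_zero p) (a ⊗ₜ[R] (ε_ M N).f 0 (ins N M q p 0 (by omega) (b ⊗ₜ[R] x))) :=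
      (map_ins (𝟙 M) (ε_ M N) p 0 p (add_zero p) _).trans rfl
    rw [e3, rho_ins]
    rfl
  · rw [dif_neg hi, assoc_ins M N M p q j 0 (q + j) j hpq rfl (zero_add j) (by omega) a b x]
    have e3 : (M ◁ ε_ M N).f j (ins M (N ⊗ M) p (q + j) j (by omega) (a ⊗ₜ[R] ins N M q j (q + j) rfl (b ⊗ₜ[R] x))) =
        ins M (𝟙_ (DRing.Cx R)) p (q + j) j (by omega) (a ⊗ₜ[R] (ε_ M N).f (q + j) (ins N M q j (q + j) rfl (b ⊗ₜ[R] x))) :=
      (map_ins (𝟙 M) (ε_ M N) p (q + j) j (by omega) _).trans rfl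
    rw [e3, unit_eq_zero (show q + j ≠ 0 by omega) ((ε_ M N).f (q + j) (ins N M q j (q + j) rfl (b ⊗ₜ[R] x))),
      TensorProduct.tmul_zero, map_zero, map_zero]

/-- The contribution of a summand to the right triangle. -/
noncomputable def rt (a : M.X p) (b : N.X q) (y : N.X j) : N.X j :=
  (λ_ N).hom.f j ((ε_ M N ▷ N).f j ((α_ N M N).inv.f j
    (ins N (M ⊗ N) j 0 j (add_zero j) (y ⊗ₜ[R] ins M N p q 0 hpq (a ⊗ₜ[R] b)))))

theorem assoc_inv_ins (X Y Z : DRing.Cx R) (p q k a b j : ℤ) (ha : p + q = a) (hb : q + k = b)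
    (h₁ : a + k = j) (h₂ : p + b = j) (x : X.X p) (y : Y.X q) (z : Z.X k) :
    (α_ X Y Z).inv.f j (ins X (Y ⊗ Z) p b j h₂ (x ⊗ₜ[R] ins Y Z q k b hb (y ⊗ₜ[R] z))) =
      ins (X ⊗ Y) Z a k j h₁ (ins X Y p q a ha (x ⊗ₜ[R] y) ⊗ₜ[R] z) := by
  rw [← assoc_ins X Y Z p q k a b j ha hb h₁ h₂ x y z, ← ConcreteCategory.comp_apply, ← comp_f,
    Iso.hom_inv_id, id_f, ConcreteCategory.id_apply]

theorem rt_eq (a : M.X p) (b : N.X q) (y : N.X j) :
    rt M N p q j hpq a b y = if hi : q = j then rf M N p q j hpq hi a y • (hi ▸ b) else 0 := by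
  unfold rt
  by_cases hi : q = j
  · subst hi
    rw [dif_pos rfl, assoc_inv_ins N M N q p q 0 0 q (by omega) hpq (zero_add q) (add_zero q) y a b]
    have e3 : (ε_ M N ▷ N).f q (ins (N ⊗ M) N 0 q q (zero_add q) (ins N M q p 0 (by omega) (y ⊗ₜ[R] a) ⊗ₜ[R] b)) =
        ins (𝟙_ (DRing.Cx R)) N 0 q q (zero_add q) ((ε_ M N).f 0 (ins N M q p 0 (by omega) (y ⊗ₜ[R] a)) ⊗ₜ[R] b) :=
      (map_ins (ε_ M N) (𝟙 N) 0 q q (zero_add q) _).trans rfl
    rw [e3, lam_ins]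
    rfl
  · rw [dif_neg hi, assoc_inv_ins N M N j p q (j + p) 0 j rfl hpq (by omega) (add_zero j) y a b]
    have e3 : (ε_ M N ▷ N).f j (ins (N ⊗ M) N (j + p) q j (by omega) (ins N M j p (j + p) rfl (y ⊗ₜ[R] a) ⊗ₜ[R] b)) =
        ins (𝟙_ (DRing.Cx R)) N (j + p) q j (by omega) ((ε_ M N).f (j + p) (ins N M j p (j + p) rfl (y ⊗ₜ[R] a)) ⊗ₜ[R] b) :=
      (map_ins (ε_ M N) (𝟙 N) (j + p) q j (by omega) _).trans rfl
    rw [e3, unit_eq_zero (show j + p ≠ 0 by omega) ((ε_ M N).f (j + p) (ins N M j p (j + p) rfl (y ⊗ₜ[R] a))),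
      TensorProduct.zero_tmul, map_zero, map_zero]

end Terms

variable (M N : DRing.Cx R) [ExactPairing M N]

include N in
theorem left_conclusion :
    ∃ S : Finset ℤ, ∀ j : ℤ, (Module.Finite R (M.X j) ∧ Module.Projective R (M.X j)) ∧
      (j ∉ S → IsZero (M.X j)) := by
  classical
  obtain ⟨m, s, hs⟩ := exists_decomp M N 0 ((η_ M N).f 0 one0)
  refine ⟨Finset.univ.image fun i => (s i).1, fun j => ?_⟩
  let f : Fin m → M.X j →ₗ[R] R := fun i => if hi : (s i).1 = j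
    then lf M N (s i).1 (s i).2.1 j (s i).2.2.1.down hi (s i).2.2.2.2 else 0
  let w : Fin m → M.X j := fun i => if hi : (s i).1 = j then hi ▸ (s i).2.2.2.1 else 0
  have key : ∀ x, ∑ i, f i x • w i = x := by
    intro x
    have h := congrArg (fun φ : 𝟙_ (DRing.Cx R) ⊗ M ⟶ M ⊗ 𝟙_ (DRing.Cx R) =>
      (ρ_ M).hom.f j (φ.f j (ins (𝟙_ (DRing.Cx R)) M 0 j j (zero_add j) (one0 ⊗ₜ[R] x))))
      (ExactPairing.evaluation_coevaluation M N)
    simp only [comp_f] at h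
    have hr : (ρ_ M).hom.f j ((ρ_ M).inv.f j ((λ_ M).hom.f j
        (ins (𝟙_ (DRing.Cx R)) M 0 j j (zero_add j) (one0 ⊗ₜ[R] x)))) = x := by
      rw [← ConcreteCategory.comp_apply ((ρ_ M).inv.f j), ← comp_f, Iso.inv_hom_id, id_f,
        ConcreteCategory.id_apply, lam_ins, val0_one0, one_smul]
    refine Eq.trans ?_ hr
    refine Eq.trans ?_ h
    show _ = (ρ_ M).hom.f j ((M ◁ ε_ M N).f j ((α_ M N M).hom.f j
      ((η_ M N ▷ M).f j (ins (𝟙_ (DRing.Cx R)) M 0 j j (zero_add j) (one0 ⊗ₜ[R] x)))))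
    have e1 : (η_ M N ▷ M).f j (ins (𝟙_ (DRing.Cx R)) M 0 j j (zero_add j) (one0 ⊗ₜ[R] x)) =
        ins (M ⊗ N) M 0 j j (zero_add j) ((η_ M N).f 0 one0 ⊗ₜ[R] x) :=
      (map_ins (η_ M N) (𝟙 M) 0 j j (zero_add j) _).trans rfl
    rw [e1, hs, TensorProduct.sum_tmul, map_sum, map_sum, map_sum, map_sum]
    refine Finset.sum_congr rfl fun i _ => ?_
    refine Eq.trans ?_ (lt_eq M N _ _ j (s i).2.2.1.down (s i).2.2.2.1 (s i).2.2.2.2 x).symm
    simp only [f, w]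
    split_ifs with hi
    · rfl
    · exact smul_zero _
  refine ⟨of_dual_basis f w key, fun hj => ?_⟩
  have hw : ∀ i, w i = 0 := fun i =>
    dif_neg fun hi => hj (Finset.mem_image.mpr ⟨i, Finset.mem_univ _, hi⟩)
  haveI : Subsingleton (M.X j) := ⟨fun a b => by rw [← key a, ← key b]; simp [hw]⟩
  exact ModuleCat.isZero_of_subsingleton _

include M in
theorem right_conclusion :
    ∃ S : Finset ℤ, ∀ j : ℤ, (Module.Finite R (N.X j) ∧ Module.Projective R (N.X j)) ∧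
      (j ∉ S → IsZero (N.X j)) := by
  classical
  obtain ⟨m, s, hs⟩ := exists_decomp M N 0 ((η_ M N).f 0 one0)
  refine ⟨Finset.univ.image fun i => (s i).2.1, fun j => ?_⟩
  let f : Fin m → N.X j →ₗ[R] R := fun i => if hi : (s i).2.1 = j
    then rf M N (s i).1 (s i).2.1 j (s i).2.2.1.down hi (s i).2.2.2.1 else 0
  let w : Fin m → N.X j := fun i => if hi : (s i).2.1 = j then hi ▸ (s i).2.2.2.2 else 0
  have key : ∀ x, ∑ i, f i x • w i = x := by
    intro x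
    have h := congrArg (fun φ : N ⊗ 𝟙_ (DRing.Cx R) ⟶ 𝟙_ (DRing.Cx R) ⊗ N =>
      (λ_ N).hom.f j (φ.f j (ins N (𝟙_ (DRing.Cx R)) j 0 j (add_zero j) (x ⊗ₜ[R] one0))))
      (ExactPairing.coevaluation_evaluation M N)
    simp only [comp_f] at h
    have hr : (λ_ N).hom.f j ((λ_ N).inv.f j ((ρ_ N).hom.f j
        (ins N (𝟙_ (DRing.Cx R)) j 0 j (add_zero j) (x ⊗ₜ[R] one0)))) = x := by
      rw [← ConcreteCategory.comp_apply ((λ_ N).inv.f j), ← comp_f, Iso.inv_hom_id, id_f,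
        ConcreteCategory.id_apply, rho_ins, val0_one0, one_smul]
    refine Eq.trans ?_ hr
    refine Eq.trans ?_ h
    show _ = (λ_ N).hom.f j ((ε_ M N ▷ N).f j ((α_ N M N).inv.f j
      ((N ◁ η_ M N).f j (ins N (𝟙_ (DRing.Cx R)) j 0 j (add_zero j) (x ⊗ₜ[R] one0)))))
    have e1 : (N ◁ η_ M N).f j (ins N (𝟙_ (DRing.Cx R)) j 0 j (add_zero j) (x ⊗ₜ[R] one0)) =
        ins N (M ⊗ N) j 0 j (add_zero j) (x ⊗ₜ[R] (η_ M N).f 0 one0) :=
      (map_ins (𝟙 N) (η_ M N) j 0 j (add_zero j) _).trans rfl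
    rw [e1, hs, TensorProduct.tmul_sum, map_sum, map_sum, map_sum, map_sum]
    refine Finset.sum_congr rfl fun i _ => ?_
    refine Eq.trans ?_ (rt_eq M N _ _ j (s i).2.2.1.down (s i).2.2.2.1 (s i).2.2.2.2 x).symm
    simp only [f, w]
    split_ifs with hi
    · rfl
    · exact smul_zero _
  refine ⟨of_dual_basis f w key, fun hj => ?_⟩
  have hw : ∀ i, w i = 0 := fun i =>
    dif_neg fun hi => hj (Finset.mem_image.mpr ⟨i, Finset.mem_univ _, hi⟩)
  haveI : Subsingleton (N.X j) := ⟨fun a b => by rw [← key a, ← key b]; simp [hw]⟩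
  exact ModuleCat.isZero_of_subsingleton _

theorem vanishesOutside_of {P : DRing.Cx R} {S : Finset ℤ}
    (h : ∀ j : ℤ, j ∉ S → IsZero (P.X j)) : ∃ a b : ℤ, DRing.VanishesOutside P a b := by
  obtain ⟨a, ha⟩ := S.bddBelow
  obtain ⟨b, hb⟩ := S.bddAbove
  refine ⟨a, b, fun i hi => h i fun hS => ?_⟩
  have h1 := ha hS
  have h2 := hb hS
  omega

end Groth.L10.CxDual
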