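import Groth.Agent.L10.DRing.RHomCx
import Mathlib.LinearAlgebra.Dual.Defs
import Mathlib.LinearAlgebra.Dual.Lemmas
import Mathlib.Algebra.Homology.HomotopyCategory.HomComplexSingle
import Mathlib.RingTheory.Flat.Basic

/-! The dual of a complex of modules, `Hom•(P, A)`, and biduality for finite projective terms. -/

universe u

open CategoryTheory CategoryTheory.Limits CochainComplex CochainComplex.HomComplex

attribute [local instance] HasDerivedCategory.standard

set_option backward.defeqAttrib.useBackward true
set_option backward.isDefEq.respectTransparency false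
set_option linter.style.haveILetI false

namespace Groth.L10.DualCx

variable {A : Type u} [CommRing A]

/-- the dual complex -/
noncomputable def dual (P : DRing.Cx A) : DRing.Cx A where
  X i := ModuleCat.of A (Module.Dual A (P.X (-i)))
  d i j := ModuleCat.ofHom (((j.negOnePow : ℤ) : A) • (P.d (-j) (-i)).hom.dualMap)
  shape i j hij := by
    rw [P.shape (-j) (-i) (fun h => hij (show i + 1 = j by have : -j + 1 = -i := h; omega))]
    ext; simp
  d_comp_d' i j k _ _ := by
    refine ModuleCat.hom_ext (LinearMap.ext fun φ => LinearMap.ext fun x => ?_)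
    change ((k.negOnePow : ℤ) : A) • (((j.negOnePow : ℤ) : A) • φ (P.d (-j) (-i) (P.d (-k) (-j) x))) = 0
    rw [show P.d (-j) (-i) (P.d (-k) (-j) x) = 0 by
      rw [← ConcreteCategory.comp_apply, P.d_comp_d]; rfl, map_zero, smul_zero, smul_zero]

theorem dual_d_apply (P : DRing.Cx A) (i j : ℤ) (φ : Module.Dual A (P.X (-i))) (x : P.X (-j)) :
    DFunLike.coe (F := Module.Dual A (P.X (-j))) ((dual P).d i j φ) x = ((j.negOnePow : ℤ) : A) • φ (P.d (-j) (-i) x) := rfl

/-- `Hom•(P, A[0])` is the dual complex -/
noncomputable def homCxIso (P : DRing.Cx A) :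
    DRing.homCx P ((CochainComplex.singleFunctor (ModuleCat.{u} A) 0).obj (ModuleCat.of A A)) ≅ dual P :=
  HomologicalComplex.Hom.isoOfComponents
    (fun i => LinearEquiv.toModuleIso
      (X₁ := Cochain P ((CochainComplex.singleFunctor (ModuleCat.{u} A) 0).obj (ModuleCat.of A A)) i)
      (X₂ := Module.Dual A (P.X (-i)))
      { toFun := fun z => (Cochain.toSingleEquiv (X := ModuleCat.of A A) (show -i + i = 0 by omega) z).hom
        invFun := fun φ =>
          (Cochain.toSingleEquiv (X := ModuleCat.of A A) (show -i + i = 0 by omega)).symm (ModuleCat.ofHom φ)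
        map_add' := fun z z' => by simp
        map_smul' := fun a z => by
          change ((a • z).v (-i) 0 (show -i + i = 0 by omega) ≫
              (HomologicalComplex.singleObjXSelf (ComplexShape.up ℤ) 0 (ModuleCat.of A A)).hom).hom =
            a • (z.v (-i) 0 (show -i + i = 0 by omega) ≫
              (HomologicalComplex.singleObjXSelf (ComplexShape.up ℤ) 0 (ModuleCat.of A A)).hom).hom
          refine LinearMap.ext fun x => ?_
          exact map_smul (HomologicalComplex.singleObjXSelf (ComplexShape.up ℤ) 0 (ModuleCat.of A A)).hom.hom a _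
        left_inv := fun z => (Cochain.toSingleEquiv (show -i + i = 0 by omega)).symm_apply_apply z
        right_inv := fun φ => by
          exact congrArg ModuleCat.Hom.hom
            ((Cochain.toSingleEquiv (X := ModuleCat.of A A) (show -i + i = 0 by omega)).apply_symm_apply (ModuleCat.ofHom φ)) })
    (fun i j hij => by
      refine ModuleCat.hom_ext (LinearMap.ext fun
        (z : Cochain P ((CochainComplex.singleFunctor (ModuleCat.{u} A) 0).obj (ModuleCat.of A A)) i) => ?_)
      obtain ⟨f, rfl⟩ := Cochain.toSingleMk_surjective z (-i) (show -i + i = 0 by omega)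
      change ((j.negOnePow : ℤ) : A) • (P.d (-j) (-i)).hom.dualMap
          (Cochain.toSingleEquiv (show -i + i = 0 by omega) (Cochain.toSingleMk f _)).hom =
        (Cochain.toSingleEquiv (show -j + j = 0 by omega) (δ i j (Cochain.toSingleMk f _))).hom
      rw [Cochain.δ_toSingleMk f _ j (-j) (show -j + j = 0 by omega)]
      simp only [Cochain.toSingleEquiv_toSingleMk, Units.smul_def, map_zsmul]
      exact LinearMap.ext fun x => Int.cast_smul_eq_zsmul A (j.negOnePow : ℤ) (f.hom (P.d (-j) (-i) x)))

/-- biduality -/
noncomputable def bidual (P : DRing.Cx A) [∀ i, Module.IsReflexive A (P.X i)] :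
    P ≅ dual (dual P) :=
  HomologicalComplex.Hom.isoOfComponents
    (fun i => LinearEquiv.toModuleIso
      (X₂ := Module.Dual A (Module.Dual A (P.X (- -i))))
      ((((P.XIsoOfEq (neg_neg i).symm).toLinearEquiv).trans (Module.evalEquiv A (P.X (- -i)))).trans
        (LinearEquiv.smulOfUnit (Units.map (Int.castRingHom A).toMonoidHom i.negOnePow))))
    (fun i j hij => by
      have hj : i + 1 = j := hij
      refine ModuleCat.hom_ext (LinearMap.ext fun x => LinearMap.ext fun (φ : Module.Dual A (P.X (- -j))) => ?_)
      change ((j.negOnePow : ℤ) : A) • ((i.negOnePow : ℤ) : A) •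
          ((((-i).negOnePow : ℤ) : A) • φ (P.d (- -i) (- -j) ((P.XIsoOfEq (neg_neg i).symm).hom x))) =
        ((j.negOnePow : ℤ) : A) • φ ((P.XIsoOfEq (neg_neg j).symm).hom (P.d i j x))
      have e : P.d (- -i) (- -j) ((P.XIsoOfEq (neg_neg i).symm).hom x) =
          (P.XIsoOfEq (neg_neg j).symm).hom (P.d i j x) := by
        rw [← ConcreteCategory.comp_apply, ← ConcreteCategory.comp_apply, HomologicalComplex.XIsoOfEq_hom_comp_d,
          HomologicalComplex.d_comp_XIsoOfEq_hom]
      rw [e, ← smul_assoc ((i.negOnePow : ℤ) : A), smul_eq_mul ((i.negOnePow : ℤ) : A), ← Int.cast_mul,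
        ← Units.val_mul, Int.negOnePow_neg, Int.units_mul_self]
      simp)

theorem isReflexive_of_finProj {P : DRing.Cx A} (hP : DRing.TermwiseFiniteProjective P) (i : ℤ) :
    Module.IsReflexive A (P.X i) := by
  haveI := (hP i).1
  haveI := (hP i).2
  infer_instance

theorem finProj_dual {P : DRing.Cx A} (hP : DRing.TermwiseFiniteProjective P) :
    DRing.TermwiseFiniteProjective (dual P) := fun i => by
  haveI := (hP (-i)).1
  haveI := (hP (-i)).2
  exact ⟨(inferInstance : Module.Finite A (Module.Dual A (P.X (-i)))),
    (inferInstance : Module.Projective A (Module.Dual A (P.X (-i))))⟩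

theorem vanishesOutside_dual {P : DRing.Cx A} {a b : ℤ} (h : DRing.VanishesOutside P a b) :
    DRing.VanishesOutside (dual P) (-b) (-a) := fun i hi => by
  haveI := ModuleCat.subsingleton_of_isZero (h (-i) (by omega))
  exact ModuleCat.isZero_of_subsingleton (ModuleCat.of A (Module.Dual A (P.X (-i))))

theorem isKProjective {P : DRing.Cx A} {a b : ℤ} (hv : DRing.VanishesOutside P a b)
    (hP : DRing.TermwiseFiniteProjective P) : P.IsKProjective := by
  haveI : CochainComplex.IsStrictlyLE P b := (CochainComplex.isStrictlyLE_iff P b).2 fun i hi => hv i (Or.inr hi)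
  haveI : ∀ n, CategoryTheory.Projective (P.X n) := fun n => by
    haveI := (hP n).2
    exact (IsProjective.iff_projective (P.X n)).1 inferInstance
  exact CochainComplex.isKProjective_of_projective P b

/-- a K-projective complex maps quasi-isomorphically to any complex isomorphic to it in `D(A)` -/
theorem exists_qis {P E : DRing.Cx A} [P.IsKProjective] (e : DRing.toD P ≅ DRing.toD E) :
    ∃ g : P ⟶ E, QuasiIso g := by
  let q := HomotopyCategory.quotient (ModuleCat.{u} A) (ComplexShape.up ℤ)
  let c := DerivedCategory.quotientCompQhIso (ModuleCat.{u} A)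
  obtain ⟨g', hg⟩ := (CochainComplex.IsKProjective.Qh_map_bijective P (q.obj E)).2
    (c.hom.app P ≫ e.hom ≫ c.inv.app E)
  obtain ⟨g, rfl⟩ := q.map_surjective g'
  refine ⟨g, (DerivedCategory.isIso_Q_map_iff_quasiIso (C := ModuleCat.{u} A) g).1 ?_⟩
  haveI : IsIso (DerivedCategory.Qh.map (q.map g)) := by rw [hg]; infer_instance
  exact (NatIso.isIso_map_iff c g).1 this

/-- the unit module as an object of `D(A)` -/
noncomputable def inDUnit : Dual.inD A A ≅
    DRing.toD ((CochainComplex.singleFunctor (ModuleCat.{u} A) 0).obj (ModuleCat.of A A)) :=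
  (DerivedCategory.singleFunctorIsoCompQ (ModuleCat.{u} A) 0).app _

/-- `RHom(E, A)` is the dual of a finite projective model of `E` -/
noncomputable def rhomUnit {E P : DRing.Cx A} [DRing.HasRHomCx E] [P.IsKProjective] (g : P ⟶ E) [QuasiIso g] :
    (DRing.RHomCx E).obj (Dual.inD A A) ≅ DRing.toD (dual P) :=
  (DRing.RHomCx E).mapIso inDUnit ≪≫ RHomCx.compute g _ ≪≫ DerivedCategory.Q.mapIso (homCxIso P)

end Groth.L10.DualCx
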