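import Groth.Agent.L10.DRing.CechTorsLocal
import Groth.Agent.L10.DerTrunc
import Groth.Agent.L29.Dual.Normalized

/-! Local duality: completion of the dual is the torsion dual. -/

universe u

open CategoryTheory CategoryTheory.Limits MonoidalCategory CategoryTheory.Pretriangulated CochainComplex
  CochainComplex.HomComplex DerCA

attribute [local instance] HasDerivedCategory.standard

set_option backward.defeqAttrib.useBackward true
set_option backward.isDefEq.respectTransparency false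
set_option linter.style.haveILetI false

namespace Groth.L10.DualityCompletion

open Groth.L10.CompletionFormula Groth.L10.CechTorsLocal Groth.L04.RGamma

variable {A : Type u} [CommRing A] (I : Ideal A)

theorem tbij_shift {X Y : Dual.D A} {φ : X ⟶ Y} (h : Tbij I φ) (n : ℤ) : Tbij I (φ⟦n⟧') := fun T hT => by
  let e := (shiftEquiv' (Dual.D A) (-n) n (neg_add_cancel n)).toAdjunction
  have : (fun a : T ⟶ X⟦n⟧ => a ≫ φ⟦n⟧') = e.homEquiv T Y ∘ (fun a => a ≫ φ) ∘ (e.homEquiv T X).symm := by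
    funext a
    refine (((e.homEquiv T Y).symm_apply_eq).1 ?_)
    exact e.homEquiv_naturality_right_symm a φ
  rw [this]
  exact ((e.homEquiv T Y).bijective.comp (h _ (hT.shift I (-n)))).comp (e.homEquiv T X).symm.bijective

theorem tbij_incl [IsNoetherianRing A] [DRing.HasRgammaI I] (J : DRing.Cx A) [J.IsKInjective] :
    Tbij I (DerivedCategory.Q.map (incl I J)) := by
  let c := DerivedCategory.quotientCompQhIso (ModuleCat.{u} A)
  haveI := isIso_toR_of_isKInjective I J
  have e : DerivedCategory.Q.map (incl I J) =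
      (c.inv.app _ ≫ toR I J) ≫ (DRing.RgammaIε I).app (qq.obj J) ≫ c.hom.app J := by
    rw [Category.assoc]
    refine Eq.trans ?_ (congrArg (fun k => c.inv.app _ ≫ k) ((congrArg (· ≫ c.hom.app J) (toR_ε I J)).symm.trans (Category.assoc _ _ _)))
    exact ((cancel_epi (c.hom.app _)).1 (by
      rw [Iso.hom_inv_id_app_assoc]
      exact (c.hom.naturality (incl I J)).symm))
  rw [e]
  exact (tbij_iso I _).comp ((tbij_ε I _).comp (tbij_iso I _))

/-- the completion of `RHom(K, ω)` -/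
theorem nonempty_iso [IsLocalRing A] [IsNoetherianRing A] {ω : Dual.D A}
    (hω : Dual.IsDualizing A ω) (hn : Dual.IsNormalized A ω) {E : Type u} [AddCommGroup E] [Module A E]
    (f : IsLocalRing.ResidueField A →ₗ[A] E) (hf : InjHull.IsInjectiveHull f)
    [DRing.HasRgammaI (IsLocalRing.maximalIdeal A)] [DRing.HasDerivedCompletion (IsLocalRing.maximalIdeal A)]
    (K : DRing.Cx A) [DRing.HasRHomCx K] (G : DRing.Cx A) [DRing.HasRHomCx G]
    (eG : DRing.toD G ≅ (DRing.RgammaI (IsLocalRing.maximalIdeal A)).obj (DRing.toD K)) :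
    Nonempty (((DRing.derivedCompletion (IsLocalRing.maximalIdeal A)).obj ((DRing.RHomCx K).obj ω)).obj ≅
      (DRing.RHomCx G).obj (Dual.inD A E)) := by
  obtain ⟨J, a, hge, hinj, hJ, hconc, ⟨eω⟩, ⟨eE⟩⟩ := Groth.L29.HomD.exists_gamma_hull hω hn f hf
  haveI := hJ
  let m := IsLocalRing.maximalIdeal A
  obtain ⟨s, hs⟩ := (isNoetherianRing_iff_ideal_fg A).1 inferInstance m
  let fs := s.toList
  have hfs : Ideal.span {x : A | x ∈ fs} = m := by simpa [fs, Finset.mem_toList] using hs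
  let K' := (KFlat.R A).obj K
  let r := (KFlat.r A).app K
  haveI := RHomComp.isKInjective_homCx (KFlat.isKFlat_R K) J
  haveI := RHomCx.quasiIso_homCxPre r J
  haveI := RHomCx.isIso_Q_map (RHomCx.homCxPre r J)
  let eL : DRing.toD (DRing.homCx K' J) ≅ (DRing.RHomCx K).obj ω :=
    (asIso (DerivedCategory.Q.map (RHomCx.homCxPre r J))).symm ≪≫ RHomCx.computeInj K J ≪≫
      (DRing.RHomCx K).mapIso eω
  obtain ⟨ec, -⟩ := exists_completion_iso m fs hfs (DRing.homCx K' J)
  haveI := RHomCx.isIso_Q_map r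
  obtain ⟨eΓ⟩ := nonempty_gamma_iso m fs hfs K' (KFlat.isKFlat_R K)
  let eS : DRing.toD (extCech (ModuleCat.of A A) fs ⊗ K') ≅ DRing.toD G :=
    DerivedCategory.Q.mapIso (DTen.braidCx (extCech (ModuleCat.of A A) fs) K') ≪≫ eΓ ≪≫
      (DRing.RgammaI m).mapIso (asIso (DerivedCategory.Q.map r)) ≪≫ eG.symm
  obtain ⟨eH⟩ := nonempty_homCx_iso eS J
  let e₁ : ((DRing.derivedCompletion m).obj ((DRing.RHomCx K).obj ω)).obj ≅ (DRing.RHomCx G).obj (DRing.toD J) :=
    (ObjectProperty.ι (DRing.IsDerivedComplete m)).mapIso ((DRing.derivedCompletion m).mapIso eL.symm) ≪≫ ec ≪≫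
      DerivedCategory.Q.mapIso (HomTensor.iso _ K' J) ≪≫ eH ≪≫ RHomCx.computeInj G J
  let ΓJ := (gammaCx m).obj J
  let JE := KInjRes.res ΓJ
  haveI := RHomCx.isIso_Q_map (KInjRes.resι ΓJ)
  let c := DerivedCategory.quotientCompQhIso (ModuleCat.{u} A)
  let q := HomotopyCategory.quotient (ModuleCat.{u} A) (ComplexShape.up ℤ)
  obtain ⟨j', hj'⟩ := (CochainComplex.IsKInjective.Qh_map_bijective (q.obj JE) J).2
    (c.hom.app JE ≫ inv (DerivedCategory.Q.map (KInjRes.resι ΓJ)) ≫ DerivedCategory.Q.map (incl m J) ≫ c.inv.app J)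
  obtain ⟨j, rfl⟩ := q.map_surjective j'
  have hj : DerivedCategory.Q.map j =
      inv (DerivedCategory.Q.map (KInjRes.resι ΓJ)) ≫ DerivedCategory.Q.map (incl m J) := by
    have h1 := c.hom.naturality j
    simp only [Functor.comp_map] at h1
    rw [hj'] at h1
    simp only [Category.assoc, Iso.inv_hom_id_app] at h1
    exact ((cancel_epi (c.hom.app JE)).1 (h1.symm.trans (by erw [Category.comp_id])))
  have hTG : IsTors m (DRing.toD G) := fun i =>
    isPowerTorsion_of_iso m ((DerivedCategory.homologyFunctor (ModuleCat.{u} A) i).mapIso eG.symm)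
      (isTors_RgammaI m _ i)
  haveI := quasiIso_post (E := G) j fun n => by
    refine tbij_shift m ?_ n _ hTG
    rw [hj]
    exact (tbij_iso m _).comp (tbij_incl m J)
  haveI := RHomCx.isIso_Q_map (DRing.homCxMap G j)
  have hz : ∀ i : ℤ, i ≠ 0 → IsZero (ΓJ.homology i) := fun i hi =>
    (L28.HomElt.isZero_homology_iff (i := i - 1) (k := i + 1) (CochainComplex.prev ℤ i)
      (CochainComplex.next ℤ i)).2 fun x hx => by
        obtain ⟨y, hy, hxy⟩ := Groth.L29.HomD.mem_Bs_of_mem_Zs hconc i hi (x := x.1)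
          (Groth.L29.HomD.mem_Zs.2 ⟨x.2, congrArg Subtype.val hx⟩)
        exact ⟨⟨y, Groth.L04.mem_powTorsion.1 hy⟩, Subtype.ext hxy⟩
  haveI : (DRing.toD ΓJ).IsGE 0 := (DerivedCategory.isGE_iff _ 0).2 fun i hi =>
    (Groth.L02.PC.isZero_HH_Q_iff ΓJ i).2 (hz i (by omega))
  haveI : (DRing.toD ΓJ).IsLE 0 := (DerivedCategory.isLE_iff _ 0).2 fun i hi =>
    (Groth.L02.PC.isZero_HH_Q_iff ΓJ i).2 (hz i (by omega))
  obtain ⟨e0⟩ := Groth.L10.exists_iso_single_H (DRing.toD ΓJ) 0
  have h : ∀ z : Groth.L29.HomD.Zs m J 0, ∃ w : ΓJ.cycles 0, ΓJ.iCycles 0 w =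
      (⟨z.1, Groth.L04.mem_powTorsion.1 (Submodule.mem_inf.1 z.2).1⟩ : DRing.torsionSub m (J.X 0)) := fun z =>
    L28.HomElt.exists_cycle (k := (1 : ℤ)) (CochainComplex.next ℤ 0) _
      (Subtype.ext ((Groth.L29.HomD.mem_Zs.1 z.2).2))
  let cyc : Groth.L29.HomD.Zs m J 0 →ₗ[A] (ΓJ.homology 0 : ModuleCat.{u} A) :=
    { toFun := fun z => ΓJ.homologyπ 0 (h z).choose
      map_add' := fun z z' => by
        rw [← map_add]
        refine congrArg _ (L28.HomElt.iCycles_injective ΓJ 0 ?_)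
        rw [map_add, (h z).choose_spec, (h z').choose_spec, (h (z + z')).choose_spec]
        rfl
      map_smul' := fun c z => by
        rw [RingHom.id_apply, ← map_smul]
        refine congrArg _ (L28.HomElt.iCycles_injective ΓJ 0 ?_)
        rw [map_smul, (h z).choose_spec, (h (c • z)).choose_spec]
        rfl }
  have hsurj : Function.Surjective cyc := fun y => by
    obtain ⟨w, rfl⟩ := L28.HomElt.homologyπ_surjective ΓJ 0 y
    refine ⟨⟨(ΓJ.iCycles 0 w).1, Groth.L29.HomD.mem_Zs.2 ⟨(ΓJ.iCycles 0 w).2,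
      congrArg Subtype.val (L28.HomElt.d_iCycles 0 1 w)⟩⟩, ?_⟩
    refine congrArg (ΓJ.homologyπ 0) (L28.HomElt.iCycles_injective ΓJ 0 ?_)
    exact (h _).choose_spec
  have hker : LinearMap.ker cyc = (Groth.L29.HomD.Bs m J 0).comap (Groth.L29.HomD.Zs m J 0).subtype := by
    ext z
    simp only [LinearMap.mem_ker, Submodule.mem_comap]
    refine (L28.HomElt.π_eq_zero_iff (CochainComplex.prev ℤ 0) _).trans ?_
    constructor
    · rintro ⟨y, hy⟩
      rw [(h z).choose_spec] at hy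
      exact ⟨y.1, Groth.L04.mem_powTorsion.2 y.2, congrArg Subtype.val hy⟩
    · rintro ⟨y, hy, hxy⟩
      refine ⟨⟨y, Groth.L04.mem_powTorsion.1 hy⟩, ?_⟩
      rw [(h z).choose_spec]
      exact Subtype.ext hxy
  let eH0 : (ΓJ.homology 0 : ModuleCat.{u} A) ≅ ModuleCat.of A E :=
    (((LinearMap.quotKerEquivOfSurjective cyc hsurj).symm.trans (Submodule.quotEquivOfEq _ _ hker)).trans eE).toModuleIso
  let eΓE : DRing.toD JE ≅ Dual.inD A E :=
    (asIso (DerivedCategory.Q.map (KInjRes.resι ΓJ))).symm ≪≫ e0 ≪≫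
      (DerivedCategory.singleFunctor (ModuleCat.{u} A) 0).mapIso
        ((DerivedCategory.homologyFunctorFactors (ModuleCat.{u} A) 0).app ΓJ ≪≫ eH0)
  exact ⟨e₁ ≪≫ (RHomCx.computeInj G J).symm ≪≫ (asIso (DerivedCategory.Q.map (DRing.homCxMap G j))).symm ≪≫
    RHomCx.computeInj G JE ≪≫ (DRing.RHomCx G).mapIso eΓE⟩

end Groth.L10.DualityCompletion
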