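import Groth.Agent.L02.PC.Basic
import Groth.Agent.L10.DRing.Devissage
import Mathlib.Algebra.Category.ModuleCat.FilteredColimits
import Mathlib.CategoryTheory.Limits.ConcreteCategory.Filtered
import Mathlib.LinearAlgebra.FreeModule.Finite.Basic
import Mathlib.Algebra.Homology.DerivedCategory.KProjective

/-! Maps from pseudo-coherent objects into shifted filtered colimits of modules. -/

universe u

open CategoryTheory CategoryTheory.Limits HomologicalComplex CategoryTheory.Pretriangulated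

attribute [local instance] HasDerivedCategory.standard

set_option backward.defeqAttrib.useBackward true
set_option backward.isDefEq.respectTransparency false
set_option linter.style.haveILetI false

namespace Groth.L10.ExtColim

open Groth.L02.PC

variable {A : Type u} [CommRing A]

theorem Q_map_eq_zero_iff {E W : DRing.Cx A} [E.IsKProjective] (f : E ⟶ W) :
    DerivedCategory.Q.map f = 0 ↔ Nonempty (Homotopy f 0) := by
  let q := DerivedCategory.quotientCompQhIso (ModuleCat.{u} A)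
  have h : DerivedCategory.Q.map f = 0 ↔
      DerivedCategory.Qh.map ((HomotopyCategory.quotient (ModuleCat.{u} A) _).map f) = 0 := by
    have hn := q.hom.naturality f
    dsimp at hn
    constructor
    · intro h0
      rw [h0, comp_zero] at hn
      exact (cancel_mono (q.hom.app W)).1 (hn.trans zero_comp.symm)
    · intro h0
      rw [h0, zero_comp] at hn
      exact (cancel_epi (q.hom.app E)).1 (hn.symm.trans comp_zero.symm)
  rw [h]
  constructor
  · intro h0
    refine ⟨HomotopyCategory.homotopyOfEq _ _ ((CochainComplex.IsKProjective.Qh_map_bijective E _).injective ?_)⟩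
    rw [h0, Functor.map_zero, Functor.map_zero]
  · rintro ⟨H⟩
    rw [HomotopyCategory.eq_of_homotopy _ _ H, Functor.map_zero, Functor.map_zero]

/-- module in degree `p` -/
noncomputable abbrev S (p : ℤ) : ModuleCat.{u} A ⥤ DRing.Cx A :=
  HomologicalComplex.single (ModuleCat.{u} A) (ComplexShape.up ℤ) p

/-- a chain map into `N` in degree `p` -/
noncomputable def mkS {E : DRing.Cx A} {p : ℤ} {N : ModuleCat.{u} A} (φ : E.X p ⟶ N)
    (h : E.d (p - 1) p ≫ φ = 0) : E ⟶ (S p).obj N :=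
  mkHomToSingle φ (fun i hi => by
    obtain rfl : i = p - 1 := by change i + 1 = p at hi; omega
    exact h)

theorem exists_mkS {E : DRing.Cx A} {p : ℤ} {N : ModuleCat.{u} A} (f : E ⟶ (S p).obj N) :
    ∃ (φ : E.X p ⟶ N) (h : E.d (p - 1) p ≫ φ = 0), mkS φ h = f := by
  refine ⟨f.f p ≫ (singleObjXSelf (ComplexShape.up ℤ) p N).hom, ?_, to_single_hom_ext ?_⟩
  · rw [← Category.assoc, ← f.comm, HomologicalComplex.single_obj_d, comp_zero, zero_comp]
  · rw [mkS, mkHomToSingle_f, Category.assoc, Iso.hom_inv_id, Category.comp_id]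

theorem mkS_comp {E : DRing.Cx A} {p : ℤ} {N N' : ModuleCat.{u} A} (φ : E.X p ⟶ N)
    (h : E.d (p - 1) p ≫ φ = 0) (g : N ⟶ N') :
    mkS φ h ≫ (S p).map g = mkS (φ ≫ g) (by rw [← Category.assoc, h, zero_comp]) :=
  to_single_hom_ext (by simp [mkS, mkHomToSingle_f, single_map_f_self])

theorem mkS_null {E : DRing.Cx A} {p : ℤ} {N : ModuleCat.{u} A} (φ : E.X p ⟶ N)
    (h : E.d (p - 1) p ≫ φ = 0) :
    Nonempty (Homotopy (mkS φ h) 0) ↔ ∃ ψ : E.X (p + 1) ⟶ N, E.d p (p + 1) ≫ ψ = φ := by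
  constructor
  · rintro ⟨H⟩
    refine ⟨H.hom (p + 1) p ≫ (singleObjXSelf (ComplexShape.up ℤ) p N).hom, ?_⟩
    have h1 := H.comm p
    rw [dNext_eq _ (show (ComplexShape.up ℤ).Rel p (p + 1) from rfl),
      prevD_eq _ (show (ComplexShape.up ℤ).Rel (p - 1) p from sub_add_cancel p 1)] at h1
    simp only [single_obj_d, comp_zero, add_zero, zero_f, mkS, mkHomToSingle_f] at h1
    rw [← Category.assoc, ← h1, Category.assoc, Iso.inv_hom_id, Category.comp_id]
  · rintro ⟨ψ, hψ⟩
    refine ⟨{ hom := fun i j => if hij : i = p + 1 ∧ j = p then (E.XIsoOfEq hij.1).hom ≫ ψ ≫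
                (singleObjXIsoOfEq (ComplexShape.up ℤ) p N j hij.2).inv else 0
              zero := fun i j hij => dif_neg fun hh => hij (by change j + 1 = i; omega)
              comm := fun i => ?_ }⟩
    rw [dNext_eq _ (show (ComplexShape.up ℤ).Rel i (i + 1) from rfl),
      prevD_eq _ (show (ComplexShape.up ℤ).Rel (i - 1) i from sub_add_cancel i 1)]
    by_cases hi : i = p
    · subst hi
      rw [dif_pos ⟨rfl, rfl⟩]
      simp only [single_obj_d, comp_zero, add_zero, zero_f, mkS, mkHomToSingle_f, XIsoOfEq_rfl, Iso.refl_hom,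
        Category.id_comp]
      rw [← hψ, Category.assoc]
      rfl
    · exact (isZero_single_obj_X (ComplexShape.up ℤ) p N i hi).eq_of_tgt _ _

section Modules

variable {J : Type u} [SmallCategory J] [IsFiltered J] (F : J ⥤ ModuleCat.{u} A) {c : Cocone F} (hc : IsColimit c)

include hc in
theorem exists_stage {ι : Type*} [Finite ι] (x : ι → c.pt) :
    ∃ (j : J) (y : ι → F.obj j), ∀ i, c.ι.app j (y i) = x i := by
  classical
  have := Fintype.ofFinite ι
  choose k z hz using fun i => Concrete.isColimit_exists_rep F hc (x i)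
  obtain ⟨j, hj⟩ := IsFiltered.sup_objs_exists (Finset.univ.image k)
  refine ⟨j, fun i => F.map (hj (Finset.mem_image.2 ⟨i, Finset.mem_univ i, rfl⟩)).some (z i), fun i => ?_⟩
  rw [← ModuleCat.comp_apply, c.w]; exact hz i

include hc in
theorem exists_kill {ι : Type*} [Finite ι] {j : J} (y : ι → F.obj j) (h : ∀ i, c.ι.app j (y i) = 0) :
    ∃ (j' : J) (f : j ⟶ j'), ∀ i, F.map f (y i) = 0 := by
  classical
  have := Fintype.ofFinite ι
  suffices ∀ s : Finset ι, ∃ (j' : J) (f : j ⟶ j'), ∀ i ∈ s, F.map f (y i) = 0 by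
    obtain ⟨j', f, hf⟩ := this Finset.univ
    exact ⟨j', f, fun i => hf i (Finset.mem_univ i)⟩
  intro s
  induction s using Finset.induction_on with
  | empty => exact ⟨j, 𝟙 j, fun i hi => absurd hi (Finset.notMem_empty i)⟩
  | insert a s _ ih =>
    obtain ⟨j₁, f, hf⟩ := ih
    have h1 : c.ι.app j₁ (F.map f (y a)) = c.ι.app j₁ 0 := by
      rw [← ModuleCat.comp_apply, c.w, map_zero]; exact h a
    obtain ⟨k, f₁, f₂, hk⟩ := (IsColimit.eq_iff F hc).1 h1
    refine ⟨k, f ≫ f₁, fun i hi => ?_⟩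
    rw [Functor.map_comp, ModuleCat.comp_apply]
    rcases Finset.mem_insert.1 hi with rfl | hi'
    · rw [hk, map_zero]
    · rw [hf i hi', map_zero]

include hc in
theorem hom_lift {P : ModuleCat.{u} A} [Module.Finite A P] [Module.Free A P] (φ : P ⟶ c.pt) :
    ∃ (j : J) (ψ : P ⟶ F.obj j), ψ ≫ c.ι.app j = φ := by
  let b := Module.Free.chooseBasis A P
  obtain ⟨j, y, hy⟩ := exists_stage F hc fun i => φ (b i)
  exact ⟨j, ModuleCat.ofHom (b.constr A y), ModuleCat.hom_ext (b.ext fun i => by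
    simp only [ModuleCat.hom_comp, ModuleCat.hom_ofHom, LinearMap.comp_apply, Module.Basis.constr_basis]
    exact hy i)⟩

include hc in
theorem hom_kill {P : ModuleCat.{u} A} [Module.Finite A P] {j : J} (φ : P ⟶ F.obj j)
    (h : φ ≫ c.ι.app j = 0) : ∃ (j' : J) (f : j ⟶ j'), φ ≫ F.map f = 0 := by
  obtain ⟨n, s, hs⟩ := Module.Finite.exists_fin (R := A) (M := P)
  obtain ⟨j', f, hf⟩ := exists_kill F hc (fun i => φ (s i)) fun i => by
    rw [← ModuleCat.comp_apply, h]; rfl
  exact ⟨j', f, ModuleCat.hom_ext (LinearMap.ext_on_range hs fun i => hf i)⟩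

end Modules

section Main

variable {J : Type u} [SmallCategory J] [IsFiltered J] (F : J ⥤ ModuleCat.{u} A) {c : Cocone F} (hc : IsColimit c)
  {E : DRing.Cx A} [E.IsKProjective] (hE : DRing.TermwiseFiniteFree E)

/-- `N[n]` as a complex -/
noncomputable def shiftIso (n : ℤ) :
    DerivedCategory.singleFunctor (ModuleCat.{u} A) 0 ⋙ shiftFunctor (Dual.D A) n ≅
      S (-n) ⋙ DerivedCategory.Q :=
  ((DerivedCategory.singleFunctors (ModuleCat.{u} A)).shiftIso n (-n) 0 (by omega)) ≪≫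
    DerivedCategory.singleFunctorIsoCompQ (ModuleCat.{u} A) (-n)

include hE hc in
theorem complex_lift (p : ℤ) (x : DRing.toD E ⟶ DRing.toD ((S p).obj c.pt)) :
    ∃ (j : J) (y : DRing.toD E ⟶ DRing.toD ((S p).obj (F.obj j))),
      y ≫ DerivedCategory.Q.map ((S p).map (c.ι.app j)) = x := by
  obtain ⟨f, rfl⟩ := exists_chainMap x
  obtain ⟨φ, h, rfl⟩ := exists_mkS f
  haveI := (hE p).1; haveI := (hE p).2; haveI := (hE (p - 1)).1
  obtain ⟨j, ψ, rfl⟩ := hom_lift F hc φ
  obtain ⟨j', g, hg⟩ := hom_kill F hc (E.d (p - 1) p ≫ ψ) (by rw [Category.assoc]; exact h)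
  refine ⟨j', DerivedCategory.Q.map (mkS (ψ ≫ F.map g) (by rw [← Category.assoc]; exact hg)), ?_⟩
  rw [← Functor.map_comp, mkS_comp]
  congr 2
  rw [Category.assoc, c.w]

include hE hc in
theorem complex_kill (p : ℤ) (j : J) (y : DRing.toD E ⟶ DRing.toD ((S p).obj (F.obj j)))
    (hy : y ≫ DerivedCategory.Q.map ((S p).map (c.ι.app j)) = 0) :
    ∃ (j' : J) (f : j ⟶ j'), y ≫ DerivedCategory.Q.map ((S p).map (F.map f)) = 0 := by
  obtain ⟨f, rfl⟩ := exists_chainMap y
  obtain ⟨φ, h, rfl⟩ := exists_mkS f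
  rw [← Functor.map_comp, mkS_comp, Q_map_eq_zero_iff, mkS_null] at hy
  obtain ⟨ψ, hψ⟩ := hy
  haveI := (hE (p + 1)).1; haveI := (hE (p + 1)).2; haveI := (hE p).1
  obtain ⟨j₁, ψ', hψ'⟩ := hom_lift F hc ψ
  obtain ⟨k, a, b, -⟩ : ∃ (k : J) (_ : j ⟶ k) (_ : j₁ ⟶ k), True :=
    ⟨IsFiltered.max j j₁, IsFiltered.leftToMax j j₁, IsFiltered.rightToMax j j₁, trivial⟩
  obtain ⟨j', g, hg⟩ := hom_kill F hc (φ ≫ F.map a - E.d p (p + 1) ≫ ψ' ≫ F.map b) (by
    rw [Preadditive.sub_comp, Category.assoc, Category.assoc, Category.assoc, c.w, c.w, hψ', hψ, sub_self])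
  refine ⟨j', a ≫ g, ?_⟩
  rw [← Functor.map_comp, mkS_comp, Q_map_eq_zero_iff, mkS_null]
  refine ⟨ψ' ≫ F.map b ≫ F.map g, ?_⟩
  rw [Preadditive.sub_comp, sub_eq_zero, Category.assoc, Category.assoc, Category.assoc] at hg
  rw [Functor.map_comp, hg]

end Main

section Devissage

variable {K : Dual.D A} {m : ℤ} {E : DRing.Cx A} {α : DRing.toD E ⟶ K} (hα : IsApprox α m)

include hα in
theorem precomp (n : ℤ) (N : ModuleCat.{u} A) :
    (n ≤ -m → ∀ x : K ⟶ DRing.toD ((S (-n)).obj N), α ≫ x = 0 → x = 0) ∧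
    (n < -m → ∀ y : DRing.toD E ⟶ DRing.toD ((S (-n)).obj N),
      ∃ x : K ⟶ DRing.toD ((S (-n)).obj N), α ≫ x = y) := by
  obtain ⟨C, g, h, hT⟩ := distinguished_cocone_triangle α
  have hC := (isApprox_iff (Triangle.mk α g h) hT m).1 hα
  dsimp at hC
  haveI : C.IsLE (m - 1) := (DerivedCategory.isLE_iff C (m - 1)).2 fun i hi => hC i (by omega)
  have hN : (DRing.toD ((S (-n)).obj N)).IsGE (-n) := (DerivedCategory.isGE_iff _ _).2 fun i hi =>
    (isZero_HH_Q_iff _ i).2 (isZero_single_obj_homology (ComplexShape.up ℤ) (-n) N i (by omega))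
  constructor
  · intro hn x hx
    obtain ⟨w, hw⟩ := Triangle.yoneda_exact₂ _ hT x hx
    rw [hw]
    haveI := hN
    have hw0 : (show C ⟶ _ from w) = 0 := DerivedCategory.TStructure.t.zero (X := C) w (m - 1) (-n) (by omega)
    rw [show w = 0 from hw0, comp_zero]
  · intro hn y
    haveI : (C⟦(-1 : ℤ)⟧).IsLE m := DerivedCategory.TStructure.t.isLE_shift C (m - 1) (-1) m (by omega)
    haveI := hN
    obtain ⟨x, hx⟩ := Triangle.yoneda_exact₂ _ (inv_rot_of_distTriang _ hT) y
      (DerivedCategory.TStructure.t.zero (X := C⟦(-1 : ℤ)⟧) _ m (-n) (by omega))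
    exact ⟨x, hx.symm⟩

end Devissage

end Groth.L10.ExtColim
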