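import Groth.Agent.L10.DRing.ResidueExact
import Groth.Agent.L10.DRing.Perfect
import Groth.Agent.L10.DRing.BaseChange

/-! Perfectness of pseudo-coherent objects from vanishing at closed fibres. -/

universe u

open CategoryTheory CategoryTheory.Limits CochainComplex TensorProduct

attribute [local instance] HasDerivedCategory.standard

set_option backward.defeqAttrib.useBackward true
set_option backward.isDefEq.respectTransparency false
namespace Groth.L10.DR

open Groth.L02.PC Groth.L10.ResidueExact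

variable {A : Type u} [CommRing A]

theorem exMod_of_isZero_bcCx {k : Type u} [CommRing k] (φ : A →+* k) (hφ : Function.Surjective φ)
    (P : DRing.Cx A) (i : ℤ) (h : IsZero (((bcCx φ).obj P).homology i)) :
    ExMod (RingHom.ker φ) (P.d (i - 1) i).hom (P.d i (i + 1)).hom := by
  let := φ.toAlgebra
  refine exMod_of_exact_baseChange (k := k) hφ _ _ ?_
  have h' := (isZero_homology_iff_exact ((bcCx φ).obj P) (i - 1) i (i + 1) (by omega) rfl).1 h
  exact fun x => h' x

/-- Vanishing of all closed fibre cohomology outside `[a, b]`. -/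
theorem perfect_and_amp_of_exMod {K : Dual.D A} {P : DRing.Cx A} (e : DRing.toD P ≅ K) {B : ℤ}
    (hPb : DRing.VanishesAbove P B) (hP : DRing.TermwiseFiniteFree P) (a b : ℤ)
    (hlo : ∀ i, i < a → ∀ m : Ideal A, m.IsMaximal → ExMod m (P.d (i - 1) i).hom (P.d i (i + 1)).hom)
    (hhi : ∀ i, b < i → IsZero (P.homology i)) :
    DRing.IsPerfect A K ∧ DRing.HasTorAmplitudeIn A a b K := by
  have key : ∀ i, i < a → IsZero (P.homology i) ∧
      Module.Projective A (P.X (i + 1) ⧸ LinearMap.range (P.d i (i + 1)).hom) := fun i hi => by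
    haveI := (hP i).1; haveI := (hP (i + 1)).1; haveI := (hP (i + 1)).2
    obtain ⟨h1, h2⟩ := exact_and_projective_coker (P.d (i - 1) i).hom (P.d i (i + 1)).hom
      (congrArg ModuleCat.Hom.hom (P.d_comp_d (i - 1) i (i + 1))) (hlo i hi)
    exact ⟨(isZero_homology_iff_exact P (i - 1) i (i + 1) (by omega) rfl).2 h1, h2⟩
  have hflat : DRing.TermwiseFlat P := flat_of_free fun i => (hP i).2
  have hco : Module.Flat A (P.X a ⧸ LinearMap.range (P.d (a - 1) a).hom) := by
    obtain ⟨i, rfl⟩ : ∃ i, a = i + 1 := ⟨a - 1, by omega⟩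
    rw [show i + 1 - 1 = i by omega]
    haveI := (key i (by omega)).2
    infer_instance
  have hfp := finiteProjective_truncGE (fun i => ⟨(hP i).1, haveI := (hP i).2; inferInstance⟩) a hco
  obtain ⟨e'⟩ := toD_truncGE_iso a fun i hi => (key i hi).1
  refine ⟨⟨P.truncGE a, a, B, vanishesOutside_truncGE a B hPb, hfp, ⟨e'.symm ≪≫ e⟩⟩, ?_⟩
  refine (amp_iff e hPb hflat a b).2 ⟨((amp_iff e hPb hflat a B).1
    ⟨P.truncGE a, vanishesOutside_truncGE a B hPb, fun i => haveI := (hfp i).2; inferInstance, ⟨e'.symm ≪≫ e⟩⟩).1,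
    fun i hi => (HH_iso_zero e i).2 (hhi i hi)⟩

theorem perfect_and_amp_of_maximal [∀ m : Ideal A, DRing.HasLBaseChange (Ideal.Quotient.mk m)] (K : Dual.D A)
    (hK : DRing.IsPseudoCoherent' A K) (a b : ℤ)
    (h : ∀ (m : Ideal A), m.IsMaximal → ∀ i : ℤ, (i < a ∨ b < i) →
      Subsingleton (Dual.HD (A ⧸ m) ((DRing.LBaseChange (Ideal.Quotient.mk m)).obj K) i)) :
    DRing.IsPerfect A K ∧ DRing.HasTorAmplitudeIn A a b K := by
  obtain ⟨P, B, hPb, hP, ⟨e⟩⟩ := hK
  haveI : P.IsKProjective := isKProjective_of_vanishesAbove hPb fun i => haveI := (hP i).2; inferInstance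
  have hex : ∀ i : ℤ, (i < a ∨ b < i) → ∀ m : Ideal A, m.IsMaximal →
      ExMod m (P.d (i - 1) i).hom (P.d i (i + 1)).hom := fun i hi m hm => by
    haveI := h m hm i hi
    have := exMod_of_isZero_bcCx (Ideal.Quotient.mk m) Ideal.Quotient.mk_surjective P i
      ((HH_iso_zero ((lbcIso _ P).symm ≪≫ (DRing.LBaseChange (Ideal.Quotient.mk m)).mapIso e) i).1
        (ModuleCat.isZero_of_subsingleton _))
    rwa [Ideal.mk_ker] at this
  refine perfect_and_amp_of_exMod e hPb hP a b (fun i hi => hex i (Or.inl hi)) fun i hi => ?_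
  haveI := (hP i).1; haveI := (hP (i + 1)).1; haveI := (hP (i + 1)).2
  exact (isZero_homology_iff_exact P (i - 1) i (i + 1) (by omega) rfl).2
    (exact_and_projective_coker (P.d (i - 1) i).hom (P.d i (i + 1)).hom
      (congrArg ModuleCat.Hom.hom (P.d_comp_d (i - 1) i (i + 1))) (hex i (Or.inr hi))).1

theorem perfect_of_residue [IsLocalRing A] [DRing.HasLBaseChange (IsLocalRing.residue A)] (K : Dual.D A)
    (hK : DRing.IsPseudoCoherent' A K) (a : ℤ)
    (h : ∀ i : ℤ, i < a → Subsingleton (Dual.HD (IsLocalRing.ResidueField A)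
      ((DRing.LBaseChange (IsLocalRing.residue A)).obj K) i)) : DRing.IsPerfect A K := by
  obtain ⟨P, B, hPb, hP, ⟨e⟩⟩ := hK
  haveI : P.IsKProjective := isKProjective_of_vanishesAbove hPb fun i => haveI := (hP i).2; inferInstance
  refine (perfect_and_amp_of_exMod e hPb hP a B (fun i hi m hm => ?_) fun i hi =>
    (P.exactAt_iff_isZero_homology i).1 (HomologicalComplex.ExactAt.of_isZero (hPb i hi))).1
  haveI := h i hi
  have := exMod_of_isZero_bcCx (IsLocalRing.residue A) IsLocalRing.residue_surjective P i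
    ((HH_iso_zero ((lbcIso _ P).symm ≪≫ (DRing.LBaseChange (IsLocalRing.residue A)).mapIso e) i).1
      (ModuleCat.isZero_of_subsingleton _))
  rwa [IsLocalRing.ker_residue, ← IsLocalRing.eq_maximalIdeal hm] at this

end Groth.L10.DR
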