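import Groth.Agent.L02.PC.Local
import Groth.Agent.L10.DRing.Perfect
import Groth.Agent.L10.DRing.BaseChange
import Mathlib.RingTheory.Finiteness.Descent
import Mathlib.RingTheory.Flat.FaithfullyFlat.Algebra
import Mathlib.Algebra.Homology.DerivedCategory.ExactFunctor

/-! Flat base change and descent of tor amplitude, pseudo-coherence and perfectness along faithful families. -/

universe u

open CategoryTheory CategoryTheory.Limits CategoryTheory.Pretriangulated CochainComplex TensorProduct

attribute [local instance] HasDerivedCategory.standard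

set_option backward.defeqAttrib.useBackward true
set_option backward.isDefEq.respectTransparency false
namespace Groth.L10.FlatDescent

open Groth.L02.PC Groth.L10.DR

variable {R : Type u} [CommRing R]

section One
variable {S : Type u} [CommRing S] (φ : R →+* S)

/-- extension of scalars on modules -/
noncomputable abbrev ext : ModuleCat.{u} R ⥤ ModuleCat.{u} S := ModuleCat.extendScalars.{u, u, u} φ

variable (hφ : φ.Flat)
include hφ

/-- flat extension of scalars commutes with homology -/
noncomputable def homologyIso (C : DRing.Cx R) (n : ℤ) :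
    ((bcCx φ).obj C).homology n ≅ (ext φ).obj (C.homology n) :=
  haveI : PreservesFiniteLimits (ext φ) := ModuleCat.preservesFiniteLimits_extendScalars_of_flat hφ
  haveI : (ext φ).IsLeftAdjoint := (ModuleCat.extendRestrictScalarsAdj.{u, u, u} φ).isLeftAdjoint
  haveI : PreservesFiniteColimits (ext φ) := inferInstance
  (C.sc n).mapHomologyIso (ext φ)

theorem nonempty_iso_of_iso {X Y : DRing.Cx R} (e : DRing.toD X ≅ DRing.toD Y) :
    Nonempty (DRing.toD ((bcCx φ).obj X) ≅ DRing.toD ((bcCx φ).obj Y)) := by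
  haveI : PreservesFiniteLimits (ext φ) := ModuleCat.preservesFiniteLimits_extendScalars_of_flat hφ
  haveI : (ext φ).IsLeftAdjoint := (ModuleCat.extendRestrictScalarsAdj.{u, u, u} φ).isLeftAdjoint
  haveI : PreservesFiniteColimits (ext φ) := inferInstance
  exact ⟨((ext φ).mapDerivedCategoryFactors.app X).symm ≪≫ (ext φ).mapDerivedCategory.mapIso e ≪≫
    (ext φ).mapDerivedCategoryFactors.app Y⟩

theorem pc_bcCx {C : DRing.Cx R} {m : ℤ} (h : DRing.IsPseudoCoherent R m (DRing.toD C)) :
    DRing.IsPseudoCoherent S m (DRing.toD ((bcCx φ).obj C)) := by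
  obtain ⟨E, a, b, α, v, f, happ⟩ := (pc_iff m _).1 h
  have := isKProjective_bounded v f
  obtain ⟨g, rfl⟩ := exists_chainMap α
  rw [isApprox_Q_map_iff] at happ
  refine (pc_iff m _).2 ⟨_, a, b, DerivedCategory.Q.map ((bcCx φ).map g), (bcCx_bounded φ v f).1,
    (bcCx_bounded φ v f).2, ?_⟩
  rw [isApprox_Q_map_iff]
  intro i hi
  exact ((ext φ).map_isZero (happ i hi)).of_iso
    (((HomologicalComplex.homologyFunctor _ _ i).mapIso
      (mappingCone.mapHomologicalComplexIso g (ext φ))).symm ≪≫ homologyIso φ hφ (mappingCone g) i)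

theorem amp_bcCx {C : DRing.Cx R} {a b : ℤ} (h : DRing.HasTorAmplitudeIn R a b (DRing.toD C)) :
    DRing.HasTorAmplitudeIn S a b (DRing.toD ((bcCx φ).obj C)) := by
  obtain ⟨E, hE, hf, ⟨e⟩⟩ := h
  obtain ⟨e'⟩ := nonempty_iso_of_iso φ hφ e
  refine ⟨(bcCx φ).obj E, fun i hi => (ext φ).map_isZero (hE i hi), fun i => ?_, ⟨e'⟩⟩
  let := φ.toAlgebra
  haveI := hf i
  exact inferInstanceAs (Module.Flat S (S ⊗[R] (E.X i)))

omit hφ in
theorem exists_single_iso [Algebra R S] (M : Type u) [AddCommGroup M] [Module R M] :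
    Nonempty (DRing.toD ((bcCx (algebraMap R S)).obj
      ((CochainComplex.singleFunctor (ModuleCat.{u} R) 0).obj (ModuleCat.of R M))) ≅
        Dual.inD S (TensorProduct R S M)) := by
  obtain ⟨e⟩ := extendScalars_equiv (S := S) (ModuleCat.of R M)
  exact ⟨DerivedCategory.Q.mapIso (((HomologicalComplex.singleMapHomologicalComplex _ _ (0 : ℤ)).app _) ≪≫
    (HomologicalComplex.single (ModuleCat.{u} S) (ComplexShape.up ℤ) 0).mapIso e.toModuleIso) ≪≫
      ((DerivedCategory.singleFunctorIsoCompQ (ModuleCat.{u} S) 0).app _).symm⟩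

end One

variable {ι : Type} [Finite ι] {S : ι → Type u} [∀ j, CommRing (S j)] (φ : ∀ j, R →+* S j)

/-- A faithful family of flat maps. -/
structure Faithful : Prop where
  flat : ∀ j, (φ j).Flat
  isZero : ∀ M : ModuleCat.{u} R, (∀ j, IsZero ((ext (φ j)).obj M)) → IsZero M
  finite : ∀ M : ModuleCat.{u} R, (∀ j, Module.Finite (S j) ((ext (φ j)).obj M)) → Module.Finite R M

variable {φ} (hF : Faithful φ)
include hF

theorem pc_descent (K : DRing.Cx R) (m : ℤ)
    (hK : ∀ j, DRing.IsPseudoCoherent (S j) m (DRing.toD ((bcCx (φ j)).obj K))) :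
    DRing.IsPseudoCoherent R m (DRing.toD K) := by
  choose N hN using fun i => exists_LEH (hK i)
  obtain ⟨M, hM⟩ : ∃ M : ℤ, ∀ i, N i ≤ M := Finite.exists_le N
  have hbd : LEH (DRing.toD K) (max M m) := fun j hj => by
    rw [isZero_HH_Q_iff]
    refine hF.isZero _ fun i => ?_
    exact ((isZero_HH_Q_iff _ j).1 (hN i j (by have := hM i; omega))).of_iso (homologyIso (φ i) (hF.flat i) K j).symm
  suffices ∀ k : ℕ, m ≤ max M m + 1 - k → DRing.IsPseudoCoherent R (max M m + 1 - k) (DRing.toD K) by
    have h := this (max M m + 1 - m).toNat (by omega)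
    rwa [show max M m + 1 - ((max M m + 1 - m).toNat : ℤ) = m by omega] at h
  intro k
  induction k with
  | zero => intro _; simpa using pc_of_LEH hbd
  | succ k ih =>
    intro hk
    obtain ⟨E, a, b, α, v, fE, happ⟩ := (pc_iff _ _).1 (ih (by omega))
    have := isKProjective_bounded v fE
    obtain ⟨g, rfl⟩ := exists_chainMap α
    rw [isApprox_Q_map_iff] at happ
    generalize hn : max M m + 1 - ((k + 1 : ℕ) : ℤ) = n at hk ⊢
    have hex : ∀ i, n < i → IsZero ((mappingCone g).homology i) := fun i hi => happ i (by omega)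
    have : Module.Finite R ((mappingCone g).homology n) := by
      refine hF.finite _ fun i => ?_
      let g' := (bcCx (φ i)).map g
      have hpc : DRing.IsPseudoCoherent (S i) n (DRing.toD (mappingCone g')) :=
        pc_third _ (mappingCone_distinguished g') n
          (pc_of_bounded_free (bcCx_bounded (φ i) v fE).1 (bcCx_bounded (φ i) v fE).2 (n + 1)) (pc_mono hk (hK i))
      let eC : ∀ j, (mappingCone g').homology j ≅ (ext (φ i)).obj ((mappingCone g).homology j) := fun j =>
        ((HomologicalComplex.homologyFunctor _ _ j).mapIso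
          (mappingCone.mapHomologicalComplexIso g (ext (φ i)))).symm ≪≫ homologyIso (φ i) (hF.flat i) (mappingCone g) j
      have hz : LEH (DRing.toD (mappingCone g')) n := fun j hj =>
        (isZero_HH_Q_iff _ j).2 (((ext (φ i)).map_isZero (hex j hj)).of_iso (eC j))
      have : Module.Finite (S i)
          ((DerivedCategory.Q ⋙ DerivedCategory.homologyFunctor (ModuleCat.{u} (S i)) n).obj
            (mappingCone g')) := pc_finite hpc hz
      exact Module.Finite.equiv
        ((((DerivedCategory.homologyFunctorFactors _ n).app (mappingCone g')) ≪≫ eC n).toLinearEquiv)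
    exact pc_second _ (mappingCone_distinguished g) n (pc_of_bounded_free v fE n)
      (pc_of_finite (mappingCone g) n hex)

theorem pc'_descent (K : DRing.Cx R)
    (hK : ∀ j, DRing.IsPseudoCoherent' (S j) (DRing.toD ((bcCx (φ j)).obj K))) :
    DRing.IsPseudoCoherent' R (DRing.toD K) :=
  pc'_of_forall fun m => pc_descent hF K m fun j => pc_of_pc' (hK j) m

omit [Finite ι] in
theorem amp_descent (K : DRing.Cx R) (a b : ℤ)
    (hK : ∀ j, DRing.HasTorAmplitudeIn (S j) a b (DRing.toD ((bcCx (φ j)).obj K))) :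
    DRing.HasTorAmplitudeIn R a b (DRing.toD K) := by
  have hb : LEH (DRing.toD K) b := fun i hi => by
    rw [isZero_HH_Q_iff]
    refine hF.isZero _ fun j => ?_
    exact ((isZero_HH_Q_iff _ i).1 (amp_LEH (hK j) i hi)).of_iso (homologyIso (φ j) (hF.flat j) K i).symm
  obtain ⟨P, hPb, hPf, -, ⟨e⟩⟩ := exists_free_rep hb
  refine (amp_iff e hPb (flat_of_free hPf) a b).2 ⟨fun i hi N => ?_, hb⟩
  refine hF.isZero _ fun j => IsZero.of_iso ?_ (homologyIso (φ j) (hF.flat j) (DRing.tensorCx P N) i).symm
  obtain ⟨e'⟩ := nonempty_iso_of_iso (φ j) (hF.flat j) e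
  have hb' : DRing.VanishesAbove ((bcCx (φ j)).obj P) b := fun i hi => (ext (φ j)).map_isZero (hPb i hi)
  have hf' : DRing.TermwiseFlat ((bcCx (φ j)).obj P) := fun k => by
    haveI := flat_bcCx (φ j) (P := P) (fun l => haveI := hPf l; inferInstance) k
    infer_instance
  have ht := ((amp_iff e' hb' hf' a b).1 (hK j)).1 i hi
  let := (φ j).toAlgebra
  have h' := (tensor_exact_iff ((bcCx (φ j)).obj P) ((ext (φ j)).obj N) (i - 1) i (i + 1) (by omega) rfl).1 (ht _)
  rw [isZero_homology_iff_exact _ (i - 1) i (i + 1) (by omega) rfl]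
  let T : ∀ k, (S j ⊗[R] (P.X k ⊗[R] N)) ≃+ ((S j ⊗[R] P.X k) ⊗[S j] (S j ⊗[R] N)) := fun k =>
    (TensorProduct.AlgebraTensorModule.distribBaseChange R (S j) (P.X k) N).toAddEquiv
  have hsq : ∀ k l : ℤ, ∀ t, (((bcCx (φ j)).obj P).d k l).hom.rTensor ((ext (φ j)).obj N) (T k t) =
      T l (((P.d k l).hom.rTensor N).lTensor (S j) t) := by
    intro k l t
    induction t using TensorProduct.induction_on with
    | zero => simp only [map_zero]
    | add x y hx hy => simp only [map_add, hx, hy]
    | tmul s w =>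
      induction w using TensorProduct.induction_on with
      | zero => simp only [TensorProduct.tmul_zero, map_zero]
      | add x y hx hy => simp only [TensorProduct.tmul_add, map_add, hx, hy]
      | tmul x y => simp [T]; rfl
  intro t
  exact (Function.Exact.iff_of_ladder_addEquiv (T (i - 1)) (T i) (T (i + 1))
    (f₁₂ := (((P.d (i - 1) i).hom.rTensor N).lTensor (S j)).toAddMonoidHom)
    (f₂₃ := (((P.d i (i + 1)).hom.rTensor N).lTensor (S j)).toAddMonoidHom)
    (g₁₂ := (((bcCx (φ j)).obj P).d (i - 1) i).hom.rTensor ((ext (φ j)).obj N) |>.toAddMonoidHom)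
    (g₂₃ := (((bcCx (φ j)).obj P).d i (i + 1)).hom.rTensor ((ext (φ j)).obj N) |>.toAddMonoidHom)
    (AddMonoidHom.ext (hsq (i - 1) i)) (AddMonoidHom.ext (hsq i (i + 1)))).1 h' t

theorem perfect_descent (K : DRing.Cx R)
    (hK : ∀ j, DRing.IsPerfect (S j) (DRing.toD ((bcCx (φ j)).obj K))) : DRing.IsPerfect R (DRing.toD K) := by
  have hpc : ∀ j m, DRing.IsPseudoCoherent (S j) m (DRing.toD ((bcCx (φ j)).obj K)) := fun j m => by
    obtain ⟨E, a, b, h1, h2, ⟨e⟩⟩ := hK j
    exact pc_of_iso e (pc_of_finiteProjective (fun i hi => h1 i (Or.inr hi)) h2 m)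
  choose a b hab using fun j => amp_of_perfect (hK j)
  obtain ⟨A, hA⟩ := Finite.exists_le fun j => -a j
  obtain ⟨B, hB⟩ := Finite.exists_le b
  exact perfect_of_pc'_amp (pc'_of_forall fun m => pc_descent hF K m fun j => hpc j m)
    (amp_descent hF K (-A) B fun j => amp_mono (hab j) (by have := hA j; omega) (hB j))

omit hF
omit [Finite ι] in
/-- A faithfully flat algebra. -/
theorem faithful_of_faithfullyFlat {S : Type u} [CommRing S] [Algebra R S] [Module.FaithfullyFlat R S] :
    Faithful (fun _ : Unit => algebraMap R S) where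
  flat _ := RingHom.flat_algebraMap_iff.mpr inferInstance
  isZero M h := by
    obtain ⟨e⟩ := extendScalars_equiv (S := S) M
    haveI := ModuleCat.subsingleton_of_isZero (h ())
    haveI : Subsingleton (S ⊗[R] M) := e.symm.toEquiv.subsingleton
    haveI := Module.FaithfullyFlat.lTensor_reflects_triviality R S M
    exact ModuleCat.isZero_of_subsingleton M
  finite M h := by
    obtain ⟨e⟩ := extendScalars_equiv (S := S) M
    haveI := h ()
    haveI := Module.Finite.equiv e
    exact Module.Finite.of_finite_tensorProduct_of_faithfullyFlat S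

omit [Finite ι] in
/-- A standard open cover. -/
theorem faithful_away {r : ℕ} (f : Fin r → R) (hf : Ideal.span (Set.range f) = ⊤) :
    Faithful (fun i => algebraMap R (Localization.Away (f i))) where
  flat _ := RingHom.flat_algebraMap_iff.mpr inferInstance
  isZero := isZero_of_local hf
  finite := finite_of_local hf

end Groth.L10.FlatDescent
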