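import Groth.Agent.L10.DRing.TorDim
import Groth.Agent.L10.DRing.Devissage
import Groth.Agent.L20.TorAmpWeaklyEtale
import Groth.Agent.L28.HomElt
import Mathlib.LinearAlgebra.TensorProduct.Tower
import Mathlib.RingTheory.Flat.Basic

/-! Tor amplitude and restriction of scalars along an algebra of finite tor dimension. -/

universe u

open CategoryTheory CategoryTheory.Limits MonoidalCategory TensorProduct

attribute [local instance] HasDerivedCategory.standard

set_option backward.defeqAttrib.useBackward true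
set_option backward.isDefEq.respectTransparency false
namespace Groth.L10.TorRestrict

variable {A B : Type u} [CommRing A] [CommRing B] [Algebra A B]

theorem tor_isZero_iff (M N : ModuleCat.{u} A) (P : ProjectiveResolution N) (n : ℕ) :
    IsZero (((CategoryTheory.Tor (ModuleCat.{u} A) (n + 1)).obj M).obj N) ↔
      ∀ x, (P.complex.d (n + 1) n).hom.lTensor M x = 0 → ∃ y, (P.complex.d (n + 2) (n + 1)).hom.lTensor M y = x := by
  refine ((P.isoLeftDerivedObj (tensorLeft M) (n + 1))).isZero_iff.trans ?_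
  exact Groth.L28.HomElt.isZero_homology_iff (i := n + 2) (k := n)
    ((ComplexShape.down ℕ).prev_eq' rfl) ((ComplexShape.down ℕ).next_eq' rfl)

/-- A flat `B`-module has tor dimension over `A` at most that of `B`. -/
theorem hasTorDimLE_of_flat (d : ℕ) (h : DRing.HasTorDimLE A d B) (M : Type u) [AddCommGroup M] [Module A M]
    [Module B M] [IsScalarTower A B M] [Module.Flat B M] : DRing.HasTorDimLE A d M := by
  intro N _ _ p hp
  obtain ⟨n, rfl⟩ : ∃ n : ℕ, p = n + 1 := ⟨p - 1, by omega⟩
  refine ModuleCat.subsingleton_of_isZero ?_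
  let P := projectiveResolution (ModuleCat.of A N)
  haveI := h N (n + 1) hp
  have hB := (tor_isZero_iff (ModuleCat.of A B) (ModuleCat.of A N) P n).1 (ModuleCat.isZero_of_subsingleton _)
  refine (tor_isZero_iff (ModuleCat.of A M) (ModuleCat.of A N) P n).2 ?_
  let f : P.complex.X (n + 2) →ₗ[A] P.complex.X (n + 1) := (P.complex.d (n + 2) (n + 1)).hom
  let g : P.complex.X (n + 1) →ₗ[A] P.complex.X n := (P.complex.d (n + 1) n).hom
  have hgf : g ∘ₗ f = 0 := congrArg ModuleCat.Hom.hom (P.complex.d_comp_d (n + 2) (n + 1) n)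
  have hex : Function.Exact (f.baseChange B) (g.baseChange B) := by
    intro x
    refine ⟨fun hx => ?_, ?_⟩
    · rw [LinearMap.baseChange_eq_ltensor] at hx ⊢
      exact hB x hx
    · rintro ⟨y, rfl⟩
      rw [← LinearMap.comp_apply, ← LinearMap.baseChange_comp, hgf]
      simp
  have hM := Module.Flat.lTensor_exact M hex
  let E : ∀ k : ℕ, M ⊗[B] (B ⊗[A] P.complex.X k) ≃ₗ[B] M ⊗[A] P.complex.X k := fun k =>
    TensorProduct.AlgebraTensorModule.cancelBaseChange A B B M (P.complex.X k)
  have hsq : ∀ (k l : ℕ) (φ : P.complex.X k →ₗ[A] P.complex.X l) (z : M ⊗[B] (B ⊗[A] P.complex.X k)),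
      φ.lTensor M (E k z) = E l ((φ.baseChange B).lTensor M z) := by
    intro k l φ z
    induction z using TensorProduct.induction_on with
    | zero => simp
    | add u v hu hv => simp [map_add, hu, hv]
    | tmul m w =>
      induction w using TensorProduct.induction_on with
      | zero => simp
      | add u v hu hv => simp [TensorProduct.tmul_add, map_add, hu, hv]
      | tmul b x => simp [E]
  intro x hx
  obtain ⟨z, rfl⟩ := (E (n + 1)).surjective x
  have hx' : g.lTensor M (E (n + 1) z) = 0 := hx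
  rw [hsq, LinearEquiv.map_eq_zero_iff] at hx'
  obtain ⟨y, rfl⟩ := (hM z).1 hx'
  exact ⟨E (n + 2) y, hsq _ _ f y⟩

theorem amp_restrict (d : ℕ) (hB : DRing.HasTorAmplitudeIn A (-(d : ℤ)) 0 (Dual.inD A B)) (K : Dual.D B)
    (a b : ℤ) (hK : DRing.HasTorAmplitudeIn B a b K) :
    DRing.HasTorAmplitudeIn A (a - d) b ((DRing.restrictD (algebraMap A B)).obj K) := by
  obtain ⟨E, hEv, hE, ⟨e⟩⟩ := hK
  refine Groth.L10.DR.amp_of_iso ((Groth.L20.TorAmp.resIso (A := A) E).symm ≪≫ (DRing.restrictD (algebraMap A B)).mapIso e) ?_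
  let P : ObjectProperty (Dual.D A) := fun X => DRing.HasTorAmplitudeIn A (a - d) b X
  haveI : P.IsClosedUnderIsomorphisms := ⟨fun e h => Groth.L10.DR.amp_of_iso e h⟩
  refine Groth.L10.DR.of_termwise P (fun Z hZ => Groth.L10.DR.amp_of_isZero hZ _ _)
    (fun T hT h1 h3 => Groth.L10.DR.amp_second T hT h1 h3) _ a b
    (fun i hi => Functor.map_isZero (ModuleCat.restrictScalars.{u} (algebraMap A B)) (hEv i hi)) fun i hi hi' => ?_
  letI : Module A (E.X i) := Module.compHom (E.X i) (algebraMap A B)
  haveI : IsScalarTower A B (E.X i) := IsScalarTower.of_algebraMap_smul fun _ _ => rfl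
  haveI := hE i
  have h1 := hasTorDimLE_of_flat d ((Groth.L10.DR.hasTorDimLE_iff_amp d).2 hB) (E.X i)
  exact Groth.L10.DR.amp_of_iso (Groth.L10.DR.singleShift i _)
    (Groth.L10.DR.amp_mono (Groth.L10.DR.amp_shift ((Groth.L10.DR.hasTorDimLE_iff_amp d).1 h1) (-i)) (by omega) (by omega))

end Groth.L10.TorRestrict
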