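import Groth.Agent.L10.DRing.JacobsonAmp
import Groth.Agent.L10.DRing.PD
import Groth.Agent.L10.DRing.TorRestrict
import Groth.Agent.L10.DRing.KFlatLBC

/-! Perfectness from fibres of finite global dimension. -/

universe u

open CategoryTheory CategoryTheory.Limits CochainComplex TensorProduct MonoidalCategory

attribute [local instance] HasDerivedCategory.standard

set_option backward.defeqAttrib.useBackward true
set_option backward.isDefEq.respectTransparency false
namespace Groth.L10.DR

open Groth.L02.PC Groth.L10.ResidueExact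

/-- over a ring of finite global dimension, bounded cohomology bounds the tor amplitude -/
theorem amp_of_homology {C : Type u} [CommRing C] (d : ℕ)
    (hgl : ∀ M : ModuleCat.{u} C, HasProjectiveDimensionLT M (d + 1)) (K : Dual.D C) (a b : ℤ)
    (h : ∀ i, (i < a ∨ b < i) → IsZero ((Groth.L02.PC.HH i).obj K)) :
    DRing.HasTorAmplitudeIn C (a - d) b K := by
  let P : ObjectProperty (Dual.D C) := fun X => DRing.HasTorAmplitudeIn C (a - d) b X
  haveI : P.IsClosedUnderIsomorphisms := ⟨fun e h => amp_of_iso e h⟩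
  refine of_homology P (fun Z hZ => amp_of_isZero hZ _ _) (fun T hT h1 h3 => amp_second T hT h1 h3) K a b
    ((DerivedCategory.isGE_iff _ a).2 fun i hi => h i (Or.inl hi))
    ((DerivedCategory.isLE_iff _ b).2 fun i hi => h i (Or.inr hi)) fun i hi hi' => ?_
  exact amp_of_iso (singleShift i _)
    (amp_mono (amp_shift (amp_of_pd d (hgl ((Groth.L02.PC.HH i).obj K))) (-i)) (by omega) (by omega))

theorem perfect_and_amp_of_fibres {B : Type u} [CommRing B] (d : ℕ) {K : Dual.D B} {P : DRing.Cx B}
    (e : DRing.toD P ≅ K) {N : ℤ} (hPb : DRing.VanishesAbove P N) (hP : DRing.TermwiseFiniteFree P) (a b : ℤ)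
    (h : ∀ n : Ideal B, n.IsMaximal → ∃ (C : CommRingCat.{u}) (φ : B →+* C) (ψ : C →+* B ⧸ n),
      ψ.comp φ = Ideal.Quotient.mk n ∧ (∀ M : ModuleCat.{u} C, HasProjectiveDimensionLT M (d + 1)) ∧
      ∀ i : ℤ, (i < a ∨ b < i) → IsZero (((bcCx φ).obj P).homology i)) :
    DRing.IsPerfect B K ∧ DRing.HasTorAmplitudeIn B (a - d) b K := by
  have hex : ∀ i : ℤ, (i < a - d ∨ b < i) → ∀ n : Ideal B, n.IsMaximal →
      ExMod n (P.d (i - 1) i).hom (P.d i (i + 1)).hom := fun i hi n hn => by
    obtain ⟨C, φ, ψ, hψ, hgl, hz⟩ := h n hn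
    let Pb := (bcCx φ).obj P
    have hb : DRing.VanishesAbove Pb N := fun j hj =>
      (ModuleCat.extendScalars.{u, u, u} φ).map_isZero (hPb j hj)
    have hf : DRing.TermwiseFlat Pb :=
      flat_of_free fun j => haveI := (hP j).1; haveI := (hP j).2; (finite_free_extendScalars φ (P.X j)).2
    obtain ⟨E, hEv, hEf, ⟨eE⟩⟩ := amp_of_homology d hgl (DRing.toD Pb) a b fun j hj =>
      (Groth.L02.PC.isZero_HH_Q_iff Pb j).2 (hz j hj)
    have htE : TZ E i := fun Z => (HomologicalComplex.exactAt_iff_isZero_homology _ i).1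
      (HomologicalComplex.ExactAt.of_isZero ((MonoidalCategory.tensorRight Z).map_isZero (hEv i hi)))
    have ht : TZ Pb i := (tz_iff_of_iso eE.symm hb hf (c := b) (fun j hj => hEv j (Or.inr hj)) hEf i).2 htE
    have h1 := isZero_homology_bcCx_comp φ ψ P i (tz_homology (tz_bcCx ψ Pb i ht))
    rw [hψ] at h1
    have := exMod_of_isZero_bcCx (Ideal.Quotient.mk n) Ideal.Quotient.mk_surjective P i h1
    rwa [Ideal.mk_ker] at this
  refine perfect_and_amp_of_exMod e hPb hP (a - d) b (fun i hi => hex i (Or.inl hi)) fun i hi => ?_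
  haveI := (hP i).1; haveI := (hP (i + 1)).1; haveI := (hP (i + 1)).2
  exact (isZero_homology_iff_exact P (i - 1) i (i + 1) (by omega) rfl).2
    (exact_and_projective_coker (P.d (i - 1) i).hom (P.d i (i + 1)).hom
      (congrArg ModuleCat.Hom.hom (P.d_comp_d (i - 1) i (i + 1))) (hex i (Or.inr hi))).1

variable {A B : Type u} [CommRing A] [CommRing B] [Algebra A B]

/-- the restriction to the base of a bounded above complex of free modules is K-flat -/
theorem isKFlat_res [Module.Flat A B] {P : DRing.Cx B} {N : ℤ} (hPb : DRing.VanishesAbove P N)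
    (hP : ∀ i, Module.Free B (P.X i)) :
    DRing.IsKFlat A (Groth.L20.TorAmp.res (A := A) P) :=
  Groth.L10.KFlat.of_bounded _ N
    (fun i hi => Functor.map_isZero (ModuleCat.restrictScalars.{u} (algebraMap A B)) (hPb i hi))
    fun i => haveI := hP i; Groth.L20.TorAmp.flat_restrict (P.X i)

/-- base change to a fibre computes the tensor product over the base -/
theorem isZero_bcCx_of_fibre {C : Type u} [CommRing C] (φ : B →+* C) (k : ModuleCat.{u} A)
    (e : letI := φ.toAlgebra; C ≃ₗ[B] B ⊗[A] k) (P : DRing.Cx B) (i : ℤ)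
    (h : IsZero ((DRing.tensorCx (Groth.L20.TorAmp.res (A := A) P) k).homology i)) :
    IsZero (((bcCx φ).obj P).homology i) := by
  let := φ.toAlgebra
  letI : ∀ j, Module A (P.X j) := fun j => Module.compHom (P.X j) (algebraMap A B)
  haveI : ∀ j, IsScalarTower A B (P.X j) := fun j => IsScalarTower.of_algebraMap_smul fun _ _ => rfl
  let g : ∀ j l : ℤ, P.X j →ₗ[A] P.X l := fun j l => (P.d j l).hom.restrictScalars A
  have h' : Function.Exact ((g (i - 1) i).rTensor k) ((g i (i + 1)).rTensor k) :=
    (tensor_exact_iff (Groth.L20.TorAmp.res (A := A) P) k (i - 1) i (i + 1) (by omega) rfl).1 h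
  let E : ∀ j, (C ⊗[B] P.X j) ≃+ ((P.X j) ⊗[A] k) := fun j =>
    (TensorProduct.comm B C (P.X j)).toAddEquiv.trans
      ((LinearEquiv.lTensor (P.X j) e).toAddEquiv.trans
        (TensorProduct.AlgebraTensorModule.cancelBaseChange A B B (P.X j) k).toAddEquiv)
  have hsq : ∀ (j l : ℤ) t, (g j l).rTensor k (E j t) = E l ((P.d j l).hom.lTensor C t) := by
    intro j l t
    induction t using TensorProduct.induction_on with
    | zero => simp
    | add u v hu hv => simp only [map_add, hu, hv]
    | tmul c x =>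
      obtain ⟨w, rfl⟩ := e.symm.surjective c
      induction w using TensorProduct.induction_on with
      | zero => simp
      | add u v hu hv => simp only [map_add, TensorProduct.add_tmul, hu, hv]
      | tmul b y => simp [E, g]
  rw [isZero_homology_iff_exact ((bcCx φ).obj P) (i - 1) i (i + 1) (by omega) rfl]
  have h2 := (Function.Exact.iff_of_ladder_addEquiv (E (i - 1)) (E i) (E (i + 1))
    (f₁₂ := ((P.d (i - 1) i).hom.lTensor C).toAddMonoidHom)
    (f₂₃ := ((P.d i (i + 1)).hom.lTensor C).toAddMonoidHom)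
    (g₁₂ := ((g (i - 1) i).rTensor k).toAddMonoidHom) (g₂₃ := ((g i (i + 1)).rTensor k).toAddMonoidHom)
    (AddMonoidHom.ext (hsq (i - 1) i)) (AddMonoidHom.ext (hsq i (i + 1)))).1 h'
  exact fun x => h2 x

/-- extension of scalars to an algebra is the tensor product with it -/
theorem isZero_tensorCx_of_bcCx {k : Type u} [CommRing k] (φ : A →+* k) (Z : DRing.Cx A) (i : ℤ)
    (h : IsZero (((bcCx φ).obj Z).homology i)) :
    letI := φ.toAlgebra; IsZero ((DRing.tensorCx Z (ModuleCat.of A k)).homology i) := by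
  let := φ.toAlgebra
  rw [tensor_exact_iff Z _ (i - 1) i (i + 1) (by omega) rfl]
  have h' : Function.Exact ((Z.d (i - 1) i).hom.lTensor k) ((Z.d i (i + 1)).hom.lTensor k) := by
    have h1 := (isZero_homology_iff_exact ((bcCx φ).obj Z) (i - 1) i (i + 1) (by omega) rfl).1 h
    exact fun x => h1 x
  refine (Function.Exact.iff_of_ladder_addEquiv (TensorProduct.comm A (Z.X (i - 1)) k).toAddEquiv
    (TensorProduct.comm A (Z.X i) k).toAddEquiv (TensorProduct.comm A (Z.X (i + 1)) k).toAddEquiv
    (f₁₂ := ((Z.d (i - 1) i).hom.rTensor k).toAddMonoidHom)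
    (f₂₃ := ((Z.d i (i + 1)).hom.rTensor k).toAddMonoidHom)
    (g₁₂ := ((Z.d (i - 1) i).hom.lTensor k).toAddMonoidHom)
    (g₂₃ := ((Z.d i (i + 1)).hom.lTensor k).toAddMonoidHom) ?_ ?_).1 h'
  all_goals
    ext x
    induction x using TensorProduct.induction_on with
    | zero => simp
    | add u v hu hv => simp_all
    | tmul u v => rfl

end Groth.L10.DR
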