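import Groth.Agent.L10.DRing.CechBaseChange
import Groth.Agent.L10.DRing.DualUnbounded
import Groth.Agent.L10.DRing.FlatDescent
import Groth.Agent.S1812

/-! `RΓ` and change of rings: restriction, and flat base change. -/

universe u

open CategoryTheory CategoryTheory.Limits MonoidalCategory CochainComplex DerCA

attribute [local instance] HasDerivedCategory.standard

set_option backward.defeqAttrib.useBackward true
set_option backward.isDefEq.respectTransparency false
set_option linter.style.haveILetI false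

namespace Groth.L10.GammaChange

open Groth.L10.CompletionFormula Groth.L10.CechTorsLocal Groth.L04.RGamma

theorem shortExact_map {A B : Type u} [CommRing A] [CommRing B] (F : ModuleCat.{u} A ⥤ ModuleCat.{u} B)
    [F.Additive] [PreservesFiniteLimits F] [PreservesFiniteColimits F] {S : ShortComplex (DRing.Cx A)}
    (hS : S.ShortExact) : (S.map (F.mapHomologicalComplex (ComplexShape.up ℤ))).ShortExact :=
  HomologicalComplex.shortExact_of_degreewise_shortExact _ fun i =>
    (hS.map_of_exact (HomologicalComplex.eval (ModuleCat.{u} A) (ComplexShape.up ℤ) i)).map_of_exact F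

variable {A B : Type u} [CommRing A] [CommRing B] (φ : A →+* B)

/-- extension of the torsion property along an ideal extension -/
theorem isPowerTorsion_res {I : Ideal A} {M : ModuleCat.{u} B} (h : LocCoh.IsPowerTorsion (I.map φ) M) :
    LocCoh.IsPowerTorsion I ((ModuleCat.restrictScalars.{u} φ).obj M) := fun x => by
  obtain ⟨n, hn⟩ := h x
  exact ⟨n, fun a ha => hn (φ a) (by rw [← Ideal.map_pow]; exact Ideal.mem_map_of_mem φ ha)⟩

theorem isPowerTorsion_ext {I : Ideal A} {M : ModuleCat.{u} A} (h : LocCoh.IsPowerTorsion I M) :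
    LocCoh.IsPowerTorsion (I.map φ) ((ModuleCat.extendScalars.{u, u, u} φ).obj M) := by
  letI := φ.toAlgebra
  intro (z : TensorProduct A B M)
  induction z using TensorProduct.induction_on with
  | zero => exact ⟨0, fun _ _ => smul_zero _⟩
  | tmul b x =>
    obtain ⟨n, hn⟩ := h x
    refine ⟨n, fun c hc => ?_⟩
    have hle : (I.map φ) ^ n ≤ LinearMap.ker (LinearMap.toSpanSingleton B _ (b ⊗ₜ[A] x : TensorProduct A B M)) := by
      rw [← Ideal.map_pow, Ideal.map_le_iff_le_comap]
      intro a ha
      change φ a • (b ⊗ₜ[A] x : TensorProduct A B M) = 0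
      rw [show φ a • (b ⊗ₜ[A] x : TensorProduct A B M) = a • (b ⊗ₜ[A] x : TensorProduct A B M) from
        algebraMap_smul B a _, ← TensorProduct.tmul_smul, hn a ha, TensorProduct.tmul_zero]
    exact hle hc
  | add u v hu hv =>
    obtain ⟨n, hn⟩ := hu
    obtain ⟨m, hm⟩ := hv
    exact ⟨n + m, fun c hc => by
      erw [smul_add, hn c (Ideal.pow_le_pow_right (Nat.le_add_right _ _) hc),
        hm c (Ideal.pow_le_pow_right (Nat.le_add_left _ _) hc), add_zero]⟩

theorem span_map (I : Ideal A) (fs : List A) (hI : Ideal.span {x : A | x ∈ fs} = I) :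
    Ideal.span {y : B | y ∈ fs.map φ} = I.map φ := by
  rw [← hI, Ideal.map_span]
  congr 1
  ext y
  simp [Set.mem_image]

theorem res_map_smul {K L : DRing.Cx B} (f : A) (g : K ⟶ L) :
    ((ModuleCat.restrictScalars.{u} φ).mapHomologicalComplex (ComplexShape.up ℤ)).map (φ f • g) =
      f • ((ModuleCat.restrictScalars.{u} φ).mapHomologicalComplex (ComplexShape.up ℤ)).map g := by
  ext n : 1
  exact ModuleCat.hom_ext (LinearMap.ext fun _ => rfl)

variable [IsNoetherianRing A] [IsNoetherianRing B] (I : Ideal A) [DRing.HasRgammaI I] [DRing.HasRgammaI (I.map φ)]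

theorem tbij_res_aug (P : DRing.Cx B) : ∀ fs : List A, (∀ x ∈ fs, x ∈ I) →
    Tbij I (DerivedCategory.Q.map
      (((ModuleCat.restrictScalars.{u} φ).mapHomologicalComplex (ComplexShape.up ℤ)).map (aug P (fs.map φ))))
  | [], _ => by
    change Tbij I (DerivedCategory.Q.map
      (((ModuleCat.restrictScalars.{u} φ).mapHomologicalComplex (ComplexShape.up ℤ)).map (rightUnit P).hom))
    exact tbij_iso I _
  | f :: fs, h => by
    rw [List.map_cons, aug, Functor.map_comp, Functor.map_comp]
    refine Tbij.comp ?_ (tbij_res_aug P fs fun x hx => h x (List.mem_cons_of_mem _ hx))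
    let F := (ModuleCat.restrictScalars.{u} φ).mapHomologicalComplex (ComplexShape.up ℤ)
    let E := extCech (ModuleCat.of B B) (fs.map φ)
    let ψ := locCxUnit (Submonoid.powers (φ f)) E
    haveI := isIso_smul_locCx (φ f) E
    haveI : IsIso (φ f • 𝟙 (((locCx (Submonoid.powers (φ f))).obj E)⟦(-1 : ℤ)⟧)) := isIso_smul_shift (φ f) _ _
    let S := ((coconeSC ψ).map (TL P)).map F
    haveI : IsIso (f • 𝟙 S.X₁) := by
      change IsIso (f • 𝟙 (F.obj ((TL P).obj (((locCx (Submonoid.powers (φ f))).obj E)⟦(-1 : ℤ)⟧))))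
      rw [← CategoryTheory.Functor.map_id, ← res_map_smul, ← TL_map_smul]
      infer_instance
    exact tbij_of_ses I (S := S)
      (shortExact_map _ (Groth.L00.BifExact.shortExact_T_of_splitting _ P _ (coconeSplit ψ)))
      (h f (List.mem_cons_self ..))

theorem tbij_ext_aug (hφ : φ.Flat) (P : DRing.Cx A) : ∀ fs : List A, (∀ x ∈ fs, x ∈ I) →
    Tbij (I.map φ) (DerivedCategory.Q.map ((Groth.L02.PC.bcCx φ).map (aug P fs)))
  | [], _ => by
    change Tbij (I.map φ) (DerivedCategory.Q.map ((Groth.L02.PC.bcCx φ).map (rightUnit P).hom))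
    exact tbij_iso _ _
  | f :: fs, h => by
    rw [aug, Functor.map_comp, Functor.map_comp]
    refine Tbij.comp ?_ (tbij_ext_aug hφ P fs fun x hx => h x (List.mem_cons_of_mem _ hx))
    let E := extCech (ModuleCat.of A A) fs
    let ψ := locCxUnit (Submonoid.powers f) E
    haveI := isIso_smul_locCx f E
    haveI : IsIso (f • 𝟙 (((locCx (Submonoid.powers f)).obj E)⟦(-1 : ℤ)⟧)) := isIso_smul_shift f _ _
    let S := ((coconeSC ψ).map (TL P)).map (Groth.L02.PC.bcCx φ)
    haveI : IsIso (φ f • 𝟙 S.X₁) := by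
      change IsIso (φ f • 𝟙 ((Groth.L02.PC.bcCx φ).obj ((TL P).obj (((locCx (Submonoid.powers f)).obj E)⟦(-1 : ℤ)⟧))))
      rw [← CategoryTheory.Functor.map_id, ← CechBaseChange.extCx_map_smul, ← TL_map_smul]
      infer_instance
    haveI : PreservesFiniteLimits (ModuleCat.extendScalars.{u, u, u} φ) :=
      ModuleCat.preservesFiniteLimits_extendScalars_of_flat hφ
    haveI : (ModuleCat.extendScalars.{u, u, u} φ).IsLeftAdjoint :=
      (ModuleCat.extendRestrictScalarsAdj.{u, u, u} φ).isLeftAdjoint
    haveI : PreservesFiniteColimits (ModuleCat.extendScalars.{u, u, u} φ) := inferInstance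
    exact tbij_of_ses (I.map φ) (S := S)
      (shortExact_map _ (Groth.L00.BifExact.shortExact_T_of_splitting _ P _ (coconeSplit ψ)))
      (Ideal.mem_map_of_mem φ (h f (List.mem_cons_self ..)))

theorem nonempty_restrict_iso (K : Dual.D B) :
    Nonempty ((DRing.RgammaI I).obj ((DRing.restrictD φ).obj K) ≅
      (DRing.restrictD φ).obj ((DRing.RgammaI (I.map φ)).obj K)) := by
  obtain ⟨s, hs⟩ := (isNoetherianRing_iff_ideal_fg A).1 inferInstance I
  have hI : Ideal.span {x : A | x ∈ s.toList} = I := by rw [← hs]; congr 1; ext; simp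
  obtain ⟨P, hP, -, ⟨e⟩⟩ := KFlatLBC.exists_rep_flat K
  let R := ModuleCat.restrictScalars.{u} φ
  let X := (TL P).obj (extCech (ModuleCat.of B B) (s.toList.map φ))
  have ht : IsTors I (DRing.toD ((R.mapHomologicalComplex (ComplexShape.up ℤ)).obj X)) := fun i => by
    have h := isPowerTorsion_of_iso _ ((DerivedCategory.homologyFunctorFactors (ModuleCat.{u} B) i).app X)
      (isTors_tensor (I.map φ) _ (span_map φ I _ hI) ((isNoetherianRing_iff_ideal_fg B).1 inferInstance _) P hP i)
    exact isPowerTorsion_of_iso I (((DerivedCategory.homologyFunctorFactors (ModuleCat.{u} A) i).app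
      ((R.mapHomologicalComplex (ComplexShape.up ℤ)).obj X)) ≪≫
      (show ((R.mapHomologicalComplex (ComplexShape.up ℤ)).obj X).homology i ≅ R.obj (X.homology i) from
        (X.sc i).mapHomologyIso R)).symm (isPowerTorsion_res φ h)
  obtain ⟨g⟩ := exists_iso I (Tbij.comp (tbij_res_aug φ I P s.toList fun x hx => hI ▸ Ideal.subset_span hx)
    (tbij_iso I (((R.mapDerivedCategoryFactors).app P).inv ≫ (DRing.restrictD φ).map e.hom)))
    (tbij_ε I ((DRing.restrictD φ).obj K)) ht (isTors_RgammaI I _)
  obtain ⟨g'⟩ := nonempty_gamma_iso (I.map φ) (s.toList.map φ) (span_map φ I _ hI) P hP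
  exact ⟨g.symm ≪≫ ((R.mapDerivedCategoryFactors).app X).symm ≪≫
    (DRing.restrictD φ).mapIso (g' ≪≫ (DRing.RgammaI (I.map φ)).mapIso e)⟩

theorem nonempty_ext_homology (hφ : φ.Flat) [DRing.HasLBaseChange φ] (K : Dual.D A) (i : ℤ) :
    Nonempty ((DerivedCategory.homologyFunctor (ModuleCat.{u} B) i).obj
        ((DRing.RgammaI (I.map φ)).obj ((DRing.LBaseChange φ).obj K)) ≅
      (ModuleCat.extendScalars.{u, u, u} φ).obj ((DerivedCategory.homologyFunctor (ModuleCat.{u} A) i).obj
        ((DRing.RgammaI I).obj K))) := by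
  obtain ⟨s, hs⟩ := (isNoetherianRing_iff_ideal_fg A).1 inferInstance I
  have hI : Ideal.span {x : A | x ∈ s.toList} = I := by rw [← hs]; congr 1; ext; simp
  obtain ⟨P, hP, -, ⟨e⟩⟩ := KFlatLBC.exists_rep_flat K
  let X := (TL P).obj (extCech (ModuleCat.of A A) s.toList)
  have hT := isTors_tensor I _ hI ((isNoetherianRing_iff_ideal_fg A).1 inferInstance I) P hP
  let hX : ∀ j, (DerivedCategory.homologyFunctor (ModuleCat.{u} B) j).obj (DRing.toD ((Groth.L02.PC.bcCx φ).obj X)) ≅
      (ModuleCat.extendScalars.{u, u, u} φ).obj ((DerivedCategory.homologyFunctor (ModuleCat.{u} A) j).obj (DRing.toD X)) := fun j =>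
    (DerivedCategory.homologyFunctorFactors (ModuleCat.{u} B) j).app _ ≪≫
      FlatDescent.homologyIso φ hφ X j ≪≫
      (ModuleCat.extendScalars.{u, u, u} φ).mapIso
        ((DerivedCategory.homologyFunctorFactors (ModuleCat.{u} A) j).app X).symm
  have ht : IsTors (I.map φ) (DRing.toD ((Groth.L02.PC.bcCx φ).obj X)) := fun j =>
    isPowerTorsion_of_iso _ (hX j).symm (isPowerTorsion_ext φ (hT j))
  obtain ⟨g⟩ := exists_iso (I.map φ) (Tbij.comp (tbij_ext_aug φ I hφ P s.toList fun x hx => hI ▸ Ideal.subset_span hx)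
    (tbij_iso _ ((KFlatLBC.lbcKF φ P hP).inv ≫ (DRing.LBaseChange φ).map e.hom)))
    (tbij_ε (I.map φ) ((DRing.LBaseChange φ).obj K)) ht (isTors_RgammaI _ _)
  obtain ⟨g'⟩ := nonempty_gamma_iso I s.toList hI P hP
  exact ⟨(DerivedCategory.homologyFunctor _ i).mapIso g.symm ≪≫ hX i ≪≫
    (ModuleCat.extendScalars.{u, u, u} φ).mapIso
      ((DerivedCategory.homologyFunctor _ i).mapIso (g' ≪≫ (DRing.RgammaI I).mapIso e))⟩

omit [IsNoetherianRing A] [IsNoetherianRing B] in
/-- cohomology commutes with restriction -/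
noncomputable def restrictHomologyIso (Y : Dual.D B) (i : ℤ) :
    (DerivedCategory.homologyFunctor (ModuleCat.{u} A) i).obj ((DRing.restrictD φ).obj Y) ≅
      (ModuleCat.restrictScalars.{u} φ).obj ((DerivedCategory.homologyFunctor (ModuleCat.{u} B) i).obj Y) :=
  let R := ModuleCat.restrictScalars.{u} φ
  let e := DerivedCategory.Q.objObjPreimageIso Y
  let X := DerivedCategory.Q.objPreimage Y
  (DerivedCategory.homologyFunctor _ i).mapIso
      ((DRing.restrictD φ).mapIso e.symm ≪≫ (R.mapDerivedCategoryFactors).app X) ≪≫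
    (DerivedCategory.homologyFunctorFactors (ModuleCat.{u} A) i).app _ ≪≫
    (show ((R.mapHomologicalComplex (ComplexShape.up ℤ)).obj X).homology i ≅ R.obj (X.homology i) from
      (X.sc i).mapHomologyIso R) ≪≫
    R.mapIso (((DerivedCategory.homologyFunctorFactors (ModuleCat.{u} B) i).app X).symm ≪≫
      (DerivedCategory.homologyFunctor _ i).mapIso e)

end Groth.L10.GammaChange
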