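import Groth.Agent.L10.DRing.DualCx
import Groth.Agent.L10.KFlat.Resolution
import Groth.Agent.L28.TensorCx
import Groth.Agent.L02.PC.Basic
import Mathlib.LinearAlgebra.Contraction
import Mathlib.Data.Int.Interval

/-! `Hom•(P, K)` for `P` perfect and `K` K-flat. -/

set_option autoImplicit false

universe u

open CategoryTheory CategoryTheory.Limits MonoidalCategory CochainComplex CochainComplex.HomComplex
open scoped TensorProduct

attribute [local instance] HasDerivedCategory.standard

set_option backward.defeqAttrib.useBackward true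
set_option backward.isDefEq.respectTransparency false
set_option backward.isDefEq.respectTransparency.types false

namespace Groth.L10.HomCxPerfect

open Groth.L28.TensorCx

variable {R : Type u} [CommRing R]

/-! ### contravariance -/

/-- precomposition -/
noncomputable def pre {P P' : DRing.Cx R} (f : P' ⟶ P) (K : DRing.Cx R) :
    DRing.homCx P K ⟶ DRing.homCx P' K where
  f i := ModuleCat.ofHom (X := Cochain P K i) (Y := Cochain P' K i)
    { toFun := fun z => (Cochain.ofHom f).comp z (zero_add i)
      map_add' := fun z z' => by simp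
      map_smul' := fun a z => by simp }
  comm' i j _ := by
    refine ModuleCat.hom_ext (LinearMap.ext fun (z : Cochain P K i) => ?_)
    exact δ_ofHom_comp f z j

theorem pre_id (P K : DRing.Cx R) : pre (𝟙 P) K = 𝟙 _ := by
  refine HomologicalComplex.hom_ext _ _ fun i => ModuleCat.hom_ext (LinearMap.ext fun (z : Cochain P K i) => ?_)
  exact Cochain.id_comp z

theorem pre_comp {P P' P'' : DRing.Cx R} (f : P' ⟶ P) (g : P'' ⟶ P') (K : DRing.Cx R) :
    pre (g ≫ f) K = pre f K ≫ pre g K := by
  refine HomologicalComplex.hom_ext _ _ fun i => ModuleCat.hom_ext (LinearMap.ext fun (z : Cochain P K i) => ?_)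
  show (Cochain.ofHom (g ≫ f)).comp z (zero_add i) =
    (Cochain.ofHom g).comp ((Cochain.ofHom f).comp z (zero_add i)) (zero_add i)
  rw [Cochain.ofHom_comp]
  exact Cochain.comp_assoc_of_first_is_zero_cochain _ _ _ _

/-- precomposition with homotopic maps -/
noncomputable def preHomotopy {P P' : DRing.Cx R} (K : DRing.Cx R) {f g : P' ⟶ P} (h : Homotopy f g) :
    Homotopy (pre f K) (pre g K) where
  hom i j :=
    if hij : j + 1 = i then
      ModuleCat.ofHom (X := Cochain P K i) (Y := Cochain P' K j)
        { toFun := fun z => i.negOnePow • (Cochain.ofHomotopy h).comp z (by omega)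
          map_add' := fun z z' => by simp
          map_smul' := fun a z => (congrArg (i.negOnePow • ·) (Cochain.comp_smul _ a z _)).trans (smul_comm _ _ _) }
    else 0
  zero i j hij := dif_neg hij
  comm i := by
    have hn : (ComplexShape.up ℤ).Rel i (i + 1) := rfl
    have hp : (ComplexShape.up ℤ).Rel (i - 1) i := sub_add_cancel i 1
    rw [dNext_eq _ hn, prevD_eq _ hp, dif_pos rfl, dif_pos (sub_add_cancel i 1)]
    refine ModuleCat.hom_ext (LinearMap.ext fun (z : Cochain P K i) => ?_)
    change (Cochain.ofHom f).comp z (zero_add i) =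
      (i + 1).negOnePow • (Cochain.ofHomotopy h).comp (δ i (i + 1) z) (show -1 + (i + 1) = i by omega) +
      δ (i - 1) i (i.negOnePow • (Cochain.ofHomotopy h).comp z (show -1 + i = i - 1 by omega)) +
        (Cochain.ofHom g).comp z (zero_add i)
    rw [δ_units_smul, δ_comp (Cochain.ofHomotopy h) z (show -1 + i = i - 1 by omega) 0 (i + 1) i (by omega) (by omega) rfl,
      δ_ofHomotopy]
    simp [Cochain.sub_comp, Int.negOnePow_succ, smul_add, smul_smul, Int.units_mul_self]

/-- homotopy equivalent sources -/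
noncomputable def preHomotopyEquiv {P P' : DRing.Cx R} (e : HomotopyEquiv P P') (K : DRing.Cx R) :
    HomotopyEquiv (DRing.homCx P' K) (DRing.homCx P K) where
  hom := pre e.hom K
  inv := pre e.inv K
  homotopyHomInvId := (Homotopy.ofEq (pre_comp _ _ _).symm).trans
    ((preHomotopy K e.homotopyInvHomId).trans (Homotopy.ofEq (pre_id _ _)))
  homotopyInvHomId := (Homotopy.ofEq (pre_comp _ _ _).symm).trans
    ((preHomotopy K e.homotopyHomInvId).trans (Homotopy.ofEq (pre_id _ _)))

/-! ### dual tensor hom -/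

open Groth.L10.DualCx in
/-- a component of a tensor with the dual -/
noncomputable def comp (P K : DRing.Cx R) (p q n : ℤ) :
    (HomologicalComplex.tensorObj (dual P) K).X n →ₗ[R] P.X (-p) →ₗ[R] K.X q :=
  (((p * q).negOnePow : ℤ) : R) • (dualTensorHom R (P.X (-p)) (K.X q)).comp (proj (dual P) K p q n)

open Groth.L10.DualCx

variable (P K : DRing.Cx R)

/-- the comparison map in degree `n` -/
noncomputable def θf (n : ℤ) : (HomologicalComplex.tensorObj (dual P) K).X n →ₗ[R] Cochain P K n where
  toFun t := Cochain.mk fun a b _ => (P.XIsoOfEq (neg_neg a).symm).hom ≫ ModuleCat.ofHom (comp P K (-a) b n t)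
  map_add' t t' := by
    ext a b hab : 1
    refine ModuleCat.hom_ext (LinearMap.ext fun x => ?_)
    simp
  map_smul' c t := by
    ext a b hab : 1
    refine ModuleCat.hom_ext (LinearMap.ext fun x => ?_)
    simp

theorem θf_v (n p q : ℤ) (h : -p + n = q) (t : (HomologicalComplex.tensorObj (dual P) K).X n) :
    (θf P K n t).v (-p) q h = ModuleCat.ofHom (comp P K p q n t) := by
  show (P.XIsoOfEq (neg_neg (-p)).symm).hom ≫ ModuleCat.ofHom (comp P K (- -p) q n t) = _
  have : ∀ (p' : ℤ) (e : -p = -p'), p' = p →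
      (P.XIsoOfEq e).hom ≫ ModuleCat.ofHom (comp P K p' q n t) = ModuleCat.ofHom (comp P K p q n t) := by
    intro p' e hp
    subst hp
    simp [HomologicalComplex.XIsoOfEq]
  exact this (- -p) _ (neg_neg p)

theorem cochain_ext_neg {n : ℤ} {z z' : Cochain P K n}
    (H : ∀ (p q : ℤ) (h : -p + n = q), z.v (-p) q h = z'.v (-p) q h) : z = z' := by
  ext a b hab : 1
  obtain ⟨p, rfl⟩ : ∃ p, a = -p := ⟨-a, (neg_neg a).symm⟩
  exact H p b hab

theorem comp_ins (p q n : ℤ) (h : p + q = n) (φ : Module.Dual R (P.X (-p))) (k : K.X q) (x : P.X (-p)) :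
    comp P K p q n (ins (dual P) K p q n h ((φ : (dual P).X p) ⊗ₜ k)) x = (((p * q).negOnePow : ℤ) : R) • φ x • k := by
  show (((p * q).negOnePow : ℤ) : R) • dualTensorHom R (P.X (-p)) (K.X q)
    (proj (dual P) K p q n (ins (dual P) K p q n h _)) x = _
  rw [proj_ins_self]
  exact congrArg _ (dualTensorHom_apply φ x k)

theorem comp_ins_ne (p q a b n : ℤ) (h : a + b = n) (hne : ¬(a = p ∧ b = q)) (t : (dual P).X a ⊗[R] K.X b) :
    comp P K p q n (ins (dual P) K a b n h t) = 0 := by
  show (((p * q).negOnePow : ℤ) : R) • dualTensorHom R (P.X (-p)) (K.X q) (proj (dual P) K p q n _) = 0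
  rw [proj_ins_ne (dual P) K h hne, map_zero, smul_zero]

theorem comp_d (n n' p' q' : ℤ) (hn : n + 1 = n') (h : -p' + n' = q')
    (t : (HomologicalComplex.tensorObj (dual P) K).X n) :
    ModuleCat.ofHom (comp P K p' q' n' ((HomologicalComplex.tensorObj (dual P) K).d n n' t)) =
      (δ n n' (θf P K n t)).v (-p') q' h := by
  rw [δ_v n n' hn (θf P K n t) (-p') q' h (q' - 1) (-p' + 1) (by omega) (by omega)]
  have e1 : (θf P K n t).v (-p') (q' - 1) (by omega) = ModuleCat.ofHom (comp P K p' (q' - 1) n t) :=
    θf_v P K n p' (q' - 1) (by omega) t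
  have e2 : (θf P K n t).v (-p' + 1) q' (by omega) =
      (P.XIsoOfEq (show -p' + 1 = -(p' - 1) by omega)).hom ≫ ModuleCat.ofHom (comp P K (p' - 1) q' n t) := by
    rw [← θf_v P K n (p' - 1) q' (by omega) t]
    generalize hz : θf P K n t = z
    have : ∀ a (e : -p' + 1 = a) (ha : a + n = q'),
        z.v (-p' + 1) q' (by omega) = (P.XIsoOfEq e).hom ≫ z.v a q' ha := by
      rintro a rfl ha
      simp [HomologicalComplex.XIsoOfEq]
    exact this _ _ _
  rw [e1, e2]
  have e3 : P.d (-p') (-p' + 1) ≫ (P.XIsoOfEq (show -p' + 1 = -(p' - 1) by omega)).hom = P.d (-p') (-(p' - 1)) :=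
    HomologicalComplex.d_comp_XIsoOfEq_hom _ _ _
  rw [← Category.assoc, e3]
  refine ModuleCat.hom_ext (LinearMap.ext fun x => ?_)
  change comp P K p' q' n' ((HomologicalComplex.tensorObj (dual P) K).d n n' t) x =
    (K.d (q' - 1) q').hom (comp P K p' (q' - 1) n t x) +
      ((n'.negOnePow : ℤ) • comp P K (p' - 1) q' n t ((P.d (-p') (-(p' - 1))).hom x))
  revert x
  have key : ((comp P K p' q' n').comp ((HomologicalComplex.tensorObj (dual P) K).d n n').hom) =
      ((LinearMap.llcomp R (P.X (-p')) (K.X (q' - 1)) (K.X q') (K.d (q' - 1) q').hom).comp (comp P K p' (q' - 1) n)) +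
      (n'.negOnePow : ℤ) • ((LinearMap.lcomp R (K.X q') (P.d (-p') (-(p' - 1))).hom).comp (comp P K (p' - 1) q' n)) := by
    refine congrArg ModuleCat.Hom.hom (L28.TensorCx.hom_ext (f := ModuleCat.ofHom ((comp P K p' q' n').comp
      ((HomologicalComplex.tensorObj (dual P) K).d n n').hom)) (g := ModuleCat.ofHom (_ + _))
      (N := ModuleCat.of R (P.X (-p') →ₗ[R] K.X q')) fun p q hpq z => ?_)
    induction z using TensorProduct.induction_on with
    | zero => simp
    | add z z' hz hz' => simp only [map_add, hz, hz']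
    | tmul φ k =>
      refine LinearMap.ext fun x => ?_
      change comp P K p' q' n' ((HomologicalComplex.tensorObj (dual P) K).d n n' (ins (dual P) K p q n hpq (φ ⊗ₜ k))) x =
        (K.d (q' - 1) q').hom (comp P K p' (q' - 1) n (ins (dual P) K p q n hpq (φ ⊗ₜ k)) x) +
          ((n'.negOnePow : ℤ) • comp P K (p' - 1) q' n (ins (dual P) K p q n hpq (φ ⊗ₜ k)) ((P.d (-p') (-(p' - 1))).hom x))
      rw [d_ins (dual P) K p q n n' (p + 1) (q + 1) hpq hn rfl rfl (by omega) (by omega)]
      rw [map_add, map_zsmul, LinearMap.add_apply, LinearMap.smul_apply, LinearMap.rTensor_tmul, LinearMap.lTensor_tmul]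
      by_cases hA : p = p'
      · subst hA
        obtain rfl : q = q' - 1 := by omega
        rw [comp_ins_ne P K p q' (p + 1) (q' - 1) n' (by omega) (by omega), LinearMap.zero_apply, zero_add,
          comp_ins_ne P K (p - 1) q' p (q' - 1) n (by omega) (by omega), LinearMap.zero_apply, smul_zero, add_zero]
        obtain ⟨q, rfl⟩ : ∃ q, q' = q + 1 := ⟨q' - 1, by omega⟩
        have hq : ∀ (q₁ : ℤ) (hh : p + q₁ = n) (k₁ : K.X q₁), q₁ = q →
            ((ComplexShape.ε (ComplexShape.up ℤ) p : ℤˣ) : ℤ) • comp P K p (q + 1) n'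
              (ins (dual P) K p (q₁ + 1) n' (by omega) (φ ⊗ₜ (K.d q₁ (q₁ + 1)).hom k₁)) x =
            (K.d q₁ (q + 1)).hom (comp P K p q₁ n (ins (dual P) K p q₁ n hh (φ ⊗ₜ k₁)) x) := by
          intro q₁ hh k₁ e
          subst e
          rw [comp_ins, comp_ins, map_smul, map_smul, ← Int.cast_smul_eq_zsmul R, smul_smul, ← Int.cast_mul,
            ← Units.val_mul, ComplexShape.ε_up_ℤ, ← Int.negOnePow_add,
            show p + p * (q₁ + 1) = p * q₁ + (p + p) by ring, Int.negOnePow_add _ (p + p),
            Int.negOnePow_even (p + p) ⟨p, rfl⟩, mul_one]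
        exact hq _ hpq k (by omega)
      · by_cases hB : p + 1 = p'
        · subst hB
          obtain rfl : q = q' := by omega
          rw [comp_ins_ne P K (p + 1) q p (q + 1) n' (by omega) (by omega), LinearMap.zero_apply, smul_zero, add_zero,
            comp_ins_ne P K (p + 1) (q - 1) p q n hpq (by omega), LinearMap.zero_apply, map_zero, zero_add]
          have hp : ∀ (p₁ : ℤ) (hh : p₁ + q = n) (φ₁ : (dual P).X p₁), p₁ = p →
              comp P K (p + 1) q n' (ins (dual P) K (p + 1) q n' (by omega) (((dual P).d p₁ (p + 1)).hom φ₁ ⊗ₜ k)) x =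
              ((n'.negOnePow : ℤ) • comp P K p₁ q n (ins (dual P) K p₁ q n hh (φ₁ ⊗ₜ k)) ((P.d (-(p + 1)) (-p₁)).hom x)) := by
            intro p₁ hh φ₁ e
            subst e
            rw [comp_ins]
            erw [dual_d_apply]
            rw [comp_ins, ← Int.cast_smul_eq_zsmul R]
            simp only [smul_eq_mul, smul_smul, ← mul_assoc, ← Int.cast_mul, ← Units.val_mul, ← Int.negOnePow_add]
            rw [show (p₁ + 1) * q + (p₁ + 1) = n' + p₁ * q by rw [← hn, ← hh]; ring]
          have hgen : ∀ (p₁ : ℤ) (e : p₁ = p),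
              ((n'.negOnePow : ℤ) • comp P K p₁ q n (ins (dual P) K p q n hpq (φ ⊗ₜ k)) ((P.d (-(p + 1)) (-p₁)).hom x)) =
              ((n'.negOnePow : ℤ) • comp P K p q n (ins (dual P) K p q n hpq (φ ⊗ₜ k)) ((P.d (-(p + 1)) (-p)).hom x)) := by
            intro p₁ e
            subst e
            rfl
          exact (hp p hpq φ rfl).trans (hgen (p + 1 - 1) (by omega)).symm
        · rw [comp_ins_ne P K p' q' (p + 1) q n' (by omega) (by omega),
            comp_ins_ne P K p' q' p (q + 1) n' (by omega) (by omega),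
            comp_ins_ne P K p' (q' - 1) p q n hpq (by omega),
            comp_ins_ne P K (p' - 1) q' p q n hpq (by omega)]
          simp
  exact fun x => LinearMap.congr_fun (LinearMap.congr_fun key t) x

/-- the comparison map -/
noncomputable def θ : HomologicalComplex.tensorObj (dual P) K ⟶ DRing.homCx P K where
  f n := ModuleCat.ofHom (Y := Cochain P K n) (θf P K n)
  comm' n n' hn := by
    refine ModuleCat.hom_ext (LinearMap.ext fun t => ?_)
    show δ n n' (θf P K n t) = θf P K n' ((HomologicalComplex.tensorObj (dual P) K).d n n' t)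
    refine cochain_ext_neg P K fun p q h => ?_
    rw [θf_v, comp_d P K n n' p q hn h]

variable {P K}

theorem θf_bijective {a b : ℤ} (hv : DRing.VanishesOutside P a b) (hP : DRing.TermwiseFiniteProjective P) (n : ℤ) :
    Function.Bijective (θf P K n) := by
  classical
  let S : Finset ℤ := Finset.Icc (-b) (-a)
  have hz : ∀ p, p ∉ S → IsZero (P.X (-p)) := fun p hp => hv _ (by simp [S] at hp; omega)
  have hdec : ∀ t : (HomologicalComplex.tensorObj (dual P) K).X n,
      t = ∑ p ∈ S, ins (dual P) K p (n - p) n (by omega) (proj (dual P) K p (n - p) n t) := by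
    intro t
    have key : 𝟙 _ = ModuleCat.ofHom (∑ p ∈ S, (ins (dual P) K p (n - p) n (by omega)).comp (proj (dual P) K p (n - p) n)) := by
      refine L28.TensorCx.hom_ext fun p q h z => ?_
      obtain rfl : q = n - p := by omega
      show ins (dual P) K p (n - p) n h z = (∑ p₁ ∈ S, (ins (dual P) K p₁ (n - p₁) n (by omega)).comp
        (proj (dual P) K p₁ (n - p₁) n)) (ins (dual P) K p (n - p) n h z)
      rw [LinearMap.sum_apply, Finset.sum_eq_single p (fun p₁ _ hne => by
        rw [LinearMap.comp_apply, proj_ins_ne (dual P) K h (fun e => hne e.1.symm), map_zero]) (fun hp => by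
        haveI := ModuleCat.subsingleton_of_isZero (hz p hp)
        haveI : Subsingleton ((dual P).X p) := inferInstanceAs (Subsingleton (Module.Dual R (P.X (-p))))
        rw [Subsingleton.elim z 0]
        simp)]
      rw [LinearMap.comp_apply, proj_ins_self]
    have := congrArg (fun φ => φ.hom t) key
    simpa using this
  have hbij : ∀ p q, Function.Bijective fun w : (dual P).X p ⊗[R] K.X q =>
      (((p * q).negOnePow : ℤ) : R) • dualTensorHom R (P.X (-p)) (K.X q) w := fun p q => by
    haveI := (hP (-p)).1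
    haveI := (hP (-p)).2
    have hu : IsUnit (((p * q).negOnePow : ℤ) : R) :=
      ((p * q).negOnePow.isUnit).map (Int.castRingHom R)
    exact hu.smul_bijective.comp dualTensorHom_bijective
  refine ⟨(injective_iff_map_eq_zero _).2 fun t ht => ?_, fun z => ?_⟩
  · rw [hdec t]
    refine Finset.sum_eq_zero fun p _ => ?_
    have h := θf_v P K n p (n - p) (by omega) t
    rw [ht, Cochain.zero_v] at h
    rw [(hbij p (n - p)).1 (a₁ := proj (dual P) K p (n - p) n t) (a₂ := 0)
      ((congrArg ModuleCat.Hom.hom h).symm.trans (by simp)), map_zero]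
  · choose w hw using fun p => (hbij p (n - p)).2 (z.v (-p) (n - p) (by omega)).hom
    refine ⟨∑ p ∈ S, ins (dual P) K p (n - p) n (by omega) (w p), cochain_ext_neg P K fun p q h => ?_⟩
    obtain rfl : q = n - p := by omega
    rw [θf_v]
    refine ModuleCat.hom_ext ?_
    show comp P K p (n - p) n (∑ p₁ ∈ S, ins (dual P) K p₁ (n - p₁) n (by omega) (w p₁)) = (z.v (-p) (n - p) h).hom
    rw [map_sum, Finset.sum_eq_single p (fun p₁ _ hne => comp_ins_ne P K _ _ _ _ n _ (fun e => hne e.1) _)
      (fun hp => by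
        haveI := ModuleCat.subsingleton_of_isZero (hz p hp)
        exact LinearMap.ext fun x => by rw [Subsingleton.elim x 0, map_zero, LinearMap.zero_apply])]
    show (((p * (n - p)).negOnePow : ℤ) : R) • dualTensorHom R _ _ (proj (dual P) K p (n - p) n (ins _ _ _ _ n _ (w p))) = _
    rw [proj_ins_self]
    exact hw p

theorem isKFlat_homCx {P K : DRing.Cx R} (b : ℤ) (hPb : DRing.VanishesAbove P b)
    (hPp : ∀ i, Module.Projective R (P.X i)) (hperf : DRing.IsPerfect R (DRing.toD P)) (hK : DRing.IsKFlat R K) :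
    DRing.IsKFlat R (DRing.homCx P K) := by
  obtain ⟨E, a, c, hv, hE, ⟨e⟩⟩ := hperf
  haveI : P.IsKProjective :=
    haveI : P.IsStrictlyLE b := (CochainComplex.isStrictlyLE_iff _ _).2 hPb
    haveI : ∀ i, Projective (P.X i) := fun i => (IsProjective.iff_projective _).1 (hPp i)
    CochainComplex.isKProjective_of_projective P b
  haveI : E.IsKProjective := Groth.L10.DualCx.isKProjective hv hE
  obtain ⟨f, hf⟩ := Groth.L02.PC.exists_chainMap e.hom
  obtain ⟨g, hg⟩ := Groth.L02.PC.exists_chainMap e.inv
  have hhtpy : ∀ {X : DRing.Cx R} [X.IsKProjective] (h : X ⟶ X), DerivedCategory.Q.map h = 𝟙 _ →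
      Nonempty (Homotopy h (𝟙 X)) := by
    intro X _ h hh
    refine ⟨HomotopyCategory.homotopyOfEq _ _ ((CochainComplex.IsKProjective.Qh_map_bijective X _).1 ?_)⟩
    have n1 := (DerivedCategory.quotientCompQhIso (ModuleCat.{u} R)).hom.naturality h
    simp only [Functor.comp_map] at n1
    rw [← cancel_mono ((DerivedCategory.quotientCompQhIso (ModuleCat.{u} R)).hom.app X), n1, hh,
      CategoryTheory.Functor.map_id, CategoryTheory.Functor.map_id]
    exact (Category.comp_id _).trans (Category.id_comp _).symm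
  obtain ⟨h1⟩ := hhtpy (f ≫ g) (by rw [Functor.map_comp, hf, hg, Iso.hom_inv_id])
  obtain ⟨h2⟩ := hhtpy (g ≫ f) (by rw [Functor.map_comp, hf, hg, Iso.inv_hom_id])
  let he : HomotopyEquiv E P := ⟨f, g, h1, h2⟩
  have hd : DRing.IsKFlat R (dual E) := Groth.L10.KFlat.of_bounded _ (-a)
    (fun i hi => Groth.L10.DualCx.vanishesOutside_dual hv i (Or.inr hi))
    fun i => by
      haveI := (Groth.L10.DualCx.finProj_dual hE i).2
      infer_instance
  haveI : ∀ n, IsIso ((θ E K).f n) := fun n =>
    (ConcreteCategory.isIso_iff_bijective _).2 (θf_bijective hv hE n)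
  haveI : IsIso (θ E K) := HomologicalComplex.Hom.isIso_of_components _
  exact Groth.L10.KFlat.of_homotopyEquiv (preHomotopyEquiv he K).symm
    (Groth.L10.KFlat.of_iso (asIso (θ E K)) (Groth.L10.KFlat.isKFlat_tensor hd hK))

end Groth.L10.HomCxPerfect
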