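import Groth.Agent.L10.DRing.FibrePerfect

/-! Tor amplitude modulo an ideal in the Jacobson radical. -/

universe u

open CategoryTheory CategoryTheory.Limits CochainComplex

attribute [local instance] HasDerivedCategory.standard

set_option backward.defeqAttrib.useBackward true
set_option backward.isDefEq.respectTransparency false
namespace Groth.L10.DR

open Groth.L02.PC Groth.L10.ResidueExact

variable {A : Type u} [CommRing A]

theorem isZero_homology_bcCx_comp {B C : Type u} [CommRing B] [CommRing C] (φ : A →+* B) (ψ : B →+* C)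
    (P : DRing.Cx A) (i : ℤ) (h : IsZero (((bcCx ψ).obj ((bcCx φ).obj P)).homology i)) :
    IsZero (((bcCx (ψ.comp φ)).obj P).homology i) :=
  h.of_iso ((HomologicalComplex.homologyFunctor (ModuleCat.{u} C) (ComplexShape.up ℤ) i).mapIso
    (((NatIso.mapHomologicalComplex (ModuleCat.extendScalarsComp.{u, u} φ ψ) (ComplexShape.up ℤ)).app P)))

theorem perfect_and_amp_of_jacobson (I : Ideal A) (hI : I ≤ Ideal.jacobson (⊥ : Ideal A))
    [DRing.HasLBaseChange (Ideal.Quotient.mk I)] (K : Dual.D A) (hK : DRing.IsPseudoCoherent' A K) (a b : ℤ)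
    (h : DRing.HasTorAmplitudeIn (A ⧸ I) a b ((DRing.LBaseChange (Ideal.Quotient.mk I)).obj K)) :
    DRing.IsPerfect A K ∧ DRing.HasTorAmplitudeIn A a b K := by
  obtain ⟨P, B, hPb, hP, ⟨e⟩⟩ := hK
  haveI : P.IsKProjective := isKProjective_of_vanishesAbove hPb fun i => haveI := (hP i).2; inferInstance
  obtain ⟨E, hEv, hEf, ⟨eE⟩⟩ := h
  let Pb := (bcCx (Ideal.Quotient.mk I)).obj P
  have hb : DRing.VanishesAbove Pb B := fun i hi =>
    (ModuleCat.extendScalars.{u, u, u} (Ideal.Quotient.mk I)).map_isZero (hPb i hi)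
  have hf : DRing.TermwiseFlat Pb :=
    flat_of_free fun i => haveI := (hP i).1; haveI := (hP i).2; (finite_free_extendScalars _ (P.X i)).2
  let eP : DRing.toD Pb ≅ DRing.toD E :=
    (lbcIso _ P).symm ≪≫ (DRing.LBaseChange (Ideal.Quotient.mk I)).mapIso e ≪≫ eE.symm
  have hex : ∀ i : ℤ, (i < a ∨ b < i) → ∀ m : Ideal A, m.IsMaximal →
      ExMod m (P.d (i - 1) i).hom (P.d i (i + 1)).hom := fun i hi m hm => by
    have hIm : I ≤ m := hI.trans (sInf_le ⟨bot_le, hm⟩)
    have htE : TZ E i := fun N => (HomologicalComplex.exactAt_iff_isZero_homology _ i).1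
      (HomologicalComplex.ExactAt.of_isZero ((MonoidalCategory.tensorRight N).map_isZero (hEv i hi)))
    have ht : TZ Pb i := (tz_iff_of_iso eP hb hf (c := b) (fun j hj => hEv j (Or.inr hj)) hEf i).2 htE
    let ψ : A ⧸ I →+* A ⧸ m := Ideal.Quotient.factor hIm
    have h1 := isZero_homology_bcCx_comp (Ideal.Quotient.mk I) ψ P i (tz_homology (tz_bcCx ψ Pb i ht))
    rw [show ψ.comp (Ideal.Quotient.mk I) = Ideal.Quotient.mk m from Ideal.Quotient.factor_comp_mk hIm] at h1
    have := exMod_of_isZero_bcCx (Ideal.Quotient.mk m) Ideal.Quotient.mk_surjective P i h1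
    rwa [Ideal.mk_ker] at this
  refine perfect_and_amp_of_exMod e hPb hP a b (fun i hi => hex i (Or.inl hi)) fun i hi => ?_
  haveI := (hP i).1; haveI := (hP (i + 1)).1; haveI := (hP (i + 1)).2
  exact (isZero_homology_iff_exact P (i - 1) i (i + 1) (by omega) rfl).2
    (exact_and_projective_coker (P.d (i - 1) i).hom (P.d i (i + 1)).hom
      (congrArg ModuleCat.Hom.hom (P.d_comp_d (i - 1) i (i + 1))) (hex i (Or.inr hi))).1

end Groth.L10.DR
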