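import Groth.Agent.L10.DRing.Amp
import Groth.Agent.L02.PC.Counit
import Groth.Prelude.Def_DDual2

/-! Tor amplitude by the derived tensor product with modules. -/

universe u

open CategoryTheory CategoryTheory.Limits MonoidalCategory CochainComplex

attribute [local instance] HasDerivedCategory.standard

set_option backward.defeqAttrib.useBackward true
set_option backward.isDefEq.respectTransparency false
namespace Groth.L10.DR

variable {A : Type u} [CommRing A]

theorem isZero_HH_LTensor_iff (M : ModuleCat.{u} A) [DRing.HasLTensor A M] {K : Dual.D A} {P : DRing.Cx A}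
    [P.IsKProjective] (e : DRing.toD P ≅ K) (i : ℤ) :
    IsZero ((Groth.L02.PC.HH i).obj ((DRing.LTensor A M).obj K)) ↔ IsZero ((DRing.tensorCx P M).homology i) := by
  haveI : (DRing.LTensor A M).IsRightKanExtension
      ((DRing.tensorKh A M).totalLeftDerivedCounit DerivedCategory.Qh
        (HomotopyCategory.quasiIso (ModuleCat.{u} A) (ComplexShape.up ℤ))) :=
    Functor.IsLeftDerivedFunctor.isRightKanExtension _ _
      (HomotopyCategory.quasiIso (ModuleCat.{u} A) (ComplexShape.up ℤ))
  haveI := Groth.L02.PC.isIso_counit_of_isKProjective P (DRing.tensorKh A M) (DRing.LTensor A M)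
    ((DRing.tensorKh A M).totalLeftDerivedCounit DerivedCategory.Qh
        (HomotopyCategory.quasiIso (ModuleCat.{u} A) (ComplexShape.up ℤ)))
  let e1 : (DRing.LTensor A M).obj K ≅ DRing.toD (DRing.tensorCx P M) :=
    (DRing.LTensor A M).mapIso (((DerivedCategory.quotientCompQhIso (ModuleCat.{u} A)).app P) ≪≫ e).symm ≪≫
      asIso (((DRing.tensorKh A M).totalLeftDerivedCounit DerivedCategory.Qh
        (HomotopyCategory.quasiIso (ModuleCat.{u} A) (ComplexShape.up ℤ))).app
          ((HomotopyCategory.quotient _ _).obj P)) ≪≫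
      (DerivedCategory.quotientCompQhIso (ModuleCat.{u} A)).app (DRing.tensorCx P M)
  exact HH_iso_zero e1.symm i

/-- `K` is a direct summand of `K ⊗ A`. -/
theorem isZero_HH_of_LTensor_self [DRing.HasLTensor A (𝟙_ (ModuleCat.{u} A))] (K : Dual.D A) (i : ℤ)
    (h : IsZero ((Groth.L02.PC.HH i).obj ((DRing.LTensor A (𝟙_ (ModuleCat.{u} A))).obj K))) :
    IsZero ((Groth.L02.PC.HH i).obj K) := by
  let M := 𝟙_ (ModuleCat.{u} A)
  haveI : (DRing.LTensor A M).IsRightKanExtension
      ((DRing.tensorKh A M).totalLeftDerivedCounit DerivedCategory.Qh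
        (HomotopyCategory.quasiIso (ModuleCat.{u} A) (ComplexShape.up ℤ))) :=
    Functor.IsLeftDerivedFunctor.isRightKanExtension _ _
      (HomotopyCategory.quasiIso (ModuleCat.{u} A) (ComplexShape.up ℤ))
  let τ : 𝟭 (ModuleCat.{u} A) ≅ tensorRight M := (rightUnitorNatIso (ModuleCat.{u} A)).symm
  let β : DerivedCategory.Qh ⋙ 𝟭 (Dual.D A) ⟶ DRing.tensorKh A M :=
    { app := fun Y => DerivedCategory.Qh.map ((HomotopyCategory.quotient _ _).map
        ((NatTrans.mapHomologicalComplex τ.hom (ComplexShape.up ℤ)).app Y.as))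
      naturality := fun Y Y' f => by
        obtain ⟨f, rfl⟩ := (HomotopyCategory.quotient _ _).map_surjective (X := Y.as) (Y := Y'.as) f
        have h := congrArg (fun g => DerivedCategory.Qh.map ((HomotopyCategory.quotient _ _).map g))
          ((NatTrans.mapHomologicalComplex τ.hom (ComplexShape.up ℤ)).naturality f)
        simp only [Functor.map_comp] at h
        exact h }
  let α := (DRing.tensorKh A M).totalLeftDerivedCounit DerivedCategory.Qh
    (HomotopyCategory.quasiIso (ModuleCat.{u} A) (ComplexShape.up ℤ))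
  let σ := (DRing.LTensor A M).liftOfIsRightKanExtension α (𝟭 _) β
  obtain ⟨L, ⟨e⟩⟩ : ∃ L : DRing.Cx A, Nonempty (DRing.toD L ≅ K) := ⟨_, ⟨DerivedCategory.Q.objObjPreimageIso K⟩⟩
  let Y := (HomotopyCategory.quotient (ModuleCat.{u} A) (ComplexShape.up ℤ)).obj L
  have hσ := (DRing.LTensor A M).liftOfIsRightKanExtension_fac_app α (𝟭 _) β Y
  change σ.app _ ≫ _ = β.app _ at hσ
  have hiso : IsIso ((NatTrans.mapHomologicalComplex τ.hom (ComplexShape.up ℤ)).app L) :=
    ((NatIso.mapHomologicalComplex τ (ComplexShape.up ℤ)).app L).isIso_hom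
  have : IsIso (β.app Y) := by
    change IsIso (DerivedCategory.Qh.map ((HomotopyCategory.quotient _ _).map
      ((NatTrans.mapHomologicalComplex τ.hom (ComplexShape.up ℤ)).app L)))
    infer_instance
  have : IsSplitMono (σ.app (DerivedCategory.Qh.obj Y)) :=
    IsSplitMono.mk' ⟨α.app Y ≫ inv (β.app Y), by rw [reassoc_of% hσ]; exact IsIso.hom_inv_id _⟩
  let eY : DerivedCategory.Qh.obj Y ≅ K := (DerivedCategory.quotientCompQhIso (ModuleCat.{u} A)).app L ≪≫ e
  have hz : IsZero ((Groth.L02.PC.HH i).obj ((DRing.LTensor A M).obj (DerivedCategory.Qh.obj Y))) :=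
    h.of_iso ((Groth.L02.PC.HH i).mapIso ((DRing.LTensor A M).mapIso eY))
  refine IsZero.of_iso ?_ ((Groth.L02.PC.HH i).mapIso eY.symm)
  exact IsZero.of_mono ((Groth.L02.PC.HH i).map (σ.app (DerivedCategory.Qh.obj Y))) hz

theorem amp_iff_LTensor [∀ M : ModuleCat.{u} A, DRing.HasLTensor A M] (K : Dual.D A) (a b : ℤ) :
    DRing.HasTorAmplitudeIn A a b K ↔
      ∀ (M : ModuleCat.{u} A) (i : ℤ), (i < a ∨ b < i) → Subsingleton (Dual.HD A ((DRing.LTensor A M).obj K) i) := by
  constructor
  · intro hK M i hi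
    obtain ⟨P, hPb, hPf, hPk, ⟨e⟩⟩ := Groth.L02.PC.exists_free_rep (K := K) (n := b) (amp_LEH hK)
    haveI := hPk
    refine ModuleCat.subsingleton_of_isZero ((isZero_HH_LTensor_iff M e i).2 ?_)
    rcases hi with hi | hi
    · exact ((amp_iff e hPb (flat_of_free hPf) a b).1 hK).1 i hi M
    · exact (HomologicalComplex.exactAt_iff_isZero_homology _ i).1
        (HomologicalComplex.ExactAt.of_isZero (Functor.map_isZero (tensorRight M) (hPb i hi)))
  · intro h
    have hb : ∀ i, b < i → IsZero ((Groth.L02.PC.HH i).obj K) := fun i hi =>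
      haveI := h (𝟙_ (ModuleCat.{u} A)) i (Or.inr hi)
      isZero_HH_of_LTensor_self K i (ModuleCat.isZero_of_subsingleton _)
    obtain ⟨P, hPb, hPf, hPk, ⟨e⟩⟩ := Groth.L02.PC.exists_free_rep (K := K) (n := b) hb
    haveI := hPk
    refine (amp_iff e hPb (flat_of_free hPf) a b).2 ⟨fun i hi M => ?_, hb⟩
    haveI := h M i (Or.inl hi)
    exact (isZero_HH_LTensor_iff M e i).1 (ModuleCat.isZero_of_subsingleton _)

end Groth.L10.DR
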