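import Groth.Agent.L10.DRing.Devissage
import Groth.Agent.L28.HomElt
import Mathlib.Algebra.Module.FinitePresentation
import Mathlib.RingTheory.Finiteness.Projective

/-! Maps from pseudo-coherent objects to shifted modules, injective on one cohomology module. -/

universe u

open CategoryTheory CategoryTheory.Limits

attribute [local instance] HasDerivedCategory.standard

set_option backward.defeqAttrib.useBackward true
set_option backward.isDefEq.respectTransparency false

namespace Groth.L10.MonoToModule

variable {A : Type u} [CommRing A]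

/-- the shifted modules in cohomological degree `i` -/
noncomputable def homologyShiftIso (i : ℤ) :
    DerivedCategory.singleFunctor (ModuleCat.{u} A) 0 ⋙ CategoryTheory.shiftFunctor (Dual.D A) (-i) ⋙
      DerivedCategory.homologyFunctor (ModuleCat.{u} A) i ≅ 𝟭 (ModuleCat.{u} A) :=
  (Functor.associator _ _ _).symm ≪≫
    Functor.isoWhiskerRight ((DerivedCategory.singleFunctors (ModuleCat.{u} A)).shiftIso (-i) i 0 (by omega)) _ ≪≫
    DerivedCategory.singleFunctorCompHomologyFunctorIso (ModuleCat.{u} A) i

theorem exists_mono (K : Dual.D A) (hK : DRing.IsPseudoCoherent' A K) (i : ℤ) :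
    ∃ (M : Type u) (_ : AddCommGroup M) (_ : Module A M) (_ : Module.FinitePresentation A M)
      (f : K ⟶ (CategoryTheory.shiftFunctor (Dual.D A) (-i)).obj (Dual.inD A M)),
      Mono ((DerivedCategory.homologyFunctor (ModuleCat.{u} A) i).map f) := by
  obtain ⟨P, b, -, hP, ⟨e⟩⟩ := hK
  let N : Submodule A (P.X i) := LinearMap.range (P.d (i - 1) i).hom
  haveI := (hP i).1; haveI := (hP i).2; haveI := (hP (i - 1)).1
  haveI : Module.FinitePresentation A (P.X i) := Module.finitePresentation_of_projective A _
  have hfp : Module.FinitePresentation A (P.X i ⧸ N) :=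
    Module.finitePresentation_of_surjective N.mkQ N.mkQ_surjective
      (by rw [Submodule.ker_mkQ]; exact (Submodule.fg_top _).1 (by
        exact Module.Finite.fg_top (R := A) (M := LinearMap.range (P.d (i - 1) i).hom)))
  let M := ModuleCat.of A (P.X i ⧸ N)
  let S := (HomologicalComplex.single (ModuleCat.{u} A) (ComplexShape.up ℤ) i).obj M
  have hcond : ∀ j, (ComplexShape.up ℤ).Rel j i → P.d j i ≫ ModuleCat.ofHom N.mkQ = 0 := fun j hj => by
    obtain rfl : j = i - 1 := by simp at hj; omega
    refine ModuleCat.hom_ext (LinearMap.ext fun x => ?_)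
    change Submodule.Quotient.mk ((P.d (i - 1) i).hom x) = (0 : P.X i ⧸ N)
    exact (Submodule.Quotient.mk_eq_zero N).2 ⟨x, rfl⟩
  let g : P ⟶ S := HomologicalComplex.mkHomToSingle (A := M) (ModuleCat.ofHom N.mkQ) hcond
  have hg : Mono (HomologicalComplex.homologyMap g i) := by
    refine ConcreteCategory.mono_of_injective _ ?_
    refine (L28.HomElt.injective_homologyMap_iff g (i := i - 1) (j := i) (k := i + 1) (CochainComplex.prev ℤ i)
      (CochainComplex.next ℤ i)).2 fun z w _ hw => ?_
    have h1 : (g.f i).hom z = 0 := by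
      rw [show (g.f i).hom z = _ from hw]
      simp [S, HomologicalComplex.single_obj_d]
    have h2 : (ModuleCat.ofHom N.mkQ).hom z = 0 := by
      have := congrArg (HomologicalComplex.singleObjXSelf (ComplexShape.up ℤ) i M).hom.hom h1
      rw [map_zero, ← ModuleCat.comp_apply] at this
      simp [g] at this
      exact this
    obtain ⟨v, hv⟩ := (Submodule.Quotient.mk_eq_zero N).1 h2
    exact ⟨v, hv⟩
  let s : DRing.toD S ≅ (CategoryTheory.shiftFunctor (Dual.D A) (-i)).obj (Dual.inD A M) :=
    ((DerivedCategory.singleFunctorIsoCompQ (ModuleCat.{u} A) i).app M).symm ≪≫ (Groth.L10.DR.singleShift i M).symm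
  refine ⟨P.X i ⧸ N, inferInstance, inferInstance, hfp, e.inv ≫ DerivedCategory.Q.map g ≫ s.hom, ?_⟩
  haveI : Mono ((DerivedCategory.homologyFunctor (ModuleCat.{u} A) i).map (DerivedCategory.Q.map g)) :=
    ((MorphismProperty.monomorphisms _).arrow_mk_iso_iff
      ((Arrow.isoMk ((DerivedCategory.homologyFunctorFactors (ModuleCat.{u} A) i).app P)
        ((DerivedCategory.homologyFunctorFactors (ModuleCat.{u} A) i).app S)
        ((DerivedCategory.homologyFunctorFactors (ModuleCat.{u} A) i).hom.naturality g).symm))).2 hg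
  rw [Functor.map_comp, Functor.map_comp]
  infer_instance

theorem exists_nonzero [IsNoetherianRing A] (K : Dual.D A) (hK : DRing.IsPseudoCoherent' A K) (m : Ideal A) (i : ℤ)
    (hi : m • (⊤ : Submodule A (Dual.HD A K i)) ≠ ⊤) :
    ∃ (E : Type u) (_ : AddCommGroup E) (_ : Module A E) (_ : Module.Finite A E) (n : ℕ)
      (_ : m ^ n • (⊤ : Submodule A E) = ⊥) (f : K ⟶ (CategoryTheory.shiftFunctor (Dual.D A) (-i)).obj (Dual.inD A E)),
      (DerivedCategory.homologyFunctor (ModuleCat.{u} A) i).map f ≠ 0 := by
  obtain ⟨M, _, _, hfp, f, hf⟩ := exists_mono K hK i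
  let ν := homologyShiftIso (A := A) i
  let u : Dual.HD A K i →ₗ[A] M :=
    ((DerivedCategory.homologyFunctor (ModuleCat.{u} A) i).map f ≫ ν.hom.app (ModuleCat.of A M)).hom
  have hu : Function.Injective u := by
    haveI := hf
    exact (ModuleCat.mono_iff_injective _).1 (inferInstance :
      Mono ((DerivedCategory.homologyFunctor (ModuleCat.{u} A) i).map f ≫ ν.hom.app (ModuleCat.of A M)))
  obtain ⟨k, hk⟩ := Ideal.exists_pow_inf_eq_pow_smul m (LinearMap.range u)
  let N : Submodule A M := m ^ (k + 1) • ⊤
  obtain ⟨x, hx⟩ : ∃ x, u x ∉ N := by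
    by_contra hall
    push Not at hall
    apply hi
    rw [eq_top_iff]
    rintro x -
    have h1 : u x ∈ m ^ (k + 1) • (⊤ : Submodule A M) ⊓ LinearMap.range u := ⟨hall x, x, rfl⟩
    rw [hk (k + 1) (by omega), show k + 1 - k = 1 by omega, pow_one] at h1
    have h2 : u x ∈ (m • (⊤ : Submodule A (Dual.HD A K i))).map u := by
      rw [Submodule.map_smul'', Submodule.map_top]
      exact Submodule.smul_mono le_rfl inf_le_right h1
    obtain ⟨y, hy, hyx⟩ := h2
    exact hu hyx ▸ hy
  let π : ModuleCat.of A M ⟶ ModuleCat.of A (M ⧸ N) := ModuleCat.ofHom N.mkQ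
  refine ⟨M ⧸ N, inferInstance, inferInstance, inferInstance, k + 1, ?_,
    f ≫ (CategoryTheory.shiftFunctor (Dual.D A) (-i)).map ((DerivedCategory.singleFunctor (ModuleCat.{u} A) 0).map π),
    fun h0 => hx ?_⟩
  · rw [eq_bot_iff, ← N.range_mkQ, ← Submodule.map_top, ← Submodule.map_smul'']
    rintro _ ⟨y, hy, rfl⟩
    exact (Submodule.Quotient.mk_eq_zero N).2 hy
  · have h1 := ν.hom.naturality π
    rw [Functor.map_comp] at h0
    have h2 : ((DerivedCategory.homologyFunctor (ModuleCat.{u} A) i).map f ≫ ν.hom.app (ModuleCat.of A M)) ≫ π = 0 := by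
      rw [Category.assoc]
      erw [← h1]
      rw [← Category.assoc]
      erw [h0]
      exact zero_comp
    exact (Submodule.Quotient.mk_eq_zero N).1 (LinearMap.congr_fun (congrArg ModuleCat.Hom.hom h2) x)

end Groth.L10.MonoToModule
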