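import Groth.Agent.L10.DRing.PCRestrict
import Mathlib.Algebra.Polynomial.Div
import Mathlib.Algebra.Polynomial.Eval.Defs

/-! `R` is a pseudo-coherent `R[X]`-module via `X ↦ 0`. -/

universe u

open CategoryTheory CategoryTheory.Limits

attribute [local instance] HasDerivedCategory.standard

set_option backward.defeqAttrib.useBackward true
set_option backward.isDefEq.respectTransparency false
namespace Groth.L10.PCEvalZero

open Groth.L02.PC Groth.L10.DR

/-- a quotient by a nonzerodivisor is pseudo-coherent -/
theorem pc'_of_regular {A B : Type u} [CommRing A] [CommRing B] [Algebra A B] (x : A)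
    (hx : ∀ a b : A, x * a = x * b → a = b) (hs : Function.Surjective (algebraMap A B))
    (hker : ∀ a, algebraMap A B a = 0 ↔ x ∣ a) : DRing.IsPseudoCoherentModule' A B := by
  let f : (Fin 1 → A) →ₗ[A] B := (Algebra.linearMap A B).comp (LinearMap.proj 0)
  have hf : Function.Surjective f := fun r => ⟨fun _ => (hs r).choose, (hs r).choose_spec⟩
  let g : (Fin 1 → A) →ₗ[A] (Fin 1 → A) := x • LinearMap.id
  have hgapp : ∀ (v : Fin 1 → A) (i : Fin 1), g v i = x * v i := fun _ _ => rfl
  have hg : Function.Injective g := fun v w h => funext fun i => by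
    have hi := congrFun h i
    rw [hgapp, hgapp] at hi
    exact hx _ _ hi
  have hr : LinearMap.range g = LinearMap.ker f := by
    ext v
    constructor
    · rintro ⟨w, rfl⟩
      exact (hker (g w 0)).2 ⟨w 0, hgapp w 0⟩
    · intro hv
      obtain ⟨q, hq⟩ := (hker (v 0)).1 hv
      exact ⟨fun _ => q, funext fun i => by rw [hgapp, Subsingleton.elim i 0, hq]⟩
  let e : (Fin 1 → A) ≃ₗ[A] LinearMap.ker f :=
    (LinearEquiv.ofInjective g hg).trans (LinearEquiv.ofEq _ _ hr)
  exact pc'_of_forall fun k => pcModule_step 1 f hf k (pc_of_iso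
      ((DerivedCategory.singleFunctor (ModuleCat.{u} A) 0).mapIso e.toModuleIso) (pcModule_free 1 (k + 1)))

theorem pc_iff (R : Type u) [CommRing R] (K : Dual.D R) (m : ℤ) :
    DRing.IsPseudoCoherent R m K ↔
      DRing.IsPseudoCoherent (Polynomial R) m ((DRing.restrictD (Polynomial.evalRingHom (0 : R))).obj K) :=
  @PCRestrict.pc_iff_restrict (Polynomial R) R _ _ (Polynomial.evalRingHom (0 : R)).toAlgebra
    (@pc'_of_regular (Polynomial R) R _ _ (Polynomial.evalRingHom (0 : R)).toAlgebra Polynomial.X
      (fun _ _ h => (Polynomial.monic_X.isRegular.left) h) (fun r => ⟨Polynomial.C r, Polynomial.eval_C⟩)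
      (fun p => by
        rw [Polynomial.X_dvd_iff, Polynomial.coeff_zero_eq_eval_zero]
        rfl)) K m

end Groth.L10.PCEvalZero
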