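import Groth.Agent.L10.DRing.Perfect
import Groth.Agent.L10.DRing.Modules
import Groth.Agent.L02.PC.Local
import Groth.Agent.L20.TorAmpWeaklyEtale
import Groth.Prelude.Def_DDual2
import Mathlib.Algebra.Homology.DerivedCategory.ExactFunctor
import Mathlib.RingTheory.Finiteness.Basic

/-! Pseudo-coherence and restriction of scalars along a pseudo-coherent algebra. -/

universe u

open CategoryTheory CategoryTheory.Limits CategoryTheory.Pretriangulated CochainComplex

attribute [local instance] HasDerivedCategory.standard

set_option backward.defeqAttrib.useBackward true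
set_option backward.isDefEq.respectTransparency false
namespace Groth.L10.PCRestrict

open Groth.L02.PC Groth.L10.DR Groth.L20.TorAmp

variable {A B : Type u} [CommRing A] [CommRing B] [Algebra A B]

variable (A B) in
noncomputable abbrev GF : ModuleCat.{u} B ⥤ ModuleCat.{u} A :=
  ModuleCat.restrictScalars.{u} (algebraMap A B)

local notation "G" => GF A B
local notation "rD" => DRing.restrictD (algebraMap A B)

noncomputable abbrev resCx : DRing.Cx B ⥤ DRing.Cx A :=
  (ModuleCat.restrictScalars.{u} (algebraMap A B)).mapHomologicalComplex (ComplexShape.up ℤ)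

noncomputable def resHomologyIso (C : DRing.Cx B) (n : ℤ) :
    ((resCx (A := A)).obj C).homology n ≅ (G).obj (C.homology n) :=
  (C.sc n).mapHomologyIso (G)

noncomputable def single0Iso (M : ModuleCat.{u} B) :
    (rD).obj ((DerivedCategory.singleFunctor (ModuleCat.{u} B) 0).obj M) ≅
      (DerivedCategory.singleFunctor (ModuleCat.{u} A) 0).obj ((G).obj M) :=
  ((G).mapDerivedCategorySingleFunctor 0).app M

variable (hB : DRing.IsPseudoCoherentModule' A B)
include hB

theorem pc_res_finiteFree (M : ModuleCat.{u} B) [Module.Finite B M] [Module.Free B M] (k : ℤ) :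
    DRing.IsPseudoCoherentModule A k ((G).obj M) := by
  let P : ObjectProperty (Dual.D B) := fun X => ∀ k, DRing.IsPseudoCoherent A k ((rD).obj X)
  haveI : P.IsClosedUnderIsomorphisms := ⟨fun e h k => pc_of_iso ((rD).mapIso e) (h k)⟩
  have hzero : ∀ Z, IsZero Z → P Z := fun Z hZ k => pc_mono (show (k - 1) + 1 ≤ k by omega)
    (pc_of_LEH fun i _ => (HH i).map_isZero ((rD).map_isZero hZ))
  have hR : P (Dual.inD B B) := fun k => by
    let e : ModuleCat.of A B ≅ (G).obj (ModuleCat.of B B) := LinearEquiv.toModuleIso
      (X₂ := ((G).obj (ModuleCat.of B B)))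
      { AddEquiv.refl B with map_smul' := fun a b => Algebra.smul_def a b }
    exact pc_of_iso ((DerivedCategory.singleFunctor (ModuleCat.{u} A) 0).mapIso e ≪≫ (single0Iso _).symm)
      (pc_of_pc' hB k)
  have hn := finiteFree_property P hR (fun T hT h1 h3 k => by
    exact pc_second _ ((rD).map_distinguished T hT) k (h1 k) (h3 k)) hzero
  let b := Module.Free.chooseBasis B M
  let n := Fintype.card (Module.Free.ChooseBasisIndex B M)
  let eM : M ≅ ModuleCat.of B (Fin n → B) :=
    LinearEquiv.toModuleIso ((b.reindex (Fintype.equivFin _)).equivFun)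
  exact pc_of_iso (single0Iso M)
    (P.prop_of_iso ((DerivedCategory.singleFunctor (ModuleCat.{u} B) 0).mapIso eM).symm (hn n) k)

theorem pc_res_bounded {E : DRing.Cx B} {a b : ℤ} (hv : DRing.VanishesOutside E a b)
    (hf : DRing.TermwiseFiniteFree E) (m : ℤ) :
    DRing.IsPseudoCoherent A m (DRing.toD ((resCx (A := A)).obj E)) := by
  refine pc_of_terms m _ b (fun i hi => (G).map_isZero (hv i (Or.inr hi))) fun i hi => ?_
  haveI := (hf i).1; haveI := (hf i).2
  exact pc_single i m (pc_res_finiteFree hB (E.X i) (m - i))

theorem pc_restrict {K : Dual.D B} {m : ℤ} (h : DRing.IsPseudoCoherent B m K) :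
    DRing.IsPseudoCoherent A m ((rD).obj K) := by
  obtain ⟨n, hn⟩ := exists_LEH h
  obtain ⟨P, hPb, hPf, -, ⟨e⟩⟩ := exists_free_rep hn
  obtain ⟨E, a, b, α, v, f, happ⟩ := (pc_iff m _).1 (pc_of_iso e.symm h)
  have := isKProjective_bounded v f
  obtain ⟨g, rfl⟩ := exists_chainMap α
  rw [isApprox_Q_map_iff] at happ
  refine pc_of_iso ((resIso (A := A) P).symm ≪≫ (rD).mapIso e) ?_
  refine pc_of_approx (DerivedCategory.Q.map ((resCx (A := A)).map g)) ?_ (pc_res_bounded hB v f m)
  rw [isApprox_Q_map_iff]
  intro i hi
  exact ((G).map_isZero (happ i hi)).of_iso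
    (((HomologicalComplex.homologyFunctor _ _ i).mapIso
      (mappingCone.mapHomologicalComplexIso g (G))).symm ≪≫ resHomologyIso (mappingCone g) i)

theorem pc_of_restrict_cx (K : DRing.Cx B) (m : ℤ)
    (hK : DRing.IsPseudoCoherent A m (DRing.toD ((resCx (A := A)).obj K))) :
    DRing.IsPseudoCoherent B m (DRing.toD K) := by
  obtain ⟨M, hM⟩ := exists_LEH hK
  have hbd : LEH (DRing.toD K) (max M m) := fun j hj => by
    rw [isZero_HH_Q_iff]
    exact isZero_of_isZero_restrict (A := A) _
      (((isZero_HH_Q_iff _ j).1 (hM j (by omega))).of_iso (resHomologyIso K j).symm)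
  suffices ∀ k : ℕ, m ≤ max M m + 1 - k → DRing.IsPseudoCoherent B (max M m + 1 - k) (DRing.toD K) by
    have h := this (max M m + 1 - m).toNat (by omega)
    rwa [show max M m + 1 - ((max M m + 1 - m).toNat : ℤ) = m by omega] at h
  intro k
  induction k with
  | zero => intro _; simpa using pc_of_LEH hbd
  | succ k ih =>
    intro hk
    obtain ⟨E, a, b, α, v, fE, happ⟩ := (pc_iff _ _).1 (ih (by omega))
    have := isKProjective_bounded v fE
    obtain ⟨g, rfl⟩ := exists_chainMap α
    rw [isApprox_Q_map_iff] at happ
    generalize hn : max M m + 1 - ((k + 1 : ℕ) : ℤ) = n at hk ⊢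
    have hex : ∀ i, n < i → IsZero ((mappingCone g).homology i) := fun i hi => happ i (by omega)
    have : Module.Finite B ((mappingCone g).homology n) := by
      let g' := (resCx (A := A)).map g
      have hpc : DRing.IsPseudoCoherent A n (DRing.toD (mappingCone g')) :=
        pc_third _ (mappingCone_distinguished g') n (pc_res_bounded hB v fE (n + 1)) (pc_mono hk hK)
      let eC : ∀ j, (mappingCone g').homology j ≅ (G).obj ((mappingCone g).homology j) := fun j =>
        ((HomologicalComplex.homologyFunctor _ _ j).mapIso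
          (mappingCone.mapHomologicalComplexIso g (G))).symm ≪≫ resHomologyIso (mappingCone g) j
      have hz : LEH (DRing.toD (mappingCone g')) n := fun j hj =>
        (isZero_HH_Q_iff _ j).2 (((G).map_isZero (hex j hj)).of_iso (eC j))
      have : Module.Finite A
          ((DerivedCategory.Q ⋙ DerivedCategory.homologyFunctor (ModuleCat.{u} A) n).obj (mappingCone g')) :=
        pc_finite hpc hz
      have hG : Module.Finite A ((G).obj ((mappingCone g).homology n)) :=
        Module.Finite.equiv
          ((((DerivedCategory.homologyFunctorFactors _ n).app (mappingCone g')) ≪≫ eC n).toLinearEquiv)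
      letI : Module A ((mappingCone g).homology n) := Module.compHom _ (algebraMap A B)
      haveI : IsScalarTower A B ((mappingCone g).homology n) := IsScalarTower.of_algebraMap_smul fun _ _ => rfl
      haveI : Module.Finite A ((mappingCone g).homology n) := hG
      exact Module.Finite.of_restrictScalars_finite A B _
    exact pc_second _ (mappingCone_distinguished g) n (pc_of_bounded_free v fE n)
      (pc_of_finite (mappingCone g) n hex)

theorem pc_iff_restrict (K : Dual.D B) (m : ℤ) :
    DRing.IsPseudoCoherent B m K ↔ DRing.IsPseudoCoherent A m ((rD).obj K) := by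
  refine ⟨pc_restrict hB, fun h => ?_⟩
  let e := DerivedCategory.Q.objObjPreimageIso K
  exact pc_of_iso e (pc_of_restrict_cx hB _ m (pc_of_iso ((rD).mapIso e.symm ≪≫ resIso (A := A) _) h))

theorem pc'_iff_restrict (K : Dual.D B) :
    DRing.IsPseudoCoherent' B K ↔ DRing.IsPseudoCoherent' A ((rD).obj K) :=
  ⟨fun h => pc'_of_forall fun m => pc_restrict hB (pc_of_pc' h m),
    fun h => pc'_of_forall fun m => (pc_iff_restrict hB K m).2 (pc_of_pc' h m)⟩

end Groth.L10.PCRestrict
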