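import Groth.Agent.L10.DRing.KFlatLBC
import Groth.Agent.L10.KFlat.Basic
import Groth.Prelude.Def_DRing2
import Mathlib.Algebra.Category.Ring.Colimits
import Mathlib.Algebra.Category.Ring.FilteredColimits
import Mathlib.CategoryTheory.Limits.ConcreteCategory.Basic
import Mathlib.LinearAlgebra.Matrix.ToLin
import Mathlib.Data.Int.Interval
import Mathlib.RingTheory.Finiteness.Projective

/-! Complexes of finite projective modules given by matrices, and their descent along filtered colimits. -/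

universe u

open CategoryTheory CategoryTheory.Limits TensorProduct

attribute [local instance] HasDerivedCategory.standard

set_option backward.defeqAttrib.useBackward true
set_option backward.isDefEq.respectTransparency false
set_option linter.style.haveILetI false

namespace Groth.L10.PerfectDescend

variable {n : ℕ} {S : Type u} [CommRing S]

/-- matrices cutting out a complex of finite projective modules -/
structure Data (n : ℕ) (S : Type u) [CommRing S] where
  e : ℤ → Matrix (Fin n) (Fin n) S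
  m : ℤ → Matrix (Fin n) (Fin n) S
  idem : ∀ i, e i * e i = e i
  supp : ∀ i, e (i + 1) * m i * e i = m i
  sq : ∀ i, m (i + 1) * m i = 0

namespace Data

variable (D : Data n S)

theorem m_fix (i : ℤ) : D.m i * D.e i = D.m i ∧ D.e (i + 1) * D.m i = D.m i := by
  constructor
  · conv_lhs => rw [← D.supp i]
    rw [Matrix.mul_assoc, D.idem, D.supp]
  · conv_lhs => rw [← D.supp i]
    rw [← Matrix.mul_assoc, ← Matrix.mul_assoc, D.idem, D.supp]

/-- the terms -/
abbrev X (i : ℤ) : Submodule S (Fin n → S) := LinearMap.range (D.e i).mulVecLin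

theorem fix {i : ℤ} (x : D.X i) : (D.e i).mulVec x.1 = x.1 := by
  obtain ⟨y, hy⟩ := x.2
  rw [← hy, Matrix.mulVecLin_apply, Matrix.mulVec_mulVec, D.idem]

/-- the differential -/
noncomputable def d (i : ℤ) : D.X i →ₗ[S] D.X (i + 1) :=
  ((D.m i).mulVecLin ∘ₗ (D.X i).subtype).codRestrict _ fun x =>
    ⟨(D.m i).mulVec x.1, by simp [Matrix.mulVec_mulVec, (D.m_fix i).2]⟩

theorem d_coe (i : ℤ) (x : D.X i) : (D.d i x).1 = (D.m i).mulVec x.1 := rfl

/-- the complex -/
noncomputable def cx : DRing.Cx S :=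
  CochainComplex.of (fun i => ModuleCat.of S (D.X i)) (fun i => ModuleCat.ofHom (D.d i)) fun i =>
    ModuleCat.hom_ext (LinearMap.ext fun x => Subtype.ext (by
      change (D.m (i + 1)).mulVec ((D.m i).mulVec x.1) = 0
      rw [Matrix.mulVec_mulVec, D.sq, Matrix.zero_mulVec]))

theorem finProj : DRing.TermwiseFiniteProjective D.cx := fun i => by
  refine ⟨(inferInstance : Module.Finite S (D.X i)), ?_⟩
  exact Module.Projective.of_split (D.X i).subtype (D.e i).mulVecLin.rangeRestrict
    (LinearMap.ext fun x => Subtype.ext (D.fix x))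

theorem vanishes {a b : ℤ} (h : ∀ i, (i < a ∨ b < i) → D.e i = 0) : DRing.VanishesOutside D.cx a b := fun i hi => by
  haveI : Subsingleton (D.X i) := ⟨fun x y => Subtype.ext (by rw [← D.fix x, ← D.fix y, h i hi]; simp)⟩
  exact @ModuleCat.isZero_of_subsingleton S _ (ModuleCat.of S (D.X i)) this

variable {R : Type u} [CommRing R] (φ : S →+* R) (D' : Data n R)
  (he : ∀ i, (D.e i).map φ = D'.e i) (hm : ∀ i, (D.m i).map φ = D'.m i)

include he in
theorem map_mem {i : ℤ} (x : D.X i) : φ ∘ x.1 ∈ D'.X i :=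
  ⟨φ ∘ x.1, funext fun l => by
    rw [Matrix.mulVecLin_apply, ← he i, ← RingHom.map_mulVec, D.fix x]; rfl⟩

/-- base change of one term -/
noncomputable def bcEquiv (i : ℤ) : letI := φ.toAlgebra; R ⊗[S] D.X i ≃ₗ[R] D'.X i := by
  letI := φ.toAlgebra
  let f : R ⊗[S] D.X i →ₗ[R] D'.X i :=
    LinearMap.liftBaseChange R
      { toFun := fun x => ⟨φ ∘ x.1, D.map_mem φ D' he x⟩
        map_add' := fun x y => Subtype.ext (funext fun l => map_add φ _ _)
        map_smul' := fun s x => Subtype.ext (funext fun l => by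
          simp [Algebra.smul_def, RingHom.algebraMap_toAlgebra]) }
  let g : D'.X i →ₗ[R] R ⊗[S] D.X i :=
    (∑ l : Fin n, (LinearMap.proj (R := R) (φ := fun _ : Fin n => R) l).smulRight
      ((1 : R) ⊗ₜ[S] (D.e i).mulVecLin.rangeRestrict (Pi.single l 1))) ∘ₗ (D'.X i).subtype
  refine LinearEquiv.ofLinearMap f g (LinearMap.ext fun y => Subtype.ext ?_) ?_
  · conv_rhs => rw [LinearMap.id_apply, ← D'.fix y, ← he i]
    funext k
    simp [f, g, Matrix.mulVec, dotProduct, Pi.single_apply, mul_comm]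
  · ext x
    simp only [g, f, LinearMap.comp_apply, LinearMap.id_apply, AlgebraTensorModule.curry_apply,
      LinearMap.liftBaseChange_tmul, one_smul, TensorProduct.curry_apply, LinearMap.coe_restrictScalars,
      LinearMap.coe_mk, AddHom.coe_mk, Submodule.subtype_apply, LinearMap.sum_apply, LinearMap.smulRight_apply,
      LinearMap.proj_apply, Function.comp_apply]
    have : ∀ (s : S) (y : D.X i), φ s • ((1 : R) ⊗ₜ[S] y) = (1 : R) ⊗ₜ[S] (s • y) := fun s y => by
      rw [TensorProduct.smul_tmul', ← TensorProduct.smul_tmul]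
      congr 1
    simp only [this, ← TensorProduct.tmul_sum, ← map_smul, ← map_sum]
    congr 1
    refine Subtype.ext ?_
    change (D.e i).mulVec _ = x.1
    conv_rhs => rw [← D.fix x]
    congr 1
    funext k
    simp [Pi.single_apply]

include he hm in
theorem bcIso : Nonempty ((Groth.L02.PC.bcCx φ).obj D.cx ≅ D'.cx) := by
  letI := φ.toAlgebra
  refine ⟨HomologicalComplex.Hom.isoOfComponents (fun i => (D.bcEquiv φ D' he i).toModuleIso) fun i j hij => ?_⟩
  obtain rfl : i + 1 = j := hij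
  refine ModuleCat.hom_ext (LinearMap.ext fun z => ?_)
  induction z using TensorProduct.induction_on with
  | zero => simp
  | add a b ha hb => simp only [map_add, ha, hb]
  | tmul r x =>
    change R at r
    simp only [cx, ModuleCat.hom_comp, LinearMap.comp_apply, Functor.mapHomologicalComplex_obj_d,
      CochainComplex.of_d]
    refine Subtype.ext ?_
    change (D'.m i).mulVec (r • (φ ∘ x.1)) = r • (φ ∘ (D.m i).mulVec x.1)
    rw [Matrix.mulVec_smul, ← hm i]
    congr 1
    funext k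
    exact (RingHom.map_mulVec φ _ _ k).symm

end Data

/-- a bounded complex of finite projectives is given by matrices -/
theorem exists_data {R : Type u} [CommRing R] (P : DRing.Cx R) (a b : ℤ) (hP : DRing.VanishesOutside P a b)
    (hp : DRing.TermwiseFiniteProjective P) :
    ∃ (n : ℕ) (D : Data n R), (∀ i, (i < a ∨ b < i) → D.e i = 0 ∧ D.m i = 0) ∧ Nonempty (D.cx ≅ P) := by
  classical
  let t := Finset.Icc a b
  haveI : ∀ i, Module.Finite R (P.X i) := fun i => (hp i).1
  haveI : ∀ i, Module.Projective R (P.X i) := fun i => (hp i).2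
  let T := (Π₀ i : t, P.X i.1)
  haveI : Module.Finite R T := Module.Finite.equiv DFinsupp.linearEquivFunOnFintype.symm
  obtain ⟨n, p, hpsurj⟩ := Module.Finite.exists_fin' R T
  obtain ⟨σ, hσ⟩ := Module.projective_lifting_property p LinearMap.id hpsurj
  let π : ∀ i, (Fin n → R) →ₗ[R] P.X i := fun i =>
    if h : i ∈ t then (DFinsupp.lapply (⟨i, h⟩ : t)) ∘ₗ p else 0
  let τ : ∀ i, P.X i →ₗ[R] (Fin n → R) := fun i =>
    if h : i ∈ t then σ ∘ₗ DFinsupp.lsingle (M := fun j : t => P.X j.1) (⟨i, h⟩ : t) else 0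
  have hout : ∀ i, i ∉ t → Subsingleton (P.X i) := fun i hi =>
    ModuleCat.subsingleton_of_isZero (hP i (by simp only [t, Finset.mem_Icc] at hi; omega))
  have hπτ : ∀ i x, π i (τ i x) = x := fun i x => by
    by_cases h : i ∈ t
    · simp only [π, τ, dif_pos h, LinearMap.comp_apply]
      rw [show p (σ _) = _ from LinearMap.congr_fun hσ _]
      exact DFinsupp.single_eq_same
    · haveI := hout i h
      exact Subsingleton.elim _ _
  let d : ∀ i, P.X i →ₗ[R] P.X (i + 1) := fun i => (P.d i (i + 1)).hom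
  let D : Data n R :=
    { e := fun i => LinearMap.toMatrix' (τ i ∘ₗ π i)
      m := fun i => LinearMap.toMatrix' (τ (i + 1) ∘ₗ d i ∘ₗ π i)
      idem := fun i => by
        rw [← LinearMap.toMatrix'_comp]; congr 1; ext v; simp [hπτ]
      supp := fun i => by
        rw [← LinearMap.toMatrix'_comp, ← LinearMap.toMatrix'_comp]; congr 1; ext v; simp [hπτ]
      sq := fun i => by
        rw [← LinearMap.toMatrix'_comp, ← map_zero (LinearMap.toMatrix' (R := R) (m := Fin n) (n := Fin n))]
        congr 1; ext v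
        have h : ∀ y, (P.d (i + 1) (i + 1 + 1)).hom ((P.d i (i + 1)).hom y) = 0 := fun y =>
          LinearMap.congr_fun (congrArg ModuleCat.Hom.hom (P.d_comp_d i (i + 1) (i + 1 + 1))) y
        simp [hπτ, d, h] }
  refine ⟨n, D, fun i hi => ?_, ⟨(HomologicalComplex.Hom.isoOfComponents (fun i => LinearEquiv.toModuleIso
    (LinearEquiv.ofLinearMap ((τ i).codRestrict (D.X i) fun x => ⟨τ i x, by simp [D, hπτ]⟩) ((π i) ∘ₗ (D.X i).subtype)
      (LinearMap.ext fun x => Subtype.ext ?_) (LinearMap.ext fun x => ?_))) fun i j hij => ?_).symm⟩⟩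
  · have h : i ∉ t := by simp only [t, Finset.mem_Icc]; omega
    have h0 : π i = 0 := dif_neg h
    constructor <;> simp [D, h0]
  · conv_rhs => rw [LinearMap.id_apply, ← D.fix x]
    change τ i (π i x.1) = (LinearMap.toMatrix' (τ i ∘ₗ π i)).mulVec x.1
    rw [LinearMap.toMatrix'_mulVec]
    rfl
  · exact hπτ i x
  · obtain rfl : i + 1 = j := hij
    refine ModuleCat.hom_ext (LinearMap.ext fun x => Subtype.ext ?_)
    simp [Data.cx, Data.d_coe, D, hπτ, d]

section Colimit

variable {J : Type u} [SmallCategory J] [IsFiltered J] (F : J ⥤ CommRingCat.{u}) {c : Cocone F} (hc : IsColimit c)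

include hc in
theorem exists_lift (ι : Type u) [Finite ι] (v : ι → c.pt) :
    ∃ (j : J) (w : ι → F.obj j), ∀ l, c.ι.app j (w l) = v l := by
  classical
  haveI := Fintype.ofFinite ι
  choose jl yl hyl using fun l => Concrete.isColimit_exists_rep F hc (v l)
  obtain ⟨j, hj⟩ := IsFiltered.sup_objs_exists (Finset.univ.image jl)
  refine ⟨j, fun l => F.map (hj (Finset.mem_image_of_mem jl (Finset.mem_univ l))).some (yl l), fun l => ?_⟩
  rw [← ConcreteCategory.comp_apply, c.w]
  exact hyl l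

include hc in
theorem exists_eq (ι : Type u) [Finite ι] {j : J} (v w : ι → F.obj j) (h : ∀ l, c.ι.app j (v l) = c.ι.app j (w l)) :
    ∃ (k : J) (f : j ⟶ k), ∀ l, F.map f (v l) = F.map f (w l) := by
  classical
  haveI := Fintype.ofFinite ι
  suffices ∀ s : Finset ι, ∃ (k : J) (f : j ⟶ k), ∀ l ∈ s, F.map f (v l) = F.map f (w l) by
    obtain ⟨k, f, hf⟩ := this Finset.univ
    exact ⟨k, f, fun l => hf l (Finset.mem_univ l)⟩
  intro s
  induction s using Finset.induction_on with
  | empty => exact ⟨j, 𝟙 j, by simp⟩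
  | @insert l s hl ih =>
    obtain ⟨k, f, hf⟩ := ih
    obtain ⟨k', f₁, f₂, hff⟩ := (Concrete.isColimit_rep_eq_iff_exists F hc (v l) (w l)).1 (h l)
    obtain ⟨m, g₁, g₂, hg⟩ : ∃ (m : J) (g₁ : k ⟶ m) (g₂ : k' ⟶ m), f ≫ g₁ = f₁ ≫ g₂ ∧ f ≫ g₁ = f₂ ≫ g₂ := by
      let p := IsFiltered.max k k'
      let a := f ≫ IsFiltered.leftToMax k k'
      let b₁ := f₁ ≫ IsFiltered.rightToMax k k'
      let b₂ := f₂ ≫ IsFiltered.rightToMax k k'
      let q := IsFiltered.coeqHom a b₁
      let q' := IsFiltered.coeqHom (a ≫ q) (b₂ ≫ q)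
      refine ⟨_, IsFiltered.leftToMax k k' ≫ q ≫ q', IsFiltered.rightToMax k k' ≫ q ≫ q', ?_, ?_⟩
      · simp only [← Category.assoc]
        exact congrArg (· ≫ q') (IsFiltered.coeq_condition a b₁)
      · simpa only [Category.assoc, a, b₂] using IsFiltered.coeq_condition (a ≫ q) (b₂ ≫ q)
    refine ⟨m, f ≫ g₁, fun x hx => ?_⟩
    rcases Finset.mem_insert.1 hx with rfl | hx
    · conv_lhs => rw [hg.1]
      conv_rhs => rw [hg.2]
      simp only [Functor.map_comp, ConcreteCategory.comp_apply]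
      rw [hff]
    · simp only [Functor.map_comp, ConcreteCategory.comp_apply]
      rw [hf x hx]

include hc in
theorem exists_descend {n : ℕ} (a b : ℤ) (D : Data n c.pt) (hD : ∀ i, (i < a ∨ b < i) → D.e i = 0 ∧ D.m i = 0) :
    ∃ (k : J) (Dk : Data n (F.obj k)), (∀ i, (i < a ∨ b < i) → Dk.e i = 0) ∧
      (∀ i, (Dk.e i).map (c.ι.app k).hom = D.e i) ∧ ∀ i, (Dk.m i).map (c.ι.app k).hom = D.m i := by
  classical
  let t := Finset.Icc a b
  have hD' : ∀ i, i ∉ t → D.e i = 0 ∧ D.m i = 0 := fun i hi => hD i (by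
    simp only [t, Finset.mem_Icc] at hi; omega)
  let ι := ULift.{u} (Bool × t × Fin n × Fin n)
  obtain ⟨j, w, hw⟩ := exists_lift F hc ι fun z =>
    (if z.down.1 then D.e z.down.2.1 else D.m z.down.2.1) z.down.2.2.1 z.down.2.2.2
  let ej : ℤ → Matrix (Fin n) (Fin n) (F.obj j) := fun i =>
    if h : i ∈ t then Matrix.of fun p q => w ⟨(true, ⟨i, h⟩, p, q)⟩ else 0
  let mj : ℤ → Matrix (Fin n) (Fin n) (F.obj j) := fun i =>
    if h : i ∈ t then Matrix.of fun p q => w ⟨(false, ⟨i, h⟩, p, q)⟩ else 0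
  have hej : ∀ i, (ej i).map (c.ι.app j).hom = D.e i := fun i => by
    by_cases h : i ∈ t
    · ext p q; simp only [ej, dif_pos h]; exact hw ⟨(true, ⟨i, h⟩, p, q)⟩
    · simp only [ej, dif_neg h, (hD' i h).1]; exact Matrix.map_zero _ (map_zero _)
  have hmj : ∀ i, (mj i).map (c.ι.app j).hom = D.m i := fun i => by
    by_cases h : i ∈ t
    · ext p q; simp only [mj, dif_pos h]; exact hw ⟨(false, ⟨i, h⟩, p, q)⟩
    · simp only [mj, dif_neg h, (hD' i h).2]; exact Matrix.map_zero _ (map_zero _)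
  let L : Fin 3 → ℤ → Matrix (Fin n) (Fin n) (F.obj j) :=
    ![fun i => ej i * ej i, fun i => ej (i + 1) * mj i * ej i, fun i => mj (i + 1) * mj i]
  let R : Fin 3 → ℤ → Matrix (Fin n) (Fin n) (F.obj j) := ![ej, mj, 0]
  have hLR : ∀ r i, (L r i).map (c.ι.app j).hom = (R r i).map (c.ι.app j).hom := fun r i => by
    fin_cases r
    · change (ej i * ej i).map _ = (ej i).map _
      rw [Matrix.map_mul, hej, D.idem]
    · change (ej (i + 1) * mj i * ej i).map _ = (mj i).map _
      rw [Matrix.map_mul, Matrix.map_mul, hej, hej, hmj, D.supp]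
    · change (mj (i + 1) * mj i).map _ = (0 : Matrix (Fin n) (Fin n) (F.obj j)).map _
      rw [Matrix.map_mul, hmj, hmj, D.sq, Matrix.map_zero _ (map_zero _)]
  obtain ⟨k, f, hf⟩ := exists_eq F hc (ULift.{u} (Fin 3 × t × Fin n × Fin n))
    (fun z => L z.down.1 z.down.2.1 z.down.2.2.1 z.down.2.2.2)
    (fun z => R z.down.1 z.down.2.1 z.down.2.2.1 z.down.2.2.2)
    (fun z => congrFun (congrFun (hLR z.down.1 z.down.2.1) z.down.2.2.1) z.down.2.2.2)
  let φ := (F.map f).hom
  have hk : ∀ r i, i ∈ t → (L r i).map φ = (R r i).map φ := fun r i hi => by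
    ext p q; exact hf ⟨(r, ⟨i, hi⟩, p, q)⟩
  have hw' : (c.ι.app k).hom.comp φ = (c.ι.app j).hom := congrArg CommRingCat.Hom.hom (c.w f)
  refine ⟨k, ⟨fun i => (ej i).map φ, fun i => (mj i).map φ, fun i => ?_, fun i => ?_, fun i => ?_⟩,
    fun i hi => ?_, fun i => ?_, fun i => ?_⟩
  · by_cases h : i ∈ t
    · simpa [L, R, Matrix.map_mul] using hk 0 i h
    · simp [ej, dif_neg h]
  · by_cases h : i ∈ t
    · simpa [L, R, Matrix.map_mul] using hk 1 i h
    · simp [mj, ej, dif_neg h]
  · by_cases h : i ∈ t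
    · simpa [L, R, Matrix.map_mul] using hk 2 i h
    · simp [mj, dif_neg h]
  · have h : i ∉ t := by simp only [t, Finset.mem_Icc]; omega
    simp [ej, dif_neg h]
  · rw [← hej i, ← hw', Matrix.map_map]; rfl
  · rw [← hmj i, ← hw', Matrix.map_map]; rfl

include hc in
theorem main [∀ j : J, DRing.HasLBaseChange (c.ι.app j).hom] (K : Dual.D c.pt) (hK : DRing.IsPerfect c.pt K) :
    ∃ (j : J) (Kj : Dual.D (F.obj j)), DRing.IsPerfect (F.obj j) Kj ∧
      Nonempty ((DRing.LBaseChange (c.ι.app j).hom).obj Kj ≅ K) := by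
  obtain ⟨P, a, b, hP, hp, ⟨e⟩⟩ := hK
  obtain ⟨n, D, hD, ⟨eD⟩⟩ := exists_data P a b hP hp
  obtain ⟨k, Dk, h0, he, hm⟩ := exists_descend F hc a b D hD
  obtain ⟨eb⟩ := Dk.bcIso (c.ι.app k).hom D he hm
  have hkf : DRing.IsKFlat (F.obj k) Dk.cx := Groth.L10.KFlat.of_bounded _ b
    (fun i hi => Dk.vanishes h0 i (Or.inr hi)) fun i => haveI := (Dk.finProj i).2; inferInstance
  exact ⟨k, DRing.toD Dk.cx, ⟨Dk.cx, a, b, Dk.vanishes h0, Dk.finProj, ⟨Iso.refl _⟩⟩,
    ⟨Groth.L10.KFlatLBC.lbcKF _ Dk.cx hkf ≪≫ DerivedCategory.Q.mapIso (eb ≪≫ eD) ≪≫ e⟩⟩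

end Colimit

end Groth.L10.PerfectDescend
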