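import Groth.Agent.L10.DRing.Nilpotent
import Mathlib.RingTheory.Ideal.Quotient.Operations

/-! Perfectness modulo a product of ideals. -/

universe u

open CategoryTheory

attribute [local instance] HasDerivedCategory.standard

set_option backward.defeqAttrib.useBackward true
set_option backward.isDefEq.respectTransparency false
namespace Groth.L10.NilpotentThick

theorem perfect_mul {R : Type u} [CommRing R] (I J : Ideal R)
    [DRing.HasLBaseChange (Ideal.Quotient.mk I)] [DRing.HasLBaseChange (Ideal.Quotient.mk J)]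
    [DRing.HasLBaseChange (Ideal.Quotient.mk (I * J))] (K : Dual.D R)
    (hI : DRing.IsPerfect (R ⧸ I) ((DRing.LBaseChange (Ideal.Quotient.mk I)).obj K))
    (hJ : DRing.IsPerfect (R ⧸ J) ((DRing.LBaseChange (Ideal.Quotient.mk J)).obj K)) :
    DRing.IsPerfect (R ⧸ (I * J)) ((DRing.LBaseChange (Ideal.Quotient.mk (I * J))).obj K) := by
  let D : Bool → Ideal R := fun t => cond t I J
  have hle : ∀ t, I * J ≤ D t := fun t => by
    cases t
    · exact (Ideal.mul_le_right (I := I) (J := J))
    · exact (Ideal.mul_le_left (I := I) (J := J))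
  let ψ : ∀ t, R ⧸ (I * J) →+* R ⧸ D t := fun t => Ideal.Quotient.factor (hle t)
  haveI : ∀ t, DRing.HasLBaseChange (ψ t) := fun t => KFlatLBC.hasLBaseChange (ψ t)
  have hker : ∀ t, RingHom.ker (ψ t) = (D t).map (Ideal.Quotient.mk (I * J)) := fun t =>
    Ideal.Quotient.factor_ker (hle t)
  refine perfect_of_family ψ (fun t => Ideal.Quotient.factor_surjective (hle t))
    ⟨[true, false], ?_⟩ _ fun t => ?_
  · simp only [List.map_cons, List.map_nil, List.prod_cons, List.prod_nil, mul_one, hker, ← Ideal.map_mul]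
    exact Ideal.map_quotient_self _
  · haveI : DRing.HasLBaseChange (Ideal.Quotient.mk (D t)) := KFlatLBC.hasLBaseChange _
    obtain ⟨e⟩ := KFlatLBC.nonempty_comp_iso (Ideal.Quotient.mk (I * J)) (ψ t) (Ideal.Quotient.mk (D t))
      (Ideal.Quotient.factor_comp_mk (hle t)).symm K
    obtain ⟨E, a, b, h1, h2, ⟨e'⟩⟩ :
        DRing.IsPerfect (R ⧸ D t) ((DRing.LBaseChange (Ideal.Quotient.mk (D t))).obj K) := by
      cases t
      · exact hJ
      · exact hI
    exact ⟨E, a, b, h1, h2, ⟨e' ≪≫ e.symm⟩⟩

end Groth.L10.NilpotentThick
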