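import Groth.Agent.L10.CdDim.Deriv
import Groth.Agent.L10.KInjDerived
import Groth.Agent.L28.HomElt
import Groth.Prelude.Def_DRing4
import Mathlib.Algebra.Homology.DerivedCategory.KProjective
import Mathlib.Algebra.Homology.DerivedCategory.Fractions
import Mathlib.Algebra.Category.ModuleCat.AB

/-! `RHom•(E, -)` for complexes of modules: existence, value on K-injectives and for K-projective sources. -/

universe u

open CategoryTheory CategoryTheory.Limits CochainComplex CochainComplex.HomComplex

attribute [local instance] HasDerivedCategory.standard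

set_option backward.defeqAttrib.useBackward true
set_option backward.isDefEq.respectTransparency false
set_option linter.style.haveILetI false

namespace Groth.L10.RHomCx

variable {A : Type u} [CommRing A]

/-- elementwise criterion -/
theorem quasiIso_of_elements {K L : DRing.Cx A} (φ : K ⟶ L)
    (hs : ∀ (n : ℤ) (y : L.X n), L.d n (n + 1) y = 0 →
      ∃ (x : K.X n) (w : L.X (n - 1)), K.d n (n + 1) x = 0 ∧ φ.f n x + L.d (n - 1) n w = y)
    (hi : ∀ (n : ℤ) (x : K.X n) (w : L.X (n - 1)), K.d n (n + 1) x = 0 → φ.f n x = L.d (n - 1) n w →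
      ∃ v : K.X (n - 1), K.d (n - 1) n v = x) : QuasiIso φ :=
  L28.HomElt.quasiIso_of_bijective φ fun n =>
    ⟨(L28.HomElt.injective_homologyMap_iff φ (i := n - 1) (k := n + 1) (CochainComplex.prev ℤ n)
        (CochainComplex.next ℤ n)).2 (hi n),
      (L28.HomElt.surjective_homologyMap_iff φ (i := n - 1) (k := n + 1) (CochainComplex.prev ℤ n)
        (CochainComplex.next ℤ n)).2 (hs n)⟩

theorem isIso_Q_map {K L : DRing.Cx A} (φ : K ⟶ L) [QuasiIso φ] : IsIso (DerivedCategory.Q.map φ) :=
  (DerivedCategory.isIso_Q_map_iff_quasiIso (C := ModuleCat.{u} A) φ).2 inferInstance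

/-- homotopic maps induce homotopic maps of Hom complexes -/
noncomputable def homCxHomotopy (E : DRing.Cx A) {L L' : DRing.Cx A} {f g : L ⟶ L'} (h : Homotopy f g) :
    Homotopy (DRing.homCxMap E f) (DRing.homCxMap E g) where
  hom i j :=
    if hij : j + 1 = i then
      ModuleCat.ofHom (X := Cochain E L i) (Y := Cochain E L' j)
        { toFun := fun z => z.comp (Cochain.ofHomotopy h) (by omega)
          map_add' := fun z z' => by simp
          map_smul' := fun a z => by simp }
    else 0
  zero i j hij := dif_neg hij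
  comm i := by
    have hn : (ComplexShape.up ℤ).Rel i (i + 1) := rfl
    have hp : (ComplexShape.up ℤ).Rel (i - 1) i := sub_add_cancel i 1
    rw [dNext_eq _ hn, prevD_eq _ hp, dif_pos rfl, dif_pos (sub_add_cancel i 1)]
    ext (z : Cochain E L i)
    change z.comp (Cochain.ofHom f) (add_zero i) = (δ i (i + 1) z).comp (Cochain.ofHomotopy h) (show i + 1 + -1 = i by omega) +
      δ (i - 1) i (z.comp (Cochain.ofHomotopy h) (show i + -1 = i - 1 by omega)) + z.comp (Cochain.ofHom g) (add_zero i)
    rw [δ_comp z (Cochain.ofHomotopy h) (show i + -1 = i - 1 by omega) (i + 1) 0 i (by omega) rfl (by simp),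
      δ_ofHomotopy]
    simp [Cochain.comp_sub, Int.negOnePow_one]

theorem map_eq_of_homotopic (E : DRing.Cx A) {L L' : DRing.Cx A} (f g : L ⟶ L')
    (h : (HomotopyCategory.quotient (ModuleCat.{u} A) (ComplexShape.up ℤ)).map f =
      (HomotopyCategory.quotient (ModuleCat.{u} A) (ComplexShape.up ℤ)).map g) :
    (DRing.homCxQ E).map f = (DRing.homCxQ E).map g := by
  have h' := HomotopyCategory.eq_of_homotopy _ _ (homCxHomotopy E (HomotopyCategory.homotopyOfEq _ _ h))
  have e := congrArg DerivedCategory.Qh.map h'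
  have n₁ := (DerivedCategory.quotientCompQhIso (ModuleCat.{u} A)).hom.naturality (DRing.homCxMap E f)
  have n₂ := (DerivedCategory.quotientCompQhIso (ModuleCat.{u} A)).hom.naturality (DRing.homCxMap E g)
  simp only [Functor.comp_map] at n₁ n₂
  exact (cancel_epi ((DerivedCategory.quotientCompQhIso (ModuleCat.{u} A)).hom.app (DRing.homCx E L))).1
    (n₁.symm.trans ((congrArg (fun k => k ≫ _) e).trans n₂))

theorem isIso_map_of_quasiIso (E : DRing.Cx A) {L L' : DRing.Cx A} (f : L ⟶ L') [QuasiIso f]
    [L.IsKInjective] [L'.IsKInjective] : IsIso ((DRing.homCxQ E).map f) := by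
  let q := HomotopyCategory.quotient (ModuleCat.{u} A) (ComplexShape.up ℤ)
  haveI : IsIso (DerivedCategory.Qh.map (q.map f)) :=
    (NatIso.isIso_map_iff (DerivedCategory.quotientCompQhIso (ModuleCat.{u} A)) f).2 (isIso_Q_map f)
  obtain ⟨g', hg⟩ := (CochainComplex.IsKInjective.Qh_map_bijective (q.obj L') L).2
    (inv (DerivedCategory.Qh.map (q.map f)))
  obtain ⟨g, rfl⟩ := q.map_surjective g'
  refine ⟨(DRing.homCxQ E).map g, ?_, ?_⟩
  · rw [← Functor.map_comp, ← CategoryTheory.Functor.map_id]
    refine map_eq_of_homotopic E _ _ ((CochainComplex.IsKInjective.Qh_map_bijective (q.obj L) L).1 ?_)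
    rw [Functor.map_comp, Functor.map_comp, hg, IsIso.hom_inv_id, CategoryTheory.Functor.map_id, CategoryTheory.Functor.map_id]
  · rw [← Functor.map_comp, ← CategoryTheory.Functor.map_id]
    refine map_eq_of_homotopic E _ _ ((CochainComplex.IsKInjective.Qh_map_bijective (q.obj L') L').1 ?_)
    rw [Functor.map_comp, Functor.map_comp, hg, IsIso.inv_hom_id, CategoryTheory.Functor.map_id, CategoryTheory.Functor.map_id]

theorem exists_res_hc (Z : HomotopyCategory (ModuleCat.{u} A) (ComplexShape.up ℤ)) :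
    ∃ (X : DRing.Cx A) (s : Z ⟶ (HomotopyCategory.quotient _ _).obj X),
      HomotopyCategory.quasiIso (ModuleCat.{u} A) (ComplexShape.up ℤ) s ∧ X.IsKInjective :=
  ⟨KInjRes.res Z.as, (HomotopyCategory.quotient _ _).map (KInjRes.resι Z.as),
    (HomotopyCategory.quotient_map_mem_quasiIso_iff _).2 ((HomologicalComplex.mem_quasiIso_iff _).2 inferInstance),
    inferInstance⟩

theorem exists_res (Z : DRing.Cx A) : ∃ (X : DRing.Cx A) (s : Z ⟶ X),
    HomologicalComplex.quasiIso (ModuleCat.{u} A) (ComplexShape.up ℤ) s ∧ X.IsKInjective :=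
  ⟨KInjRes.res Z, KInjRes.resι Z, (HomologicalComplex.mem_quasiIso_iff _).2 inferInstance, inferInstance⟩

instance : (HomotopyCategory.quotient (ModuleCat.{u} A) (ComplexShape.up ℤ) ⋙
    (DerivedCategory.Qh : _ ⥤ Dual.D A)).IsLocalization
    (HomologicalComplex.quasiIso (ModuleCat.{u} A) (ComplexShape.up ℤ)) :=
  Functor.IsLocalization.of_iso _ (DerivedCategory.quotientCompQhIso _).symm

theorem hasRHomCx (E : DRing.Cx A) : DRing.HasRHomCx E :=
  haveI := CdDim.hasPointwiseRightDerivedFunctor (HomotopyCategory.quotient (ModuleCat.{u} A) (ComplexShape.up ℤ))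
    DerivedCategory.Qh (HomotopyCategory.quasiIso (ModuleCat.{u} A) (ComplexShape.up ℤ)) (DRing.homCxQ E)
    (fun g g' h => map_eq_of_homotopic E g g' h) (fun X : DRing.Cx A => CochainComplex.IsKInjective X)
    (fun s hX hY hs => by
      haveI := hX; haveI := hY
      rw [HomotopyCategory.quotient_map_mem_quasiIso_iff, HomologicalComplex.mem_quasiIso_iff] at hs
      exact isIso_map_of_quasiIso E s)
    exists_res_hc (W' := HomologicalComplex.quasiIso (ModuleCat.{u} A) (ComplexShape.up ℤ)) exists_res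
  inferInstance

/-- the canonical map to the derived Hom -/
noncomputable abbrev unit (E : DRing.Cx A) [DRing.HasRHomCx E] (L : DRing.Cx A) :
    DRing.toD (DRing.homCx E L) ⟶ (DRing.RHomCx E).obj (DRing.toD L) :=
  ((DRing.homCxQ E).totalRightDerivedUnit DerivedCategory.Q
    (HomologicalComplex.quasiIso (ModuleCat.{u} A) (ComplexShape.up ℤ))).app L

theorem isIso_unit (E : DRing.Cx A) [DRing.HasRHomCx E] (I : DRing.Cx A) [hI : I.IsKInjective] :
    IsIso (unit E I) := by
  let W := HomologicalComplex.quasiIso (ModuleCat.{u} A) (ComplexShape.up ℤ)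
  let α := (DRing.homCxQ E).totalRightDerivedUnit DerivedCategory.Q W
  let e := DerivedCategory.quotientCompQhIso (ModuleCat.{u} A)
  let α' : DRing.homCxQ E ⟶ (HomotopyCategory.quotient (ModuleCat.{u} A) (ComplexShape.up ℤ) ⋙
      DerivedCategory.Qh) ⋙ DRing.RHomCx E := α
  haveI : (DRing.RHomCx E).IsRightDerivedFunctor α' W :=
    ⟨(inferInstance : (DRing.RHomCx E).IsRightDerivedFunctor α W).isLeftKanExtension⟩
  exact CdDim.isIso_app (HomotopyCategory.quotient (ModuleCat.{u} A) (ComplexShape.up ℤ))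
    DerivedCategory.Qh (HomotopyCategory.quasiIso (ModuleCat.{u} A) (ComplexShape.up ℤ)) (DRing.homCxQ E)
    (fun g g' h => map_eq_of_homotopic E g g' h) (fun X : DRing.Cx A => CochainComplex.IsKInjective X)
    (fun s hX hY hs => by
      haveI := hX; haveI := hY
      rw [HomotopyCategory.quotient_map_mem_quasiIso_iff, HomologicalComplex.mem_quasiIso_iff] at hs
      exact isIso_map_of_quasiIso E s)
    exists_res_hc exists_res α' (X := I) hI

/-- the value on K-injective complexes -/
noncomputable def computeInj (E : DRing.Cx A) [DRing.HasRHomCx E] (I : DRing.Cx A) [I.IsKInjective] :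
    DRing.toD (DRing.homCx E I) ≅ (DRing.RHomCx E).obj (DRing.toD I) :=
  haveI := isIso_unit E I
  asIso (unit E I)

/-- `Hom•(P, -)` preserves quasi-isomorphisms for K-projective `P` -/
theorem quasiIso_homCxMap (P : DRing.Cx A) [P.IsKProjective] {L L' : DRing.Cx A} (f : L ⟶ L') [QuasiIso f] :
    QuasiIso (DRing.homCxMap P f) := by
  let q := HomotopyCategory.quotient (ModuleCat.{u} A) (ComplexShape.up ℤ)
  have hb : ∀ n : ℤ, Function.Bijective (fun a : q.obj P ⟶ q.obj (L⟦n⟧) => a ≫ q.map (f⟦n⟧')) := fun n => by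
    haveI : QuasiIso (f⟦n⟧') := inferInstance
    haveI : IsIso (DerivedCategory.Qh.map (q.map (f⟦n⟧'))) :=
      (NatIso.isIso_map_iff (DerivedCategory.quotientCompQhIso (ModuleCat.{u} A)) _).2 (isIso_Q_map _)
    refine ⟨fun a b h => (CochainComplex.IsKProjective.Qh_map_bijective P _).1 ?_, fun c => ?_⟩
    · have := congrArg DerivedCategory.Qh.map h
      simpa only [Functor.map_comp, cancel_mono] using this
    · obtain ⟨a, ha⟩ := (CochainComplex.IsKProjective.Qh_map_bijective P _).2
        (DerivedCategory.Qh.map c ≫ inv (DerivedCategory.Qh.map (q.map (f⟦n⟧'))))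
      exact ⟨a, (CochainComplex.IsKProjective.Qh_map_bijective P _).1 (by
        rw [Functor.map_comp, ha, Category.assoc, IsIso.inv_hom_id, Category.comp_id])⟩
  have key : ∀ {n : ℤ} (x : Cocycle P L n), CohomologyClass.toHom (CohomologyClass.mk (x.postcomp f)) =
      CohomologyClass.toHom (CohomologyClass.mk x) ≫ q.map (f⟦n⟧') := fun x => by
    rw [CohomologyClass.toHom_mk, CohomologyClass.toHom_mk, Cocycle.equivHomShift_symm_postcomp, Functor.map_comp]
  refine quasiIso_of_elements _ (fun n (y : Cochain P L' n) (hy : δ n (n + 1) y = 0) => ?_)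
    (fun n (x : Cochain P L n) (w : Cochain P L' (n - 1)) (hx : δ n (n + 1) x = 0)
      (he : x.comp (Cochain.ofHom f) (add_zero n) = δ (n - 1) n w) => ?_)
  · let yc : Cocycle P L' n := Cocycle.mk y (n + 1) rfl hy
    obtain ⟨a, ha⟩ := (hb n).2 (CohomologyClass.toHom (CohomologyClass.mk yc))
    obtain ⟨c, hc⟩ := (CohomologyClass.toHom_bijective P L n).2 a
    obtain ⟨x, rfl⟩ := CohomologyClass.mk_surjective c
    have h0 : CohomologyClass.toHom (CohomologyClass.mk (yc - x.postcomp f)) = 0 := by
      rw [CohomologyClass.mk_sub, map_sub, key, hc]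
      exact sub_eq_zero.2 ha.symm
    obtain ⟨w, hw⟩ := (mem_coboundaries_iff _ (n - 1) (sub_add_cancel n 1)).1
      ((CohomologyClass.toHom_mk_eq_zero_iff _).1 h0)
    refine ⟨x.1, w, x.δ_eq_zero (n + 1), ?_⟩
    change x.1.comp (Cochain.ofHom f) (add_zero n) + δ (n - 1) n w = y
    rw [hw]
    simp [yc]
  · let xc : Cocycle P L n := Cocycle.mk x (n + 1) rfl hx
    have h0 : CohomologyClass.toHom (CohomologyClass.mk (xc.postcomp f)) = 0 :=
      (CohomologyClass.toHom_mk_eq_zero_iff _).2
        ((mem_coboundaries_iff _ (n - 1) (sub_add_cancel n 1)).2 ⟨w, he.symm⟩)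
    rw [key] at h0
    have hx0 : CohomologyClass.toHom (CohomologyClass.mk xc) = 0 :=
      (hb n).1 (h0.trans zero_comp.symm)
    obtain ⟨v, hv⟩ := (mem_coboundaries_iff _ (n - 1) (sub_add_cancel n 1)).1
      ((CohomologyClass.toHom_mk_eq_zero_iff _).1 hx0)
    exact ⟨v, hv⟩

/-- precomposition on Hom complexes -/
noncomputable def homCxPre {E E' : DRing.Cx A} (g : E' ⟶ E) (L : DRing.Cx A) :
    DRing.homCx E L ⟶ DRing.homCx E' L where
  f i := ModuleCat.ofHom (X := Cochain E L i) (Y := Cochain E' L i)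
    { toFun := fun z => (Cochain.ofHom g).comp z (zero_add i)
      map_add' := fun z z' => by simp
      map_smul' := fun a z => by simp }
  comm' i j _ := by
    ext (z : Cochain E L i)
    change δ i j ((Cochain.ofHom g).comp z (zero_add i)) = (Cochain.ofHom g).comp (δ i j z) (zero_add j)
    exact δ_ofHom_comp g z j

theorem quasiIso_homCxPre {E E' : DRing.Cx A} (g : E' ⟶ E) [QuasiIso g] (L : DRing.Cx A) [L.IsKInjective] :
    QuasiIso (homCxPre g L) := by
  let q := HomotopyCategory.quotient (ModuleCat.{u} A) (ComplexShape.up ℤ)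
  have hb : ∀ n : ℤ, Function.Bijective (fun a : q.obj E ⟶ q.obj (L⟦n⟧) => q.map g ≫ a) := fun n => by
    haveI : IsIso (DerivedCategory.Qh.map (q.map g)) :=
      (NatIso.isIso_map_iff (DerivedCategory.quotientCompQhIso (ModuleCat.{u} A)) _).2 (isIso_Q_map g)
    refine ⟨fun a b h => (CochainComplex.IsKInjective.Qh_map_bijective _ _).1 ?_, fun c => ?_⟩
    · have := congrArg DerivedCategory.Qh.map h
      simpa only [Functor.map_comp, cancel_epi] using this
    · obtain ⟨a, ha⟩ := (CochainComplex.IsKInjective.Qh_map_bijective (q.obj E) (L⟦n⟧)).2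
        (inv (DerivedCategory.Qh.map (q.map g)) ≫ DerivedCategory.Qh.map c)
      exact ⟨a, (CochainComplex.IsKInjective.Qh_map_bijective _ _).1 (by
        rw [Functor.map_comp, ha, IsIso.hom_inv_id_assoc])⟩
  have key : ∀ {n : ℤ} (x : Cocycle E L n), CohomologyClass.toHom (CohomologyClass.mk (x.precomp g)) =
      q.map g ≫ CohomologyClass.toHom (CohomologyClass.mk x) := fun x => by
    rw [CohomologyClass.toHom_mk, CohomologyClass.toHom_mk, Cocycle.equivHomShift_symm_precomp, Functor.map_comp]
  refine quasiIso_of_elements _ (fun n (y : Cochain E' L n) (hy : δ n (n + 1) y = 0) => ?_)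
    (fun n (x : Cochain E L n) (w : Cochain E' L (n - 1)) (hx : δ n (n + 1) x = 0)
      (he : (Cochain.ofHom g).comp x (zero_add n) = δ (n - 1) n w) => ?_)
  · let yc : Cocycle E' L n := Cocycle.mk y (n + 1) rfl hy
    obtain ⟨a, ha⟩ := (hb n).2 (CohomologyClass.toHom (CohomologyClass.mk yc))
    obtain ⟨c, hc⟩ := (CohomologyClass.toHom_bijective E L n).2 a
    obtain ⟨x, rfl⟩ := CohomologyClass.mk_surjective c
    have h0 : CohomologyClass.toHom (CohomologyClass.mk (yc - x.precomp g)) = 0 := by
      rw [CohomologyClass.mk_sub, map_sub, key, hc]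
      exact sub_eq_zero.2 ha.symm
    obtain ⟨w, hw⟩ := (mem_coboundaries_iff _ (n - 1) (sub_add_cancel n 1)).1
      ((CohomologyClass.toHom_mk_eq_zero_iff _).1 h0)
    refine ⟨x.1, w, x.δ_eq_zero (n + 1), ?_⟩
    change (Cochain.ofHom g).comp x.1 (zero_add n) + δ (n - 1) n w = y
    rw [hw]
    simp [yc]
  · let xc : Cocycle E L n := Cocycle.mk x (n + 1) rfl hx
    have h0 : CohomologyClass.toHom (CohomologyClass.mk (xc.precomp g)) = 0 :=
      (CohomologyClass.toHom_mk_eq_zero_iff _).2
        ((mem_coboundaries_iff _ (n - 1) (sub_add_cancel n 1)).2 ⟨w, he.symm⟩)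
    rw [key] at h0
    have hx0 : CohomologyClass.toHom (CohomologyClass.mk xc) = 0 :=
      (hb n).1 (h0.trans comp_zero.symm)
    obtain ⟨v, hv⟩ := (mem_coboundaries_iff _ (n - 1) (sub_add_cancel n 1)).1
      ((CohomologyClass.toHom_mk_eq_zero_iff _).1 hx0)
    exact ⟨v, hv⟩

/-- `RHom` out of a complex with a K-projective resolution -/
noncomputable def compute {E P : DRing.Cx A} [DRing.HasRHomCx E] [P.IsKProjective] (g : P ⟶ E) [QuasiIso g]
    (L : DRing.Cx A) : (DRing.RHomCx E).obj (DRing.toD L) ≅ DRing.toD (DRing.homCx P L) :=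
  haveI := isIso_Q_map (KInjRes.resι L)
  haveI := quasiIso_homCxPre g (KInjRes.res L)
  haveI := isIso_Q_map (homCxPre g (KInjRes.res L))
  haveI := quasiIso_homCxMap P (KInjRes.resι L)
  haveI := isIso_Q_map (DRing.homCxMap P (KInjRes.resι L))
  (DRing.RHomCx E).mapIso (asIso (DerivedCategory.Q.map (KInjRes.resι L))) ≪≫
    (computeInj E (KInjRes.res L)).symm ≪≫ asIso (DerivedCategory.Q.map (homCxPre g (KInjRes.res L))) ≪≫
    (asIso (DerivedCategory.Q.map (DRing.homCxMap P (KInjRes.resι L)))).symm

end Groth.L10.RHomCx
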