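import Groth.Agent.L10.RelPC.BC
import Groth.Agent.L10.DRing.Nilpotent
import Groth.Agent.L10.DRing.BaseChange
import Groth.Agent.L10.DRing.FlatFibre
import Groth.Prelude.Def_DualSh

/-!
Relative perfectness: base change, nilpotent thickenings.
-/

universe u

open CategoryTheory CategoryTheory.Limits CategoryTheory.Pretriangulated CochainComplex TensorProduct

attribute [local instance] HasDerivedCategory.standard

set_option backward.defeqAttrib.useBackward true
set_option backward.isDefEq.respectTransparency false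

namespace Groth.L10.RelPerfOps

open Groth.L02.PC Groth.L10.DR Groth.L10.RelPC Groth.L20.TorAmp

variable (A A' S S' : Type u) [CommRing A] [CommRing A'] [CommRing S] [CommRing S']
  [Algebra A A'] [Algebra A S] [Algebra A' S'] [Algebra S S'] [Algebra A S']
  [IsScalarTower A A' S'] [IsScalarTower A S S'] [Algebra.IsPushout A A' S S']

/-- base change commutes with restriction, complexes -/
noncomputable def bcResIso (P : DRing.Cx S) :
    (bcCx (algebraMap A A')).obj (res (A := A) P) ≅
      res (A := A') ((bcCx (algebraMap S S')).obj P) :=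
  HomologicalComplex.Hom.isoOfComponents (fun i => (extResNat A A' S S').app (P.X i))
    (fun i j _ => ((extResNat A A' S S').hom.naturality (P.d i j)).symm)

variable {A A' S S'}

/-- derived base change commutes with restriction along a flat algebra -/
theorem nonempty_lbc_res [Module.Flat A S] [DRing.HasLBaseChange (algebraMap A A')]
    [DRing.HasLBaseChange (algebraMap S S')] {K : Dual.D S} {b : ℤ} (hK : LEH K b) :
    Nonempty ((DRing.LBaseChange (algebraMap A A')).obj ((DRing.restrictD (algebraMap A S)).obj K) ≅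
      (DRing.restrictD (algebraMap A' S')).obj ((DRing.LBaseChange (algebraMap S S')).obj K)) := by
  obtain ⟨Q, hQb, hQf, hQk, ⟨e⟩⟩ := exists_free_rep hK
  haveI := hQk
  exact ⟨(DRing.LBaseChange (algebraMap A A')).mapIso
      (((DRing.restrictD (algebraMap A S)).mapIso e).symm ≪≫ resIso Q) ≪≫
    Groth.L10.KFlatLBC.lbcKF _ _ (Groth.L10.DR.isKFlat_res hQb hQf) ≪≫
    DerivedCategory.Q.mapIso (bcResIso A A' S S' Q) ≪≫ (resIso _).symm ≪≫
    (DRing.restrictD (algebraMap A' S')).mapIso
      ((lbcIso _ Q).symm ≪≫ (DRing.LBaseChange (algebraMap S S')).mapIso e)⟩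

theorem leh_of_pc' {R : Type u} [CommRing R] {K : Dual.D R} (h : DRing.IsPseudoCoherent' R K) :
    ∃ b : ℤ, LEH K b := exists_LEH (pc_of_pc' h 0)

theorem baseChange [Module.Flat A S] [DRing.HasLBaseChange (algebraMap S S')] {K : Dual.D S}
    (hK : Dual2.IsRelPerfect A S K) :
    Dual2.IsRelPerfect A' S' ((DRing.LBaseChange (algebraMap S S')).obj K) := by
  obtain ⟨hpc, a, b, hamp⟩ := hK
  refine ⟨pc'_of_forall fun m => pc_lBaseChange _ (pc_of_pc' hpc m), a, b, ?_⟩
  obtain ⟨c, hc⟩ := leh_of_pc' hpc
  haveI := Groth.L10.KFlatLBC.hasLBaseChange (algebraMap A A')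
  obtain ⟨e⟩ := nonempty_lbc_res (A := A) (A' := A') (S := S) (S' := S') hc
  exact amp_of_iso e (amp_lBaseChange (algebraMap A A') hamp)

theorem of_nilpotent [Module.Flat A S] [DRing.HasLBaseChange (algebraMap S S')] {K : Dual.D S}
    (hs : Function.Surjective (algebraMap A A')) (hn : IsNilpotent (RingHom.ker (algebraMap A A')))
    (hs' : Function.Surjective (algebraMap S S')) (hn' : IsNilpotent (RingHom.ker (algebraMap S S')))
    (h : Dual2.IsRelPerfect A' S' ((DRing.LBaseChange (algebraMap S S')).obj K)) :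
    Dual2.IsRelPerfect A S K := by
  obtain ⟨hpc, a, b, hamp⟩ := h
  have hpc' := Groth.L10.NilpotentThick.pc_of_lBaseChange hs' hn' K hpc
  refine ⟨hpc', a, b, ?_⟩
  obtain ⟨c, hc⟩ := leh_of_pc' hpc'
  haveI := Groth.L10.KFlatLBC.hasLBaseChange (algebraMap A A')
  obtain ⟨e⟩ := nonempty_lbc_res (A := A) (A' := A') (S := S) (S' := S') hc
  exact Groth.L10.NilpotentThick.amp_of_lBaseChange hs hn _ a b (amp_of_iso e.symm hamp)

end Groth.L10.RelPerfOps
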