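import Mathlib.RingTheory.LocalRing.Module
import Mathlib.RingTheory.LocalProperties.Exactness
import Mathlib.RingTheory.LocalProperties.Projective
import Mathlib.RingTheory.Localization.Free
import Mathlib.RingTheory.Localization.Finiteness
import Mathlib.RingTheory.Nakayama
import Mathlib.RingTheory.Ideal.Quotient.Operations
import Mathlib.LinearAlgebra.TensorProduct.Quotient
import Mathlib.RingTheory.Finiteness.Projective

/-! Three-term complexes of finite free modules which are exact at closed fibres. -/

universe u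

open TensorProduct

namespace Groth.L10.ResidueExact

variable {R : Type u} [CommRing R] {F G H : Type u} [AddCommGroup F] [Module R F] [AddCommGroup G] [Module R G]
  [AddCommGroup H] [Module R H]

/-- Exactness of `F → G → H` modulo `m`. -/
def ExMod (m : Ideal R) (f : F →ₗ[R] G) (g : G →ₗ[R] H) : Prop :=
  ∀ x, g x ∈ m • (⊤ : Submodule R H) → x ∈ LinearMap.range f ⊔ m • (⊤ : Submodule R G)

theorem exact_and_free_coker_local [IsLocalRing R] [Module.Finite R G] [Module.Finite R H] [Module.Free R H]
    (f : F →ₗ[R] G) (g : G →ₗ[R] H) (hgf : g ∘ₗ f = 0) (h : ExMod (IsLocalRing.maximalIdeal R) f g) :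
    Function.Exact f g ∧ Module.Free R (H ⧸ LinearMap.range g) := by
  let m := IsLocalRing.maximalIdeal R
  let I := LinearMap.range g
  have hfree : Module.Free R (H ⧸ I) := by
    refine Module.free_of_lTensor_residueField_injective I.subtype I.mkQ (Submodule.mkQ_surjective _)
      (LinearMap.exact_subtype_mkQ I) ?_
    refine (injective_iff_map_eq_zero _).2 fun z hz => ?_
    obtain ⟨⟨_, x, rfl⟩, rfl⟩ := TensorProduct.mk_surjective R I (IsLocalRing.ResidueField R) Ideal.Quotient.mk_surjective z
    have h1 : g x ∈ m • (⊤ : Submodule R H) := by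
      refine (Submodule.Quotient.mk_eq_zero _).1 ?_
      refine Eq.trans ?_ ((congrArg (TensorProduct.quotTensorEquivQuotSMul H m) hz).trans (LinearEquiv.map_zero _))
      exact ((TensorProduct.quotTensorEquivQuotSMul_mk_tmul (M := H) m 1 (g x)).trans (by rw [one_smul])).symm
    obtain ⟨_, ⟨y, rfl⟩, w, hw, rfl⟩ := Submodule.mem_sup.1 (h x h1)
    have h2 : (⟨g (f y + w), LinearMap.mem_range_self g _⟩ : I) ∈ m • (⊤ : Submodule R I) := by
      have : g.rangeRestrict w ∈ (m • (⊤ : Submodule R G)).map g.rangeRestrict := ⟨w, hw, rfl⟩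
      rw [Submodule.map_smul'', Submodule.map_top, LinearMap.range_rangeRestrict] at this
      convert this using 1
      exact Subtype.ext (by simp [show g (f y) = 0 from LinearMap.congr_fun hgf y])
    refine (TensorProduct.quotTensorEquivQuotSMul I m).injective (Eq.trans ?_ (LinearEquiv.map_zero _).symm)
    refine ((TensorProduct.quotTensorEquivQuotSMul_mk_tmul (M := I) m 1 _).trans ?_)
    rw [one_smul]
    exact (Submodule.Quotient.mk_eq_zero _).2 h2
  refine ⟨?_, hfree⟩
  obtain ⟨s, hs⟩ := Module.projective_lifting_property I.mkQ LinearMap.id (Submodule.mkQ_surjective _)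
  let t : H →ₗ[R] I := LinearMap.codRestrict I (LinearMap.id - s ∘ₗ I.mkQ) fun x => by
    rw [← Submodule.Quotient.mk_eq_zero]
    change I.mkQ (x - s (I.mkQ x)) = 0
    rw [map_sub, show I.mkQ (s (I.mkQ x)) = I.mkQ x from LinearMap.congr_fun hs _, sub_self]
  have ht : ∀ i : I, t i.1 = i := fun i => Subtype.ext (by
    change i.1 - s (I.mkQ i.1) = i.1
    rw [show I.mkQ i.1 = 0 from (Submodule.Quotient.mk_eq_zero _).2 i.2, map_zero, sub_zero])
  have : Module.Projective R I := Module.Projective.of_split I.subtype t (LinearMap.ext ht)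
  obtain ⟨σ, hσ⟩ := Module.projective_lifting_property g.rangeRestrict LinearMap.id g.surjective_rangeRestrict
  let p : G →ₗ[R] LinearMap.ker g := LinearMap.codRestrict _ (LinearMap.id - σ ∘ₗ g.rangeRestrict) fun x => by
    rw [LinearMap.mem_ker]
    change g (x - σ (g.rangeRestrict x)) = 0
    rw [map_sub, show g (σ (g.rangeRestrict x)) = g x from congrArg Subtype.val (LinearMap.congr_fun hσ _), sub_self]
  have hp : ∀ k : LinearMap.ker g, p k.1 = k := fun k => Subtype.ext (by
    change k.1 - σ (g.rangeRestrict k.1) = k.1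
    rw [show g.rangeRestrict k.1 = 0 from Subtype.ext (LinearMap.mem_ker.1 k.2), map_zero, sub_zero])
  have : Module.Finite R (LinearMap.ker g) := Module.Finite.of_surjective p fun k => ⟨k.1, hp k⟩
  have hfk : ∀ y, f y ∈ LinearMap.ker g := fun y => LinearMap.congr_fun hgf y
  have htop : (⊤ : Submodule R (LinearMap.ker g)) ≤ LinearMap.range (f.codRestrict _ hfk) := by
    refine Submodule.le_of_le_smul_of_le_jacobson_bot Module.Finite.fg_top
      (IsLocalRing.maximalIdeal_le_jacobson _) fun k _ => ?_
    obtain ⟨_, ⟨y, rfl⟩, w, hw, hk⟩ := Submodule.mem_sup.1 (h k.1 (by rw [LinearMap.mem_ker.1 k.2]; exact Submodule.zero_mem _))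
    have hw' : p w ∈ m • (⊤ : Submodule R (LinearMap.ker g)) := by
      have : p w ∈ (m • (⊤ : Submodule R G)).map p := ⟨w, hw, rfl⟩
      rw [Submodule.map_smul''] at this
      exact Submodule.smul_mono le_rfl le_top this
    refine Submodule.mem_sup.2 ⟨_, ⟨y, rfl⟩, p w, hw', ?_⟩
    rw [← hp k, ← hk, map_add]
    exact congrArg (· + p w) (hp ⟨f y, hfk y⟩).symm
  intro x
  refine ⟨fun hx => ?_, fun ⟨y, hy⟩ => hy ▸ LinearMap.congr_fun hgf y⟩
  obtain ⟨y, hy⟩ := htop (Submodule.mem_top : (⟨x, hx⟩ : LinearMap.ker g) ∈ _)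
  exact ⟨y, congrArg Subtype.val hy⟩

section

variable (m : Ideal R) [m.IsMaximal] (f : F →ₗ[R] G) (g : G →ₗ[R] H)

local notation "L" M => LocalizedModule m.primeCompl M

theorem mem_smul_localized {M : Type u} [AddCommGroup M] [Module R M] (z : LocalizedModule m.primeCompl M)
    (hz : z ∈ IsLocalRing.maximalIdeal (Localization.AtPrime m) • (⊤ : Submodule (Localization.AtPrime m) (LocalizedModule m.primeCompl M))) :
    ∃ y ∈ m • (⊤ : Submodule R M), ∃ s, z = LocalizedModule.mk y s := by
  refine Submodule.smul_induction_on hz ?_ ?_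
  · intro a ha w _
    obtain ⟨r, s, rfl⟩ := IsLocalization.exists_mk'_eq m.primeCompl a
    rw [IsLocalization.AtPrime.mk'_mem_maximal_iff (Localization.AtPrime m) m] at ha
    induction w using LocalizedModule.induction_on with
    | h y u => exact ⟨r • y, Submodule.smul_mem_smul ha Submodule.mem_top, s * u, by
        rw [← LocalizedModule.mk_smul_mk, Localization.mk_eq_mk'_apply]⟩
  · rintro _ _ ⟨y, hy, s, rfl⟩ ⟨y', hy', s', rfl⟩
    exact ⟨s' • y + s • y', add_mem (Submodule.smul_of_tower_mem _ s' hy) (Submodule.smul_of_tower_mem _ s hy'), s * s', LocalizedModule.mk_add_mk⟩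

theorem mk_mem_smul {M : Type u} [AddCommGroup M] [Module R M] (y : M) (hy : y ∈ m • (⊤ : Submodule R M)) (s : m.primeCompl) :
    LocalizedModule.mk y s ∈ IsLocalRing.maximalIdeal (Localization.AtPrime m) •
      (⊤ : Submodule (Localization.AtPrime m) (LocalizedModule m.primeCompl M)) := by
  refine Submodule.smul_induction_on hy ?_ ?_
  · intro r hr z _
    have : LocalizedModule.mk (r • z) s = (Localization.mk r s : Localization.AtPrime m) • LocalizedModule.mk z 1 := by
      rw [LocalizedModule.mk_smul_mk, mul_one]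
    rw [this]
    refine Submodule.smul_mem_smul ?_ Submodule.mem_top
    rw [Localization.mk_eq_mk'_apply, IsLocalization.AtPrime.mk'_mem_maximal_iff (Localization.AtPrime m) m]
    exact hr
  · intro a b ha hb
    have : LocalizedModule.mk (a + b) s = LocalizedModule.mk a s + LocalizedModule.mk b s := by
      rw [LocalizedModule.mk_add_mk, ← smul_add, ← LocalizedModule.mk_cancel_common_left s s (a + b)]
    rw [this]; exact add_mem ha hb

theorem exMod_localized (h : ExMod m f g) :
    ExMod (IsLocalRing.maximalIdeal (Localization.AtPrime m)) (LocalizedModule.map m.primeCompl f)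
      (LocalizedModule.map m.primeCompl g) := by
  intro x hx
  induction x using LocalizedModule.induction_on with
  | h x s =>
    obtain ⟨y, hy, s', hys⟩ := mem_smul_localized m _ hx
    rw [LocalizedModule.map_mk] at hys
    obtain ⟨c, hc⟩ := LocalizedModule.mk_eq.1 hys
    have ht : ((c * s' : m.primeCompl) : R) • g x ∈ m • (⊤ : Submodule R H) := by
      have : c • s' • g x ∈ m • (⊤ : Submodule R H) := by
        rw [hc]; exact Submodule.smul_of_tower_mem _ c (Submodule.smul_of_tower_mem _ s hy)
      rw [Submonoid.coe_mul, mul_smul]; exact this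
    obtain ⟨a, i, hi, hai⟩ := Ideal.IsMaximal.exists_inv ‹m.IsMaximal› (show ((c * s' : m.primeCompl) : R) ∉ m from (c * s').2)
    have hgx : g x ∈ m • (⊤ : Submodule R H) := by
      rw [← one_smul R (g x), ← hai, add_smul, mul_smul]
      exact add_mem (Submodule.smul_mem _ _ ht) (Submodule.smul_mem_smul hi Submodule.mem_top)
    obtain ⟨_, ⟨z, rfl⟩, w, hw, rfl⟩ := Submodule.mem_sup.1 (h x hgx)
    refine Submodule.mem_sup.2 ⟨_, ⟨LocalizedModule.mk z s, rfl⟩, LocalizedModule.mk w s, mk_mem_smul m w hw s, ?_⟩
    rw [LocalizedModule.map_mk, LocalizedModule.mk_add_mk, ← smul_add, ← LocalizedModule.mk_cancel_common_left s s (f z + w)]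

end

/-- Exactness at all closed fibres gives exactness and a projective cokernel. -/
theorem exact_and_projective_coker [Module.Finite R G] [Module.Finite R H] [Module.Free R H]
    (f : F →ₗ[R] G) (g : G →ₗ[R] H) (hgf : g ∘ₗ f = 0) (h : ∀ m : Ideal R, m.IsMaximal → ExMod m f g) :
    Function.Exact f g ∧ Module.Projective R (H ⧸ LinearMap.range g) := by
  have key : ∀ (m : Ideal R) [m.IsMaximal],
      Function.Exact (LocalizedModule.map m.primeCompl f) (LocalizedModule.map m.primeCompl g) ∧
        Module.Free (Localization.AtPrime m)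
          (LocalizedModule m.primeCompl H ⧸ LinearMap.range (LocalizedModule.map m.primeCompl g)) := by
    intro m hm
    have : Module.Free (Localization.AtPrime m) (LocalizedModule m.primeCompl H) :=
      Module.free_of_isLocalizedModule m.primeCompl (LocalizedModule.mkLinearMap m.primeCompl H)
    refine exact_and_free_coker_local _ _ (LinearMap.ext fun x => ?_) (exMod_localized m f g (h m hm))
    induction x using LocalizedModule.induction_on with
    | h x s => simp [LocalizedModule.map_mk, show g (f x) = 0 from LinearMap.congr_fun hgf x]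
  refine ⟨exact_of_localized_maximal f g fun m _ => (key m).1, ?_⟩
  have : Module.FinitePresentation R (H ⧸ LinearMap.range g) :=
    Module.finitePresentation_of_free_of_surjective _ (Submodule.mkQ_surjective _)
      (by rw [Submodule.ker_mkQ, LinearMap.range_eq_map]; exact Module.Finite.fg_top.map g)
  refine Module.projective_of_localization_maximal fun m hm => ?_
  have := (key m).2
  have hr : (LinearMap.range g).localized m.primeCompl = LinearMap.range (LocalizedModule.map m.primeCompl g) :=
    LinearMap.localized'_range_eq_range_localizedMap (Localization.AtPrime m) m.primeCompl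
      (LocalizedModule.mkLinearMap m.primeCompl G) (LocalizedModule.mkLinearMap m.primeCompl H) g
  exact Module.Projective.of_equiv ((Submodule.quotEquivOfEq _ _ hr.symm).trans
    (localizedQuotientEquiv m.primeCompl (LinearMap.range g)))

/-- Exactness of the reduction gives exactness modulo the kernel. -/
theorem exMod_of_exact_baseChange {k : Type u} [CommRing k] [Algebra R k]
    (hk : Function.Surjective (algebraMap R k)) (f : F →ₗ[R] G) (g : G →ₗ[R] H)
    (h : Function.Exact (f.lTensor k) (g.lTensor k)) : ExMod (RingHom.ker (algebraMap R k)) f g := by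
  let m := RingHom.ker (algebraMap R k)
  let e : (R ⧸ m) ≃ₗ[R] k := (Ideal.quotientKerAlgEquivOfSurjective (f := Algebra.ofId R k) hk).toLinearEquiv
  have he : e (Ideal.Quotient.mk m 1) = 1 := map_one (Ideal.quotientKerAlgEquivOfSurjective (f := Algebra.ofId R k) hk)
  have hz : ∀ {M : Type u} [AddCommGroup M] [Module R M] (x : M), (1 : k) ⊗ₜ[R] x = 0 ↔ x ∈ m • (⊤ : Submodule R M) := by
    intro M _ _ x
    let E : k ⊗[R] M ≃ₗ[R] M ⧸ (m • (⊤ : Submodule R M)) :=
      (TensorProduct.congr e.symm (LinearEquiv.refl R M)).trans (TensorProduct.quotTensorEquivQuotSMul M m)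
    have hE : E ((1 : k) ⊗ₜ x) = Submodule.Quotient.mk x := by
      change TensorProduct.quotTensorEquivQuotSMul M m (e.symm 1 ⊗ₜ x) = _
      rw [← he, LinearEquiv.symm_apply_apply, TensorProduct.quotTensorEquivQuotSMul_mk_tmul, one_smul]
    rw [← Submodule.Quotient.mk_eq_zero, ← hE, LinearEquiv.map_eq_zero_iff]
  intro x hx
  obtain ⟨y, hy⟩ := (h ((1 : k) ⊗ₜ x)).1 (by rw [LinearMap.lTensor_tmul]; exact (hz _).2 hx)
  obtain ⟨z, rfl⟩ := TensorProduct.mk_surjective R F k hk y
  rw [TensorProduct.mk_apply, LinearMap.lTensor_tmul, ← sub_eq_zero, ← TensorProduct.tmul_sub, hz] at hy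
  refine Submodule.mem_sup.2 ⟨f z, LinearMap.mem_range_self f z, -(f z - x), neg_mem hy, by abel⟩

end Groth.L10.ResidueExact
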