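import Groth.Agent.L10.DRing.KFlatLBC
import Groth.Agent.L20.TorAmpWeaklyEtale
import Groth.Prelude.Def_DTen4
import Mathlib.Algebra.Homology.Linear
import Mathlib.Algebra.Category.ModuleCat.ChangeOfRings
import Mathlib.Algebra.Homology.DerivedCategory.ShortExact

/-! Derived base change along a retraction whose kernel is generated by a nonzerodivisor. -/

universe u

open CategoryTheory CategoryTheory.Limits CategoryTheory.Pretriangulated MonoidalCategory
open scoped TensorProduct

attribute [local instance] HasDerivedCategory.standard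

set_option backward.defeqAttrib.useBackward true
set_option backward.isDefEq.respectTransparency false
set_option linter.style.haveILetI false

namespace Groth.L10.SectionBC

open Groth.L10.DR

variable {R P : Type u} [CommRing R] [CommRing P] (c : R →+* P) (φ : P →+* R) (hc : φ.comp c = RingHom.id R)
  (x : P) (hx : φ x = 0)

include hx in
theorem ext_map_smul (M : ModuleCat.{u} P) : (ModuleCat.extendScalars φ).map (x • 𝟙 M) = 0 := by
  apply ((ModuleCat.extendRestrictScalarsAdj.{u, u, u} φ).homEquiv _ _).injective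
  rw [Adjunction.homEquiv_unit, Adjunction.homEquiv_unit, Functor.map_zero, comp_zero]
  refine ((ModuleCat.extendRestrictScalarsAdj.{u, u, u} φ).unit.naturality (x • 𝟙 M)).symm.trans ?_
  ext m
  show ((ModuleCat.extendRestrictScalarsAdj.{u, u, u} φ).unit.app M).hom (x • m) = 0
  rw [map_smul]
  let w : (ModuleCat.extendScalars φ).obj M :=
    ((ModuleCat.extendRestrictScalarsAdj.{u, u, u} φ).unit.app M).hom m
  show φ x • w = 0
  rw [hx, zero_smul]

include hc in
theorem unit_exact (hker : ∀ p, φ p = 0 → x ∣ p) (M : ModuleCat.{u} P)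
    (u : M) (hu : ((ModuleCat.extendRestrictScalarsAdj.{u, u, u} φ).unit.app M).hom u = 0) :
    ∃ v : M, x • v = u := by
  letI : Algebra P R := φ.toAlgebra
  let N : Submodule P M := LinearMap.range (x • LinearMap.id : M →ₗ[P] M)
  have hN : ∀ p : P, φ p = 0 → ∀ v : M, p • v ∈ N := fun p hp v => by
    obtain ⟨q, rfl⟩ := hker p hp
    exact ⟨q • v, by simp [mul_smul, smul_comm q x v]⟩
  let bil : R →ₗ[P] M →ₗ[P] M ⧸ N :=
    { toFun := fun r => c r • N.mkQ
      map_add' := fun r s => by rw [map_add, add_smul]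
      map_smul' := fun p r => LinearMap.ext fun v => by
        show N.mkQ (c (φ p * r) • v) = N.mkQ (p • c r • v)
        rw [← sub_eq_zero, ← map_sub, ← mul_smul, ← sub_smul, Submodule.mkQ_apply, Submodule.Quotient.mk_eq_zero]
        refine hN _ ?_ v
        rw [map_sub, map_mul φ p, ← RingHom.comp_apply, hc, ← RingHom.comp_apply φ c r, hc]
        simp }
  let Ψ : R ⊗[P] M →ₗ[P] M ⧸ N := TensorProduct.lift bil
  let u' : R ⊗[P] M := (1 : R) ⊗ₜ[P] u
  have h0 : u' = 0 := hu
  have h1 : Ψ u' = 0 := by rw [h0, map_zero]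
  simp [Ψ, u', bil] at h1
  exact h1

variable (d : P →+ P) (hd : ∀ p, d (x * p) = p) (hdc : ∀ r p, d (c r * p) = c r * d p)

include hd hdc in
theorem smul_injective (M : ModuleCat.{u} R) (u v : (ModuleCat.extendScalars c).obj M) (h : x • u = x • v) :
    u = v := by
  letI : Algebra R P := c.toAlgebra
  let d' : P →ₗ[R] P :=
    { toFun := d, map_add' := d.map_add
      map_smul' := fun r p => by simp only [Algebra.smul_def, RingHom.id_apply]; exact hdc r p }
  have key : ∀ w : P ⊗[R] (M : Type u), d'.rTensor M (x • w) = w := fun w => by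
    induction w using TensorProduct.induction_on with
    | zero => simp
    | tmul p m =>
      rw [TensorProduct.smul_tmul', LinearMap.rTensor_tmul]
      exact congrArg (· ⊗ₜ[R] m) (hd p)
    | add a b ha hb => rw [smul_add, map_add, ha, hb]
  exact (key u).symm.trans ((congrArg (d'.rTensor M) h).trans (key v))

include hc hx hd hdc in
theorem nonempty_iso (hker : ∀ p, φ p = 0 → x ∣ p) [DRing.HasLBaseChange φ] (K : Dual.D R)
    [HasBinaryBiproduct K (K⟦(1 : ℤ)⟧)] :
    Nonempty ((DRing.LBaseChange φ).obj ((DRing.restrictD φ).obj K) ≅ K ⊞ K⟦(1 : ℤ)⟧) := by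
  obtain ⟨X, hX, -, ⟨eX⟩⟩ := KFlatLBC.exists_rep_flat K
  let Y : DRing.Cx P := (_root_.DTen.extCx c).obj X
  let μ : Y ⟶ Y := x • 𝟙 Y
  let e₀ : (_root_.DTen.extCx φ).obj Y ≅ X :=
    (NatIso.mapHomologicalComplex ((ModuleCat.extendScalarsComp.{u} c φ).symm ≪≫ eqToIso (by rw [hc]) ≪≫
      ModuleCat.extendScalarsId R) (ComplexShape.up ℤ)).app X
  have hμ0 : (_root_.DTen.extCx φ).map μ = 0 := HomologicalComplex.hom_ext _ _ fun i => ext_map_smul φ x hx (Y.X i)
  have hw : μ ≫ (_root_.DTen.unitCx φ).app Y = 0 := by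
    refine ((_root_.DTen.unitCx φ).naturality μ).trans ?_
    show _ ≫ (_root_.DTen.resCx φ).map ((_root_.DTen.extCx φ).map μ) = 0
    rw [hμ0, Functor.map_zero, comp_zero]
  let S : ShortComplex (DRing.Cx P) := ShortComplex.mk μ ((_root_.DTen.unitCx φ).app Y) hw
  have hS : S.ShortExact := HomologicalComplex.shortExact_of_degreewise_shortExact _ fun i => by
    exact
      { exact := (ShortComplex.ShortExact.moduleCat_exact_iff_function_exact _).2 fun u => by
          constructor
          · intro hu
            obtain ⟨v, hv⟩ := unit_exact c φ hc x hker (Y.X i) u hu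
            exact ⟨v, hv⟩
          · rintro ⟨v, rfl⟩
            exact LinearMap.congr_fun (congrArg (fun f : Y ⟶ (_root_.DTen.resCx φ).obj ((_root_.DTen.extCx φ).obj Y) => ModuleCat.Hom.hom (f.f i)) hw) v
        mono_f := ConcreteCategory.mono_of_injective _ fun u v h => smul_injective c x d hd hdc (X.X i) u v h
        epi_g := ConcreteCategory.epi_of_surjective _ fun w => by
          letI : Algebra P R := φ.toAlgebra
          change ∃ a : Y.X i, ((ModuleCat.extendRestrictScalarsAdj.{u, u, u} φ).unit.app (Y.X i)).hom a = w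
          induction w using TensorProduct.induction_on with
          | zero => exact ⟨0, map_zero _⟩
          | tmul r m =>
            refine ⟨c r • m, ?_⟩
            show (1 : R) ⊗ₜ[P] (c r • m) = r ⊗ₜ[P] m
            rw [← TensorProduct.smul_tmul]
            congr 1
            show φ (c r) * 1 = r
            rw [mul_one, ← RingHom.comp_apply, hc]; rfl
          | add a b ha hb =>
            obtain ⟨a', ha⟩ := ha; obtain ⟨b', hb⟩ := hb
            exact ⟨a' + b', (map_add _ a' b').trans (congrArg₂ (· + ·) ha hb)⟩ }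
  haveI := CochainComplex.mappingCone.quasiIso_descShortComplex hS
  have hY : DRing.IsKFlat P Y := Groth.L10.DTen.isKFlat_ext c hX
  let e1 : (DRing.restrictD φ).obj K ≅ DRing.toD (CochainComplex.mappingCone μ) :=
    (DRing.restrictD φ).mapIso (eX.symm ≪≫ DerivedCategory.Q.mapIso e₀.symm) ≪≫
      (_root_.DTen.resFactors φ).app ((_root_.DTen.extCx φ).obj Y) ≪≫
      (asIso (DerivedCategory.Q.map (CochainComplex.mappingCone.descShortComplex S))).symm
  let Z := (_root_.DTen.extCx φ).obj Y
  let e2 : (DRing.LBaseChange φ).obj ((DRing.restrictD φ).obj K) ≅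
      DRing.toD (CochainComplex.mappingCone (0 : Z ⟶ Z)) :=
    (DRing.LBaseChange φ).mapIso e1 ≪≫
      KFlatLBC.lbcKF φ _ (Groth.L10.KFlat.cone μ hY hY) ≪≫
      DerivedCategory.Q.mapIso (CochainComplex.mappingCone.mapHomologicalComplexIso μ (ModuleCat.extendScalars φ)) ≪≫
      eqToIso (congrArg (fun f : Z ⟶ Z => DRing.toD (CochainComplex.mappingCone f)) hμ0)
  have hT := rot_of_distTriang _ (Groth.L02.PC.mappingCone_distinguished (0 : Z ⟶ Z))
  haveI : HasBinaryBiproducts (Dual.D R) := inferInstance
  obtain ⟨e, -, -⟩ := exists_iso_binaryBiproduct_of_distTriang _ hT (by simp)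
  let eK : DRing.toD Z ≅ K := DerivedCategory.Q.mapIso e₀ ≪≫ eX
  exact ⟨e2 ≪≫ e ≪≫ biprod.mapIso eK ((shiftFunctor (Dual.D R) (1 : ℤ)).mapIso eK)⟩

end Groth.L10.SectionBC
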