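import Groth.Agent.L10.DRing.SplitTrunc
import Groth.Agent.L10.DRing.Perfect
import Groth.Agent.L02.PC.BaseChange
import Groth.Agent.L29.Dual.FlatBC
import Groth.Agent.L10.DRing.TorTest
import Mathlib.LinearAlgebra.Charpoly.BaseChange
import Mathlib.RingTheory.LocalRing.ResidueField.Ideal

/-! A pseudo-coherent complex with vanishing fibre cohomology at a prime splits nearby. -/

set_option autoImplicit false

universe u

open CategoryTheory CategoryTheory.Limits
open scoped TensorProduct

attribute [local instance] HasDerivedCategory.standard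

set_option backward.defeqAttrib.useBackward true
set_option backward.isDefEq.respectTransparency false
set_option backward.isDefEq.respectTransparency.types false

namespace Groth.L10.SplitAway

section Linear

theorem exists_section {k : Type u} [Field k] {V W : Type u} [AddCommGroup V] [Module k V] [AddCommGroup W]
    [Module k W] (D : V →ₗ[k] W) : ∃ S : W →ₗ[k] V, ∀ x, D (S (D x)) = D x := by
  obtain ⟨σ₀, hσ₀⟩ := LinearMap.exists_extend (p := LinearMap.range D) (LinearMap.id : LinearMap.range D →ₗ[k] LinearMap.range D)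
  obtain ⟨sec, hsec⟩ := Module.projective_lifting_property D.rangeRestrict LinearMap.id D.surjective_rangeRestrict
  refine ⟨sec.comp σ₀, fun x => ?_⟩
  have h1 : σ₀ (D x) = D.rangeRestrict x := LinearMap.congr_fun hσ₀ (D.rangeRestrict x)
  show D (sec (σ₀ (D x))) = D x
  rw [h1]
  exact congrArg Subtype.val (LinearMap.congr_fun hsec (D.rangeRestrict x))

variable {R : Type u} [CommRing R] (p : Ideal R) [p.IsPrime]

theorem exists_scalar {B : Type u} [AddCommGroup B] [Module R B] (z : p.ResidueField ⊗[R] B) :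
    ∃ s : R, s ∉ p ∧ ∃ w : B, s • z = (1 : p.ResidueField) ⊗ₜ w := by
  induction z using TensorProduct.induction_on with
  | zero => exact ⟨1, fun h => ‹p.IsPrime›.ne_top ((Ideal.eq_top_iff_one p).2 h), 0, by simp⟩
  | tmul x b =>
    obtain ⟨y, rfl⟩ := IsLocalRing.residue_surjective (R := Localization.AtPrime p) x
    obtain ⟨⟨a, s⟩, hs⟩ := IsLocalization.surj p.primeCompl y
    refine ⟨s.1, s.2, a • b, ?_⟩
    rw [TensorProduct.tmul_smul, TensorProduct.smul_tmul', TensorProduct.smul_tmul']
    congr 1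
    rw [Algebra.smul_def, Algebra.smul_def, mul_one, IsScalarTower.algebraMap_apply R (Localization.AtPrime p) p.ResidueField,
      IsScalarTower.algebraMap_apply R (Localization.AtPrime p) p.ResidueField a, IsLocalRing.ResidueField.algebraMap_eq]
    rw [← map_mul, mul_comm, hs]
  | add x y hx hy =>
    obtain ⟨s, hs, w, hw⟩ := hx
    obtain ⟨t, ht, v, hv⟩ := hy
    refine ⟨s * t, fun h => (‹p.IsPrime›.mem_or_mem h).elim hs ht, t • w + s • v, ?_⟩
    rw [smul_add, TensorProduct.tmul_add, TensorProduct.tmul_smul, TensorProduct.tmul_smul, ← hw, ← hv,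
      ← mul_smul, ← mul_smul, mul_comm t s]

/-- maps between the fibres lift up to a unit -/
theorem exists_lift {A B : Type u} [AddCommGroup A] [Module R A] [Module.Finite R A] [Module.Free R A]
    [AddCommGroup B] [Module R B] (g : p.ResidueField ⊗[R] A →ₗ[p.ResidueField] p.ResidueField ⊗[R] B) :
    ∃ s : R, s ∉ p ∧ ∃ f : A →ₗ[R] B, f.baseChange p.ResidueField = algebraMap R p.ResidueField s • g := by
  classical
  let b := Module.Free.chooseBasis R A
  have key : ∀ S : Finset (Module.Free.ChooseBasisIndex R A),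
      ∃ s : R, s ∉ p ∧ ∀ j ∈ S, ∃ w : B, s • g (1 ⊗ₜ b j) = (1 : p.ResidueField) ⊗ₜ w := by
    intro S
    induction S using Finset.induction with
    | empty => exact ⟨1, fun h => ‹p.IsPrime›.ne_top ((Ideal.eq_top_iff_one p).2 h), fun j hj => absurd hj (Finset.notMem_empty j)⟩
    | insert j S _ ih =>
      obtain ⟨s, hs, hS⟩ := ih
      obtain ⟨t, ht, w, hw⟩ := exists_scalar p (g (1 ⊗ₜ b j))
      refine ⟨s * t, fun h => (‹p.IsPrime›.mem_or_mem h).elim hs ht, fun k hk => ?_⟩
      rcases Finset.mem_insert.1 hk with rfl | hk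
      · exact ⟨s • w, by rw [mul_smul, hw, ← TensorProduct.tmul_smul]⟩
      · obtain ⟨v, hv⟩ := hS k hk
        exact ⟨t • v, by rw [mul_comm, mul_smul, hv, ← TensorProduct.tmul_smul]⟩
  obtain ⟨s, hs, hS⟩ := key Finset.univ
  choose w hw using fun j => hS j (Finset.mem_univ j)
  refine ⟨s, hs, b.constr R w, (b.baseChange p.ResidueField).ext fun j => ?_⟩
  rw [Module.Basis.baseChange_apply, LinearMap.baseChange_tmul, Module.Basis.constr_basis, ← hw,
    LinearMap.smul_apply, algebraMap_smul]

variable {A B C : Type u} [AddCommGroup A] [Module R A] [AddCommGroup B] [Module R B] [AddCommGroup C] [Module R C]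

/-- exactness on the fibre gives a contraction up to a unit -/
theorem exists_contraction [Module.Finite R B] [Module.Free R B] [Module.Finite R C] [Module.Free R C]
    (d' : A →ₗ[R] B) (d : B →ₗ[R] C)
    (h : Function.Exact (d'.baseChange p.ResidueField) (d.baseChange p.ResidueField)) :
    ∃ (σ : C →ₗ[R] B) (τ : B →ₗ[R] A), LinearMap.det (σ.comp d + d'.comp τ) ∉ p := by
  classical
  let κ := p.ResidueField
  let D := d.baseChange κ
  let D' := d'.baseChange κ
  obtain ⟨S, hS⟩ := exists_section (k := κ) D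
  have hmem : ∀ x, x - S (D x) ∈ LinearMap.range D' := fun x => (h _).1 (by rw [map_sub]; exact sub_eq_zero.2 (hS x).symm)
  obtain ⟨T, hT⟩ := Module.projective_lifting_property D'.rangeRestrict
    ((LinearMap.id - S.comp D).codRestrict _ hmem) D'.surjective_rangeRestrict
  have hid : S.comp D + D'.comp T = LinearMap.id := LinearMap.ext fun x => by
    have h1 : D' (T x) = x - S (D x) := congrArg Subtype.val (LinearMap.congr_fun hT x)
    show S (D x) + D' (T x) = x
    rw [h1, add_sub_cancel]
  obtain ⟨s, hs, f, hf⟩ := exists_lift p S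
  obtain ⟨t, ht, g, hg⟩ := exists_lift p T
  refine ⟨t • f, s • g, fun hmemp => ?_⟩
  have hu : ((t • f).comp d + d'.comp (s • g)).baseChange κ = algebraMap R κ (s * t) • LinearMap.id := by
    rw [LinearMap.baseChange_add, LinearMap.baseChange_comp, LinearMap.baseChange_comp, LinearMap.baseChange_smul,
      LinearMap.baseChange_smul, hf, hg, ← hid, ← algebraMap_smul κ t, ← algebraMap_smul κ s, smul_smul, smul_smul,
      LinearMap.smul_comp, LinearMap.comp_smul, smul_add, map_mul, mul_comm (algebraMap R κ t)]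
  have hd := congrArg LinearMap.det hu
  rw [LinearMap.det_baseChange, LinearMap.det_smul, LinearMap.det_id, mul_one,
    Ideal.algebraMap_residueField_eq_zero.2 hmemp] at hd
  have hst : algebraMap R κ (s * t) ≠ 0 := fun h0 =>
    (‹p.IsPrime›.mem_or_mem (Ideal.algebraMap_residueField_eq_zero.1 h0)).elim hs ht
  exact pow_ne_zero _ hst hd.symm

/-- a contraction up to a unit makes cocycles coboundaries -/
theorem exists_factor [Module.Finite R B] [Module.Free R B] (d' : A →ₗ[R] B) (d : B →ₗ[R] C) (hdd : d.comp d' = 0)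
    (σ : C →ₗ[R] B) (τ : B →ₗ[R] A) (hu : IsUnit (LinearMap.det (σ.comp d + d'.comp τ)))
    {M : Type u} [AddCommGroup M] [Module R M] (α : B →ₗ[R] M) (hα : α.comp d' = 0) :
    ∃ β : C →ₗ[R] M, β.comp d = α := by
  let w : Module.End R B := σ.comp d + d'.comp τ
  have hw : ∀ x, d (w x) = d (σ (d x)) := fun x => by
    show d (σ (d x) + d' (τ x)) = _
    rw [map_add, show d (d' (τ x)) = 0 from LinearMap.congr_fun hdd (τ x), add_zero]
  have hαw : ∀ x, α (w x) = α (σ (d x)) := fun x => by
    show α (σ (d x) + d' (τ x)) = _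
    rw [map_add, show α (d' (τ x)) = 0 from LinearMap.congr_fun hα (τ x), add_zero]
  have hpow : ∀ (k : ℕ) (x : B), d ((w ^ k) x) = ((d.comp σ : Module.End R C) ^ k) (d x) := by
    intro k
    induction k with
    | zero => intro x; simp
    | succ k ih =>
      intro x
      rw [pow_succ, Module.End.mul_apply, ih, hw, pow_succ, Module.End.mul_apply]
      rfl
  have key : ∀ q : Polynomial R, ∃ γ : C →ₗ[R] M, ∀ x, γ (d x) = α (w (Polynomial.aeval w q x)) := by
    intro q
    induction q using Polynomial.induction_on' with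
    | add q₁ q₂ h₁ h₂ =>
      obtain ⟨γ₁, h₁⟩ := h₁
      obtain ⟨γ₂, h₂⟩ := h₂
      exact ⟨γ₁ + γ₂, fun x => by simp [h₁, h₂]⟩
    | monomial k c =>
      refine ⟨c • (α.comp (σ.comp ((d.comp σ : Module.End R C) ^ k))), fun x => ?_⟩
      rw [Polynomial.aeval_monomial, Module.End.mul_apply, Module.algebraMap_end_apply, map_smul, map_smul, hαw, hpow]
      rfl
  have hchar := LinearMap.aeval_self_charpoly w
  rw [← Polynomial.X_mul_divX_add w.charpoly] at hchar
  simp only [map_add, map_mul, Polynomial.aeval_X, Polynomial.aeval_C] at hchar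
  have hdet : IsUnit (w.charpoly.coeff 0) := by
    have h := hu
    rw [LinearMap.det_eq_sign_charpoly_coeff] at h
    exact isUnit_of_mul_isUnit_right h
  obtain ⟨c, hc⟩ := hdet
  obtain ⟨γ, hγ⟩ := key w.charpoly.divX
  refine ⟨-((↑c⁻¹ : R) • γ), LinearMap.ext fun x => ?_⟩
  have h0 := congrArg α (LinearMap.congr_fun hchar x)
  rw [LinearMap.add_apply, Module.End.mul_apply, Module.algebraMap_end_apply, map_add, map_smul, ← hc,
    LinearMap.zero_apply, map_zero, ← hγ] at h0
  show -((↑c⁻¹ : R) • γ (d x)) = α x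
  rw [eq_neg_of_add_eq_zero_left h0, smul_neg, neg_neg, smul_smul, Units.inv_mul, one_smul]

end Linear

theorem result {R : Type u} [CommRing R]
    (p : Ideal R) [p.IsPrime] [DRing.HasLBaseChange (algebraMap R p.ResidueField)] (i : ℤ) (K : DRing.Cx R)
    (hK : DRing.IsPseudoCoherent' R (DRing.toD K))
    (hi : Subsingleton (Dual.HD p.ResidueField ((DRing.LBaseChange (algebraMap R p.ResidueField)).obj (DRing.toD K)) i)) :
    ∃ f : R, f ∉ p ∧
      let Kf := DRing.toD (((ModuleCat.extendScalars (algebraMap R (Localization.Away f))).mapHomologicalComplex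
        (ComplexShape.up ℤ)).obj K)
      let t := (DerivedCategory.TStructure.t : Triangulated.TStructure (Dual.D (Localization.Away f)))
      let Kge := (t.truncGE (i + 1)).obj Kf
      let Klt := (t.truncLT i).obj Kf
      DRing.IsPerfect (Localization.Away f) Kge ∧
        (∃ b : ℤ, DRing.HasTorAmplitudeIn (Localization.Away f) (i + 1) b Kge) ∧
        ∀ [HasBinaryBiproduct Kge Klt], ∃ e : Kf ≅ Kge ⊞ Klt,
          e.hom ≫ biprod.fst = (t.truncGEπ (i + 1)).app Kf ∧ (t.truncLTι i).app Kf ≫ e.hom = biprod.inr := by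
  obtain ⟨E, b, hEb, hEf, ⟨eE⟩⟩ := hK
  haveI : ∀ j, Module.Free R (E.X j) := fun j => (hEf j).2
  haveI : ∀ j, Module.Finite R (E.X j) := fun j => (hEf j).1
  haveI : E.IsKProjective :=
    haveI : E.IsStrictlyLE b := (CochainComplex.isStrictlyLE_iff _ _).2 hEb
    haveI : ∀ j, Projective (E.X j) := fun j => (IsProjective.iff_projective _).1 Module.Projective.of_free
    CochainComplex.isKProjective_of_projective E b
  let κ := p.ResidueField
  have hexact : Function.Exact ((E.d (i - 1) i).hom.baseChange κ) ((E.d i (i + 1)).hom.baseChange κ) := by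
    have hz := (Groth.L10.DR.HH_iso_zero (((Groth.L02.PC.lbcIso (algebraMap R κ) E)).symm ≪≫
      (DRing.LBaseChange (algebraMap R κ)).mapIso eE) i).1 (haveI := hi
        ModuleCat.isZero_of_subsingleton ((DerivedCategory.homologyFunctor (ModuleCat.{u} κ) i).obj _))
    rw [Groth.L10.DR.isZero_homology_iff_exact _ (i - 1) i (i + 1) (by omega) rfl] at hz
    refine (Function.Exact.iff_of_ladder_addEquiv
      (Groth.L29.FlatBC.extEquiv R κ (E.X (i - 1))).toAddEquiv (Groth.L29.FlatBC.extEquiv R κ (E.X i)).toAddEquiv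
      (Groth.L29.FlatBC.extEquiv R κ (E.X (i + 1))).toAddEquiv
      (f₁₂ := ((((Groth.L29.FlatBC.ext R κ).mapHomologicalComplex (ComplexShape.up ℤ)).obj E).d (i - 1) i).hom.toAddMonoidHom)
      (f₂₃ := ((((Groth.L29.FlatBC.ext R κ).mapHomologicalComplex (ComplexShape.up ℤ)).obj E).d i (i + 1)).hom.toAddMonoidHom)
      (g₁₂ := ((E.d (i - 1) i).hom.baseChange κ).toAddMonoidHom)
      (g₂₃ := ((E.d i (i + 1)).hom.baseChange κ).toAddMonoidHom) ?_ ?_).2 hz
    · exact AddMonoidHom.ext fun x => (Groth.L29.FlatBC.extEquiv_natural R κ (E.d (i - 1) i) x).symm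
    · exact AddMonoidHom.ext fun x => (Groth.L29.FlatBC.extEquiv_natural R κ (E.d i (i + 1)) x).symm
  obtain ⟨σ, τ, hu⟩ := exists_contraction p (E.d (i - 1) i).hom (E.d i (i + 1)).hom hexact
  refine ⟨_, hu, ?_⟩
  intro Kf t Kge Klt
  let L := Localization.Away (LinearMap.det (σ.comp (E.d i (i + 1)).hom + (E.d (i - 1) i).hom.comp τ))
  haveI : Module.Flat R L := IsLocalization.flat L (Submonoid.powers (LinearMap.det (σ.comp (E.d i (i + 1)).hom + (E.d (i - 1) i).hom.comp τ)))
  let F := Groth.L29.FlatBC.ext R L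
  let E' : DRing.Cx L := (F.mapHomologicalComplex (ComplexShape.up ℤ)).obj E
  let eK : DRing.toD E' ≅ Kf :=
    (F.mapDerivedCategoryFactors.app E).symm ≪≫ (Groth.L29.FlatBC.L R L).mapIso eE ≪≫ F.mapDerivedCategoryFactors.app K
  have hE'b : DRing.VanishesAbove E' b := fun j hj => F.map_isZero (hEb j hj)
  have hE'f : DRing.TermwiseFiniteFree E' := fun j =>
    ⟨Module.Finite.equiv (Groth.L29.FlatBC.extEquiv R L (E.X j)).symm,
      Module.Free.of_equiv (Groth.L29.FlatBC.extEquiv R L (E.X j)).symm⟩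
  haveI : E'.IsKProjective :=
    haveI : E'.IsStrictlyLE b := (CochainComplex.isStrictlyLE_iff _ _).2 hE'b
    haveI : ∀ j, Projective (E'.X j) := fun j =>
      haveI : Module.Free L (E'.X j) := (hE'f j).2
      (IsProjective.iff_projective (E'.X j)).1 (Module.Projective.of_free (R := L) (P := E'.X j))
    CochainComplex.isKProjective_of_projective E' b
  have hKb : ∃ b₀ : ℤ, ∀ j : ℤ, b₀ < j → Subsingleton (Dual.HD L Kf j) := ⟨b, fun j hj =>
    ModuleCat.subsingleton_of_isZero ((Groth.L10.DR.HH_iso_zero eK j).2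
      ((HomologicalComplex.exactAt_iff_isZero_homology _ j).1 (HomologicalComplex.ExactAt.of_isZero (hE'b j hj))))⟩
  have hvan : ∀ (M : Type u) [AddCommGroup M] [Module L M],
      Subsingleton (Kf ⟶ (shiftFunctor (Dual.D L) (-i)).obj (Dual.inD L M)) := by
    intro M _ _
    refine subsingleton_of_forall_eq 0 fun φ => ?_
    obtain ⟨α, rfl⟩ := Groth.L03.ExtPC.cls_surjective E' eK (-i) i (by omega) φ
    rw [Groth.L03.ExtPC.cls_eq_zero_iff]
    have hdet : IsUnit (LinearMap.det ((σ.baseChange L).comp ((E.d i (i + 1)).hom.baseChange L) +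
        ((E.d (i - 1) i).hom.baseChange L).comp (τ.baseChange L))) := by
      rw [← LinearMap.baseChange_comp, ← LinearMap.baseChange_comp, ← LinearMap.baseChange_add, LinearMap.det_baseChange]
      exact IsLocalization.Away.algebraMap_isUnit _
    let e := Groth.L29.FlatBC.extEquiv R L
    obtain ⟨β, hβ⟩ := exists_factor ((E.d (i - 1) i).hom.baseChange L) ((E.d i (i + 1)).hom.baseChange L)
      (by
        rw [← LinearMap.baseChange_comp, ← ModuleCat.hom_comp, E.d_comp_d]
        exact LinearMap.baseChange_zero)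
      (σ.baseChange L) (τ.baseChange L) hdet (α.1.comp (e (E.X i)).symm.toLinearMap)
      (LinearMap.ext fun x => by
        obtain ⟨y, rfl⟩ := (e (E.X (i - 1))).surjective x
        show α.1 ((e (E.X i)).symm ((E.d (i - 1) i).hom.baseChange L (e (E.X (i - 1)) y))) = 0
        rw [← Groth.L29.FlatBC.extEquiv_natural, LinearEquiv.symm_apply_apply]
        exact LinearMap.congr_fun α.2 y)
    refine ⟨β.comp (e (E.X (i + 1))).toLinearMap, LinearMap.ext fun y => ?_⟩
    have h := LinearMap.congr_fun hβ (e (E.X i) y)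
    show β (e (E.X (i + 1)) ((E'.d i (i + 1)).hom y)) = α.1 y
    refine (congrArg β (Groth.L29.FlatBC.extEquiv_natural R L (E.d i (i + 1)) y)).trans (h.trans ?_)
    show α.1 ((e (E.X i)).symm (e (E.X i) y)) = α.1 y
    rw [LinearEquiv.symm_apply_apply]
  haveI : HasBinaryBiproduct Klt Kge :=
    haveI : HasFiniteBiproducts (Dual.D L) := HasFiniteBiproducts.of_hasFiniteProducts
    inferInstance
  obtain ⟨⟨e, he1, he2⟩, P, c, hP, hPp, ⟨eP⟩⟩ := Groth.L10.SplitTrunc.of_vanishing Kf i hKb hvan
  have hamp : DRing.HasTorAmplitudeIn L (i + 1) c Kge :=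
    ⟨P, hP, fun j => haveI := hPp j; inferInstance, ⟨eP⟩⟩
  have hpc : DRing.IsPseudoCoherent' L (Klt ⊞ Kge) := ⟨E', b, hE'b, hE'f, ⟨eK ≪≫ e⟩⟩
  refine ⟨Groth.L10.DR.perfect_of_pc'_amp (Groth.L10.DR.pc'_biprod _ _ hpc).2 hamp, ⟨c, hamp⟩, ?_⟩
  intro _
  refine ⟨e ≪≫ biprod.braiding Klt Kge, ?_, ?_⟩
  · simpa using he2
  · show (t.truncLTι i).app Kf ≫ e.hom ≫ (biprod.braiding Klt Kge).hom = biprod.inr
    refine ((reassoc_of% he1) _).trans ?_
    ext <;> simp [biprod.braiding]
    all_goals first
      | exact (biprod.inl_fst (X := Klt) (Y := Kge)).trans (biprod.inr_snd (X := Kge) (Y := Klt)).symm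
      | exact (biprod.inl_snd (X := Klt) (Y := Kge)).trans (biprod.inr_fst (X := Kge) (Y := Klt)).symm

end Groth.L10.SplitAway
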