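import Groth.Agent.L00.ClassResLeft
import Groth.Agent.L03.ExtPC
import Groth.Agent.L10.DerTrunc
import Mathlib.Algebra.Category.ModuleCat.EnoughInjectives
import Mathlib.Algebra.Category.ModuleCat.Adjunctions
import Mathlib.Algebra.Homology.Embedding.CochainComplex

/-! Splitting of truncations in `D(R)` from vanishing of `Hom(K, M[-a])`. -/

universe u

open CategoryTheory CategoryTheory.Limits HomologicalComplex CategoryTheory.Pretriangulated

attribute [local instance] HasDerivedCategory.standard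

set_option backward.defeqAttrib.useBackward true
set_option backward.isDefEq.respectTransparency false
namespace Groth.L10.SplitTrunc

variable {R : Type u} [CommRing R]

local notation "tt" => DerivedCategory.TStructure.t

theorem isGE_inD_shift (M : Type u) [AddCommGroup M] [Module R M] (a : ℤ) :
    DerivedCategory.IsGE ((Dual.inD R M)⟦(-a)⟧) a :=
  have : DerivedCategory.IsGE (Dual.inD R M) 0 :=
    inferInstanceAs (DerivedCategory.IsGE ((DerivedCategory.singleFunctor (ModuleCat.{u} R) 0).obj _) 0)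
  (tt).isGE_shift (Dual.inD R M) 0 (-a) a (by omega)

theorem exists_rep (B : Dual.D R) (b : ℤ) [B.IsLE b] :
    ∃ P : DRing.Cx R, P.IsStrictlyLE b ∧ P.IsKProjective ∧ (∀ i, Projective (P.X i)) ∧
      Nonempty (DerivedCategory.Q.obj P ≅ B) := by
  obtain ⟨K₀, hK₀, ⟨e⟩⟩ := DerivedCategory.exists_iso_Q_obj_of_isLE B b
  obtain ⟨P, α, hP, hPf, -, hq⟩ := Groth.L00.ClassResLeft.exists_res
    (fun Y : ModuleCat.{u} R => Module.Free R Y)
    ⟨ModuleCat.of R PUnit.{u + 1}, ModuleCat.isZero_of_subsingleton _, inferInstance⟩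
    (fun X => ⟨ModuleCat.of R (X →₀ R), ModuleCat.ofHom (Finsupp.linearCombination R id), inferInstance,
      (ModuleCat.epi_iff_surjective _).2 fun x => ⟨Finsupp.single x 1, by simp⟩⟩) K₀ b
  have hp : ∀ i, Projective (P.X i) := fun i =>
    have := hPf i
    (IsProjective.iff_projective _).1 (Module.Projective.of_free (R := R) (P := P.X i))
  refine ⟨P, hP, CochainComplex.isKProjective_of_projective P b, hp, ⟨?_⟩⟩
  exact asIso (DerivedCategory.Q.map α) ≪≫ e.symm

theorem isZero_homology_of_isGE {B : Dual.D R} {P : DRing.Cx R} (e : DerivedCategory.Q.obj P ≅ B) (a i : ℤ)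
    [B.IsGE a] (hi : i < a) : IsZero (P.homology i) :=
  (DerivedCategory.isZero_of_isGE B a i hi).of_iso
    (((DerivedCategory.homologyFunctorFactors (ModuleCat.{u} R) i).app P).symm ≪≫
      (DerivedCategory.homologyFunctor (ModuleCat.{u} R) i).mapIso e)

theorem mono_fromOpcycles_of_isZero (P : DRing.Cx R) (i j : ℤ) (hij : i + 1 = j) (h : IsZero (P.homology i)) :
    Mono (P.fromOpcycles i j) := by
  subst hij
  refine Preadditive.mono_of_cancel_zero _ fun {Z} g hg => ?_
  have h2 := (P.homologyIsKernel i (i + 1) (by simp)).fac (KernelFork.ofι g hg) WalkingParallelPair.zero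
  refine h2.symm.trans ?_
  simp [h.eq_of_src (P.homologyι i) 0]

theorem zero_to_injective (B : Dual.D R) (a b : ℤ) [B.IsLE b] [B.IsGE (a + 1)] (I : ModuleCat.{u} R) [Injective I]
    (x : B ⟶ (Dual.inD R I)⟦(-a)⟧) : x = 0 := by
  obtain ⟨P, hP, hK, hp, ⟨e⟩⟩ := exists_rep B b
  obtain ⟨α, rfl⟩ := Groth.L03.ExtPC.cls_surjective P e (-a) a (by omega) (M := I) x
  rw [Groth.L03.ExtPC.cls_eq_zero_iff]
  have := mono_fromOpcycles_of_isZero P a (a + 1) rfl (isZero_homology_of_isGE e (a + 1) a (by omega))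
  let g : P.opcycles a ⟶ I := P.descOpcycles (ModuleCat.ofHom α.1) (a - 1) (by simp) (ModuleCat.hom_ext α.2)
  refine ⟨(Injective.factorThru g (P.fromOpcycles a (a + 1))).hom, ?_⟩
  have : P.d a (a + 1) ≫ Injective.factorThru g (P.fromOpcycles a (a + 1)) = ModuleCat.ofHom α.1 := by
    rw [← p_fromOpcycles, Category.assoc, Injective.comp_factorThru, p_descOpcycles]
  exact congrArg ModuleCat.Hom.hom this

theorem core (B : Dual.D R) (a b : ℤ) [B.IsLE b] [B.IsGE a]
    (h : ∀ (M : Type u) [AddCommGroup M] [Module R M] (x : B ⟶ (Dual.inD R M)⟦(-a)⟧), x = 0) :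
    B.IsGE (a + 1) ∧ (∀ Y : Dual.D R, Y.IsLE a → ∀ f : B ⟶ Y, f = 0) ∧
      ∃ P : DRing.Cx R, DRing.VanishesOutside P (a + 1) b ∧ (∀ i : ℤ, Module.Projective R (P.X i)) ∧
        Nonempty (DRing.toD P ≅ B) := by
  obtain ⟨P, hP, hK, hp, ⟨e⟩⟩ := exists_rep B b
  let α : Groth.L03.ExtPC.Z P a (P.opcycles a) :=
    ⟨(P.pOpcycles a).hom, congrArg ModuleCat.Hom.hom (P.d_pOpcycles (a - 1) a)⟩
  obtain ⟨β, hβ⟩ := (Groth.L03.ExtPC.cls_eq_zero_iff P e (-a) a (by omega) α).1 (h _ _)
  have hd : P.d a (a + 1) ≫ ModuleCat.ofHom β = P.pOpcycles a := ModuleCat.hom_ext hβ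
  have hsplit : P.fromOpcycles a (a + 1) ≫ ModuleCat.ofHom β = 𝟙 _ := by
    rw [← cancel_epi (P.pOpcycles a), p_fromOpcycles_assoc, Category.comp_id, hd]
  have hza : IsZero (P.homology a) := by
    rw [IsZero.iff_id_eq_zero, ← cancel_mono (P.homologyι a), zero_comp, Category.id_comp,
      ← Category.comp_id (P.homologyι a), ← hsplit, homologyι_comp_fromOpcycles_assoc, zero_comp]
  have hB : B.IsGE (a + 1) := (DerivedCategory.isGE_iff B (a + 1)).2 fun i hi => by
    by_cases hi' : i = a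
    · subst hi'
      exact hza.of_iso ((DerivedCategory.homologyFunctor (ModuleCat.{u} R) i).mapIso e.symm ≪≫
        (DerivedCategory.homologyFunctorFactors (ModuleCat.{u} R) i).app P)
    · exact DerivedCategory.isZero_of_isGE B a i (by omega)
  have : P.IsGE (a + 1) := (CochainComplex.isGE_iff _ _).2 fun i hi =>
    (exactAt_iff_isZero_homology _ _).2 (isZero_homology_of_isGE e (a + 1) i hi)
  have hop : Projective (P.opcycles (a + 1)) := by
    refine Retract.projective (Y := P.X (a + 1))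
      ⟨P.descOpcycles (𝟙 _ - ModuleCat.ofHom β ≫ P.fromOpcycles a (a + 1)) a (by simp) ?_, P.pOpcycles (a + 1), ?_⟩
    · rw [Preadditive.comp_sub, Category.comp_id, reassoc_of% hd, p_fromOpcycles, sub_self]
    · have hz : P.fromOpcycles a (a + 1) ≫ P.pOpcycles (a + 1) = 0 := by
        rw [← cancel_epi (P.pOpcycles a), p_fromOpcycles_assoc, d_pOpcycles, comp_zero]
      rw [← cancel_epi (P.pOpcycles (a + 1)), p_descOpcycles_assoc, Preadditive.sub_comp, Category.id_comp,
        Category.assoc, hz, comp_zero, sub_zero, Category.comp_id]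
  let T := P.truncGE (a + 1)
  have hT : ∀ i, Projective (T.X i) := fun i => by
    rcases lt_trichotomy i (a + 1) with hi | hi | hi
    · exact (T.isZero_of_isStrictlyGE (a + 1) i hi).projective
    · subst hi; exact Projective.of_iso (P.truncGEXIsoOpcycles (a + 1)).symm hop
    · exact Projective.of_iso (P.truncGEXIso (a + 1) i hi).symm (hp i)
  have hTb : ∀ i, b < i → IsZero (T.X i) := fun i hi => by
    rcases lt_trichotomy i (a + 1) with h' | h' | h'
    · exact T.isZero_of_isStrictlyGE (a + 1) i h'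
    · subst h'
      have hzX := P.isZero_of_isStrictlyLE b (a + 1) hi
      refine IsZero.of_iso ?_ (P.truncGEXIsoOpcycles (a + 1))
      rw [IsZero.iff_id_eq_zero, ← cancel_epi (P.pOpcycles (a + 1))]
      exact hzX.eq_of_src _ _
    · exact (P.isZero_of_isStrictlyLE b i hi).of_iso (P.truncGEXIso (a + 1) i h')
  let eT : DerivedCategory.Q.obj T ≅ B := (asIso (DerivedCategory.Q.map (P.πTruncGE (a + 1)))).symm ≪≫ e
  refine ⟨hB, ?_, T, fun i hi => hi.elim (fun h => T.isZero_of_isStrictlyGE (a + 1) i h) (hTb i),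
    fun i => (IsProjective.iff_projective _).2 (hT i), ⟨eT⟩⟩
  intro Y hY f
  have : T.IsStrictlyLE b := (CochainComplex.isStrictlyLE_iff _ _).2 hTb
  have := CochainComplex.isKProjective_of_projective T b
  obtain ⟨Y₀, hY₀, ⟨eY⟩⟩ := DerivedCategory.exists_iso_Q_obj_of_isLE Y a
  obtain ⟨g, hg⟩ := Groth.L03.ExtPC.Q_map_surjective (eT.hom ≫ f ≫ eY.hom)
  have hg0 : g = 0 := by
    ext1 i
    by_cases hi : i ≤ a
    · exact (T.isZero_of_isStrictlyGE (a + 1) i (by omega)).eq_of_src _ _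
    · exact (Y₀.isZero_of_isStrictlyLE a i (by omega)).eq_of_tgt _ _
  rw [hg0, Functor.map_zero] at hg
  rw [← cancel_epi eT.hom, ← cancel_mono eY.hom]
  simpa using hg.symm

theorem eq0 {Y Z : Dual.D R} (m k : ℤ) (hmk : m < k) (hY : (tt).IsLE Y m) (hZ : (tt).IsGE Z k) (f : Y ⟶ Z) : f = 0 :=
  (tt).zero f m k hmk

variable (K : Dual.D R)

theorem precomp_injective (n a : ℤ) (hna : n ≤ a + 1) (M : Type u) [AddCommGroup M] [Module R M]
    (x : ((tt).truncGE n).obj K ⟶ (Dual.inD R M)⟦(-a)⟧) (hx : ((tt).truncGEπ n).app K ≫ x = 0) : x = 0 := by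
  obtain ⟨χ, hχ⟩ := Triangle.yoneda_exact₃ _ ((tt).triangleLTGE_distinguished n K) x hx
  have : DerivedCategory.IsLE (((tt).truncLT n).obj K) (n - 1) := inferInstance
  have hle : (tt).IsLE ((((tt).truncLT n).obj K)⟦(1 : ℤ)⟧) (n - 2) :=
    (tt).isLE_shift (((tt).truncLT n).obj K) (n - 1) 1 (n - 2) (by omega)
  have hge : (tt).IsGE ((Dual.inD R M)⟦(-a)⟧) a := isGE_inD_shift M a
  have : χ = 0 := eq0 (n - 2) a (by omega) hle hge χ
  rw [hχ, this, comp_zero]

theorem isLE_truncGE (b n : ℤ) [K.IsLE b] : DerivedCategory.IsLE (((tt).truncGE n).obj K) (max b (n - 1)) := by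
  rw [DerivedCategory.isLE_iff]
  intro i hi
  have h1 : n ≤ i := by omega
  have := Groth.L10.isIso_H_π n i h1 K
  exact (DerivedCategory.isZero_of_isLE K b i (by omega)).of_iso
    (asIso ((DerivedCategory.homologyFunctor (ModuleCat.{u} R) i).map (((tt).truncGEπ n).app K))).symm

theorem isLE_of_bound (hKb : ∃ b : ℤ, ∀ i : ℤ, b < i → Subsingleton (Dual.HD R K i)) : ∃ b, K.IsLE b :=
  let ⟨b, hb⟩ := hKb
  ⟨b, (DerivedCategory.isLE_iff K b).2 fun i hi => ModuleCat.isZero_of_iff_subsingleton.2 (hb i hi)⟩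

/-- The conclusion: the truncation triangle at `n` splits and the upper part is projective. -/
def Concl (n a : ℤ) [HasBinaryBiproduct (((tt).truncLT n).obj K) (((tt).truncGE (a + 1)).obj K)] : Prop :=
    (∃ e : K ≅ ((tt).truncLT n).obj K ⊞ ((tt).truncGE (a + 1)).obj K,
      ((tt).truncLTι n).app K ≫ e.hom = biprod.inl ∧
        e.hom ≫ biprod.snd = ((tt).truncGEπ (a + 1)).app K) ∧
      ∃ (P : DRing.Cx R) (b : ℤ), DRing.VanishesOutside P (a + 1) b ∧ (∀ i : ℤ, Module.Projective R (P.X i)) ∧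
        Nonempty (DRing.toD P ≅ ((tt).truncGE (a + 1)).obj K)

theorem split_of_core (n : ℤ) (h : ∀ f : ((tt).truncGE n).obj K ⟶ (((tt).truncLT n).obj K)⟦(1 : ℤ)⟧, f = 0) :
    ∃ e : K ≅ ((tt).truncLT n).obj K ⊞ ((tt).truncGE n).obj K,
      ((tt).truncLTι n).app K ≫ e.hom = biprod.inl ∧ e.hom ≫ biprod.snd = ((tt).truncGEπ n).app K := by
  obtain ⟨e, h1, h2⟩ := exists_iso_binaryBiproduct_of_distTriang _ ((tt).triangleLTGE_distinguished n K) (h _)
  exact ⟨e, h1, h2.symm⟩

theorem of_injective (a : ℤ) (hKb : ∃ b : ℤ, ∀ i : ℤ, b < i → Subsingleton (Dual.HD R K i))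
    (h : ∀ (M M' : Type u) [AddCommGroup M] [Module R M] [AddCommGroup M'] [Module R M'] (g : M →ₗ[R] M'),
      Function.Injective g → Function.Injective (fun x : K ⟶ (shiftFunctor (Dual.D R) (-a)).obj (Dual.inD R M) =>
        x ≫ (shiftFunctor (Dual.D R) (-a)).map
          ((DerivedCategory.singleFunctor (ModuleCat.{u} R) 0).map (ModuleCat.ofHom g)))) :
    Concl K (a + 1) a := by
  obtain ⟨b₀, hb⟩ := isLE_of_bound K hKb
  let B := ((tt).truncGE (a + 1)).obj K
  have hGE : DerivedCategory.IsGE B (a + 1) := inferInstance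
  have hGE' : DerivedCategory.IsGE B a := (tt).isGE_of_ge B a (a + 1)
  have := isLE_truncGE K b₀ (a + 1)
  obtain ⟨-, hY, P, hP1, hP2, hP3⟩ := core B a (max b₀ (a + 1 - 1)) fun M _ _ x => by
    refine precomp_injective K (a + 1) a le_rfl M x ?_
    let I := Injective.under (ModuleCat.of R M)
    refine h M I (Injective.ι (ModuleCat.of R M)).hom ((ModuleCat.mono_iff_injective _).1 inferInstance) ?_
    change _ ≫ _ = (0 : K ⟶ _) ≫ _
    rw [zero_comp, Category.assoc]
    refine (congrArg (((tt).truncGEπ (a + 1)).app K ≫ ·) ?_).trans comp_zero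
    exact zero_to_injective B a (max b₀ (a + 1 - 1)) I _
  refine ⟨split_of_core K (a + 1) fun f => hY _ ?_ f, P, _, hP1, hP2, hP3⟩
  have : DerivedCategory.IsLE (((tt).truncLT (a + 1)).obj K) a := inferInstance
  have h2 : (tt).IsLE ((((tt).truncLT (a + 1)).obj K)⟦(1 : ℤ)⟧) (a - 1) :=
    (tt).isLE_shift (((tt).truncLT (a + 1)).obj K) a 1 (a - 1) (by omega)
  exact (tt).isLE_of_le _ (a - 1) a

theorem of_vanishing (a : ℤ) (hKb : ∃ b : ℤ, ∀ i : ℤ, b < i → Subsingleton (Dual.HD R K i))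
    (h : ∀ (M : Type u) [AddCommGroup M] [Module R M],
      Subsingleton (K ⟶ (shiftFunctor (Dual.D R) (-a)).obj (Dual.inD R M))) :
    Concl K a a := by
  obtain ⟨b₀, hb⟩ := isLE_of_bound K hKb
  let B := ((tt).truncGE a).obj K
  have hGE : DerivedCategory.IsGE B a := inferInstance
  have := isLE_truncGE K b₀ a
  obtain ⟨hB, hY, P, hP1, hP2, ⟨eP⟩⟩ := core B a (max b₀ (a - 1)) fun M _ _ x =>
    precomp_injective K a a (by omega) M x ((h M).elim _ _)
  have hge : (tt).IsGE B (a + 1) := hB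
  let C := ((tt).truncGE (a + 1)).obj K
  have hgC : (tt).IsGE C a := (tt).isGE_of_ge C a (a + 1)
  let u : B ⟶ C := (tt).descTruncGE (((tt).truncGEπ (a + 1)).app K) a
  let v : C ⟶ B := (tt).descTruncGE (((tt).truncGEπ a).app K) (a + 1)
  have hu : ((tt).truncGEπ a).app K ≫ u = ((tt).truncGEπ (a + 1)).app K := (tt).π_descTruncGE _ a
  have hv : ((tt).truncGEπ (a + 1)).app K ≫ v = ((tt).truncGEπ a).app K := (tt).π_descTruncGE _ (a + 1)
  let i : B ≅ C := ⟨u, v, (tt).from_truncGE_obj_ext (by rw [reassoc_of% hu, hv]; exact (Category.comp_id _).symm),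
    (tt).from_truncGE_obj_ext (by rw [reassoc_of% hv, hu]; exact (Category.comp_id _).symm)⟩
  obtain ⟨e, he1, he2⟩ := split_of_core K a fun f => hY _ (by
    have : DerivedCategory.IsLE (((tt).truncLT a).obj K) (a - 1) := inferInstance
    have h2 : (tt).IsLE ((((tt).truncLT a).obj K)⟦(1 : ℤ)⟧) (a - 2) :=
      (tt).isLE_shift (((tt).truncLT a).obj K) (a - 1) 1 (a - 2) (by omega)
    exact (tt).isLE_of_le _ (a - 2) a) f
  refine ⟨⟨e ≪≫ biprod.mapIso (Iso.refl _) i, ?_, ?_⟩, P, _, hP1, hP2, ⟨eP ≪≫ i⟩⟩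
  · simp [reassoc_of% he1]
  · simp [← hu, reassoc_of% he2, i]

end Groth.L10.SplitTrunc
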