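import Groth.Agent.L10.DRing.AmpTest
import Groth.Agent.L10.DRing.Modules
import Groth.Agent.L29.PerfPC
import Groth.Agent.L02.PC.Coherent
import Mathlib.RingTheory.TensorProduct.Finite
import Mathlib.Data.Int.Interval
import Mathlib.RingTheory.Finiteness.Basic

/-! Tensor products of complexes of finite projective modules. -/

universe u

open CategoryTheory CategoryTheory.Limits MonoidalCategory
open scoped TensorProduct DirectSum

attribute [local instance] HasDerivedCategory.standard

set_option backward.defeqAttrib.useBackward true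
set_option backward.isDefEq.respectTransparency false

namespace Groth.L10.TensorFinite

open Groth.L10.DR

variable {A : Type u} [CommRing A]

/-- one degree of a tensor product with finitely many summands is a retract of their sum -/
theorem finProj_X (X Y : DRing.Cx A) (n : ℤ) (s : Finset ℤ)
    (hs : ∀ p, p ∉ s → IsZero (X.X p) ∨ IsZero (Y.X (n - p)))
    (hX : DRing.TermwiseFiniteProjective X) (hY : DRing.TermwiseFiniteProjective Y) :
    Module.Finite A ((X ⊗ Y).X n) ∧ Module.Projective A ((X ⊗ Y).X n) := by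
  classical
  let T : {p // p ∈ s} → Type u := fun p => X.X p.1 ⊗[A] Y.X (n - p.1)
  have hF : ∀ p, Module.Finite A (T p) := fun p =>
    have := (hX p.1).1; have := (hY (n - p.1)).1; inferInstance
  have hP : ∀ p, Module.Projective A (T p) := fun p =>
    have := (hX p.1).2; have := (hY (n - p.1)).2; inferInstance
  let f : (X ⊗ Y).X n ⟶ ModuleCat.of A (⨁ p, T p) :=
    HomologicalComplex.mapBifunctorDesc fun p q h =>
      if hp : p ∈ s then
        ((curriedTensor (ModuleCat.{u} A)).obj (X.X p)).map (Y.XIsoOfEq (show q = n - p by dsimp at h; omega)).hom ≫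
          ModuleCat.ofHom (DirectSum.lof A {p // p ∈ s} T ⟨p, hp⟩)
      else 0
  let g : ModuleCat.of A (⨁ p, T p) ⟶ (X ⊗ Y).X n :=
    ModuleCat.ofHom (DirectSum.toModule A _ _ fun p =>
      (HomologicalComplex.ιMapBifunctor X Y (curriedTensor (ModuleCat.{u} A)) (ComplexShape.up ℤ) p.1 (n - p.1) n
        (show p.1 + (n - p.1) = n by omega)).hom)
  have hfg : f ≫ g = 𝟙 _ := by
    refine HomologicalComplex.mapBifunctor.hom_ext fun p q h => ?_
    rw [HomologicalComplex.ι_mapBifunctorDesc_assoc]
    have hq : q = n - p := by dsimp at h; omega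
    subst hq
    by_cases hp : p ∈ s
    · rw [dif_pos hp]
      erw [Category.comp_id]
      simp only [HomologicalComplex.XIsoOfEq_rfl, Iso.refl_hom, CategoryTheory.Functor.map_id, Category.id_comp]
      refine ModuleCat.hom_ext (LinearMap.ext fun x => ?_)
      simp only [g, ModuleCat.hom_comp, ModuleCat.hom_ofHom, LinearMap.comp_apply]
      exact DirectSum.toModule_lof A (M := T) (⟨p, hp⟩ : {p // p ∈ s}) x
    · rw [dif_neg hp, zero_comp]
      erw [Category.comp_id]
      rcases hs p hp with hz | hz
      · exact ((((curriedTensor (ModuleCat.{u} A)).flip.obj (Y.X (n - p))).map_isZero hz)).eq_of_src _ _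
      · exact ((((curriedTensor (ModuleCat.{u} A)).obj (X.X p)).map_isZero hz)).eq_of_src _ _
  have hfg' : g.hom ∘ₗ f.hom = LinearMap.id := congrArg ModuleCat.Hom.hom hfg
  have : Module.Finite A (⨁ p, T p) := Module.Finite.equiv (DirectSum.linearEquivFunOnFintype A _ T).symm
  have : Module.Finite A (ModuleCat.of A (⨁ p, T p)) := this
  refine ⟨Module.Finite.of_surjective g.hom fun x => ⟨f.hom x, LinearMap.congr_fun hfg' x⟩, ?_⟩
  exact Module.Projective.of_split f.hom g.hom hfg'

theorem isPerfect_tensor {X Y : DRing.Cx A} {a b c d : ℤ} (hX : DRing.VanishesOutside X a b)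
    (hY : DRing.VanishesOutside Y c d) (hXp : DRing.TermwiseFiniteProjective X)
    (hYp : DRing.TermwiseFiniteProjective Y) : DRing.IsPerfect A (DRing.toD (X ⊗ Y)) := by
  refine ⟨X ⊗ Y, a + c, b + d, fun i hi => AmpTest.isZero_tensor_X _ _ i fun p q hpq => ?_,
    fun i => finProj_X X Y i (Finset.Icc a b) (fun p hp => Or.inl (hX p ?_)) hXp hYp, ⟨Iso.refl _⟩⟩
  · by_cases hp : p < a ∨ b < p
    · exact Or.inl (hX p hp)
    · exact Or.inr (hY q (by omega))
  · simp only [Finset.mem_Icc] at hp; omega

theorem pc_single_finProj (M : ModuleCat.{u} A) (h : Module.Finite A M ∧ Module.Projective A M) (i m : ℤ) :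
    DRing.IsPseudoCoherent A m (single i M) := by
  refine pc_single i m ?_
  refine Groth.L02.PC.pc_of_pc' (Groth.L29.PerfPC.isPseudoCoherent'_of_isPerfect ?_) _
  refine ⟨(HomologicalComplex.single (ModuleCat.{u} A) (ComplexShape.up ℤ) 0).obj M, 0, 0,
    fun j hj => HomologicalComplex.isZero_single_obj_X _ _ _ _ (by omega), fun j => ?_,
    ⟨((DerivedCategory.singleFunctorIsoCompQ (ModuleCat.{u} A) 0).app M).symm⟩⟩
  by_cases hj : j = 0
  · subst hj
    have e := (HomologicalComplex.singleObjXSelf (ComplexShape.up ℤ) (0 : ℤ) M).toLinearEquiv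
    have := h.1; have := h.2
    exact ⟨Module.Finite.equiv e.symm, Module.Projective.of_equiv e.symm⟩
  · have := ModuleCat.subsingleton_of_isZero
      (HomologicalComplex.isZero_single_obj_X (ComplexShape.up ℤ) (0 : ℤ) M j hj)
    exact ⟨inferInstance, inferInstance⟩

theorem isPseudoCoherent'_tensor {X Y : DRing.Cx A} {b d : ℤ} (hX : DRing.VanishesAbove X b)
    (hY : DRing.VanishesAbove Y d) (hXp : DRing.TermwiseFiniteProjective X)
    (hYp : DRing.TermwiseFiniteProjective Y) : DRing.IsPseudoCoherent' A (DRing.toD (X ⊗ Y)) := by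
  refine Groth.L02.PC.pc'_of_forall fun m => pc_of_terms m _ (b + d) (fun i hi => ?_) fun i _ => ?_
  · refine AmpTest.isZero_tensor_X _ _ i fun p q hpq => ?_
    by_cases hp : b < p
    · exact Or.inl (hX p hp)
    · exact Or.inr (hY q (by omega))
  · refine pc_single_finProj _ (finProj_X X Y i (Finset.Icc (i - d) b) (fun p hp => ?_) hXp hYp) i m
    simp only [Finset.mem_Icc] at hp
    by_cases hp' : b < p
    · exact Or.inl (hX p hp')
    · exact Or.inr (hY _ (by omega))

/-- the derived tensor product of two represented objects -/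
theorem LTensorCx_iso {K : Dual.D A} (L : DRing.Cx A) [DRing.HasLTensorCx A L] {P Q : DRing.Cx A}
    (hP : DRing.IsKFlat A P) (eP : DRing.toD P ≅ K) (eQ : DRing.toD Q ≅ DRing.toD L) :
    Nonempty ((DRing.LTensorCx A L).obj K ≅ DRing.toD (Q ⊗ P)) := by
  obtain ⟨e1⟩ := AmpTest.compute L hP eP
  obtain ⟨e2⟩ := AmpTest.test_congr eQ.symm hP
  exact ⟨e1 ≪≫ DerivedCategory.Q.mapIso (_root_.DTen.braidCx P L) ≪≫ e2⟩

theorem flat_of_finProj {X : DRing.Cx A} (h : DRing.TermwiseFiniteProjective X) : DRing.TermwiseFlat X :=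
  fun i => haveI := (h i).2; inferInstance

theorem finProj_of_finFree {X : DRing.Cx A} (h : DRing.TermwiseFiniteFree X) : DRing.TermwiseFiniteProjective X :=
  fun i => ⟨(h i).1, haveI := (h i).2; inferInstance⟩

end Groth.L10.TensorFinite
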