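import Groth.Agent.L10.DRing.AmpTest
import Groth.Agent.L07.Syzygy

/-! Truncations of K-flat complexes with flat terms. -/

universe u

open CategoryTheory CategoryTheory.Limits MonoidalCategory

attribute [local instance] HasDerivedCategory.standard

set_option backward.defeqAttrib.useBackward true
set_option backward.isDefEq.respectTransparency false

namespace Groth.L10.TorLowerBound

open Groth.L10.KFlat

variable {A : Type u} [CommRing A]

theorem mono_π_f (P : DRing.Cx A) (a i : ℤ) (hi : a < i) : Mono ((P.πTruncGE a).f i) := by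
  have h : (ComplexShape.embeddingUpIntGE a).f (i - a).natAbs = i := by
    dsimp; rw [Int.natAbs_of_nonneg (by omega)]; omega
  have hb : ¬ (ComplexShape.embeddingUpIntGE a).BoundaryGE (i - a).natAbs := by
    rw [ComplexShape.boundaryGE_embeddingUpIntGE_iff]; omega
  have := P.isIso_restrictionToTruncGE' (ComplexShape.embeddingUpIntGE a) _ hb
  have : IsIso ((P.πTruncGE a).f i) := by
    dsimp [CochainComplex.πTruncGE, HomologicalComplex.πTruncGE]
    rw [(ComplexShape.embeddingUpIntGE a).isIso_liftExtend_f_iff _ _ h]
    infer_instance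
  infer_instance

theorem flat_of_shortExact {S : ShortComplex (ModuleCat.{u} A)} (hS : S.ShortExact)
    (h2 : Module.Flat A S.X₂) (h3 : Module.Flat A S.X₃) : Module.Flat A S.X₁ := by
  have := Groth.L07.FlatDescent.flat_ker S.g.hom hS.moduleCat_surjective_g
  have he : LinearMap.range S.f.hom = LinearMap.ker S.g.hom :=
    (LinearMap.exact_iff.1 ((ShortComplex.ShortExact.moduleCat_exact_iff_function_exact _).1 hS.exact)).symm
  exact Module.Flat.of_linearEquiv ((LinearEquiv.ofInjective S.f.hom hS.moduleCat_injective_f).trans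
    (LinearEquiv.ofEq _ _ he))

theorem isKFlat_truncGE {P : DRing.Cx A} (hP : DRing.IsKFlat A P) (hf : DRing.TermwiseFlat P) (a : ℤ)
    (h : Groth.L10.DR.TZ P (a - 1)) : DRing.IsKFlat A (P.truncGE a) := by
  have hT := Groth.L10.DR.flat_truncGE hf a h
  let S : ShortComplex (DRing.Cx A) := ShortComplex.mk (kernel.ι (P.πTruncGE a)) (P.πTruncGE a) (kernel.condition _)
  have hS : S.ShortExact :=
    { exact := S.exact_of_f_is_kernel (kernelIsKernel _)
      epi_g := inferInstanceAs (Epi (HomologicalComplex.πTruncGE P (ComplexShape.embeddingUpIntGE a))) }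
  have hSi : ∀ i, (S.map (HomologicalComplex.eval _ _ i)).ShortExact := fun i =>
    hS.map_of_exact (HomologicalComplex.eval (ModuleCat.{u} A) (ComplexShape.up ℤ) i)
  refine (two_of_three_flat hS hT).1 (of_bounded _ a (fun i hi => ?_)
    (fun i => flat_of_shortExact (hSi i) (hf i) (hT i))) hP
  have := mono_π_f P a i hi
  have := (hSi i).mono_f
  exact IsZero.of_mono_eq_zero (S.map (HomologicalComplex.eval _ _ i)).f
    ((cancel_mono ((P.πTruncGE a).f i)).1
      ((S.map (HomologicalComplex.eval _ _ i)).zero.trans zero_comp.symm))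

end Groth.L10.TorLowerBound
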