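import Groth.Agent.L10.DRing.DualCx
import Groth.Agent.L02.PC.Cone
import Groth.Agent.L02.PC.BaseChange
import Groth.Agent.L29.Dual.FlatBC
import Groth.Agent.L00.ConeTransfer
import Mathlib.Algebra.Homology.HomotopyCategory.Pretriangulated
import Mathlib.RingTheory.Localization.Free
import Mathlib.RingTheory.LocalRing.Module
import Mathlib.Data.Int.Interval
import Mathlib.Algebra.Category.ModuleCat.Abelian
import Mathlib.CategoryTheory.Preadditive.AdditiveFunctor
import Mathlib.CategoryTheory.Limits.Preserves.Shapes.Biproducts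

/-! Homotopy equivalent bounded complexes differ by trivial summands. -/

set_option autoImplicit false

universe u

open CategoryTheory CategoryTheory.Limits CochainComplex CochainComplex.HomComplex
open scoped TensorProduct

attribute [local instance] HasDerivedCategory.standard

set_option backward.defeqAttrib.useBackward true
set_option backward.isDefEq.respectTransparency false
set_option backward.isDefEq.respectTransparency.types false

namespace Groth.L10.TrivialSummand

section Stable

variable {R : Type u} [CommRing R] {M N : DRing.Cx R} (φ : M ⟶ N) (g : N ⟶ M) (h : Homotopy (φ ≫ g) (𝟙 M))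

/-- `cone(𝟙) → M` -/
noncomputable def u : mappingCone (𝟙 M) ⟶ M :=
  mappingCone.desc (𝟙 M) (Cochain.ofHomotopy h) (φ ≫ g - 𝟙 M) (by
    rw [δ_ofHomotopy, Category.id_comp, Cochain.ofHom_sub])

/-- `cone(𝟙) → cone(φ)` -/
noncomputable def v : mappingCone (𝟙 M) ⟶ mappingCone φ :=
  mappingCone.desc (𝟙 M) (mappingCone.inl φ) (φ ≫ mappingCone.inr φ) (by
    rw [mappingCone.δ_inl, Category.id_comp])

/-- `cone(φ) → cone(𝟙)` -/
noncomputable def s : mappingCone φ ⟶ mappingCone (𝟙 M) :=
  mappingCone.desc φ (mappingCone.inl (𝟙 M) +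
      (Cochain.ofHomotopy h).comp (Cochain.ofHom (mappingCone.inr (𝟙 M))) (add_zero (-1)))
    (g ≫ mappingCone.inr (𝟙 M)) (by
    rw [δ_add, δ_comp_ofHom, mappingCone.δ_inl, δ_ofHomotopy, Category.id_comp, Cochain.sub_comp,
      ← Cochain.ofHom_comp, ← Cochain.ofHom_comp, Category.id_comp, Category.assoc, add_sub_cancel])

/-- `cone(φ) → N` -/
noncomputable def t : mappingCone φ ⟶ N :=
  mappingCone.desc φ (-(Cochain.ofHomotopy h).comp (Cochain.ofHom φ) (add_zero (-1))) (𝟙 N - g ≫ φ) (by
    rw [δ_neg, δ_comp_ofHom, δ_ofHomotopy, Cochain.sub_comp, ← Cochain.ofHom_comp, ← Cochain.ofHom_comp,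
      neg_sub, Category.id_comp, Category.assoc, Preadditive.comp_sub, Category.comp_id, Cochain.ofHom_sub])

/-- the stabilised isomorphism -/
noncomputable def stableIso : N ⊞ mappingCone (𝟙 M) ≅ M ⊞ mappingCone φ where
  hom := biprod.desc (biprod.lift g (mappingCone.inr φ)) (biprod.lift (u φ g h) (v φ))
  inv := biprod.desc (biprod.lift φ (-mappingCone.inr (𝟙 M))) (biprod.lift (t φ g h) (s φ g h))
  hom_inv_id := by
    refine biprod.hom_ext' _ _ ?_ ?_ <;> refine biprod.hom_ext _ _ ?_ ?_ <;>
      simp only [biprod.inl_desc_assoc, biprod.inr_desc_assoc, biprod.lift_desc, Category.assoc,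
        Category.comp_id, Preadditive.add_comp, biprod.lift_fst, biprod.lift_snd, biprod.inl_fst,
        biprod.inl_snd, biprod.inr_fst, biprod.inr_snd]
    · simp [t]
    · simp [s]
    · refine HomologicalComplex.hom_ext _ _ fun i => mappingCone.ext_from _ (i + 1) i rfl ?_ ?_
      · simp [u, v, t]
      · simp [u, v, t]
    · refine HomologicalComplex.hom_ext _ _ fun i => mappingCone.ext_from _ (i + 1) i rfl ?_ ?_
      · simp [u, v, s]
      · simp [u, v, s]
  inv_hom_id := by
    refine biprod.hom_ext' _ _ ?_ ?_ <;> refine biprod.hom_ext _ _ ?_ ?_ <;>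
      simp only [biprod.inl_desc_assoc, biprod.inr_desc_assoc, biprod.lift_desc, Category.assoc,
        Category.comp_id, Preadditive.add_comp, biprod.lift_fst, biprod.lift_snd, biprod.inl_fst,
        biprod.inl_snd, biprod.inr_fst, biprod.inr_snd]
    · simp [u]
    · simp [v]
    · refine HomologicalComplex.hom_ext _ _ fun i => mappingCone.ext_from _ (i + 1) i rfl ?_ ?_
      · simp [u, t, s]
      · simp [u, t, s]
    · refine HomologicalComplex.hom_ext _ _ fun i => mappingCone.ext_from _ (i + 1) i rfl ?_ ?_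
      · simp [v, t, s]
      · simp [v, t, s]

end Stable

section Away

variable {R : Type u} [CommRing R]

theorem range_retract {X : DRing.Cx R} (H : Homotopy (𝟙 X) 0) (i : ℤ) :
    ∀ x, (X.d i (i + 1)).hom ((H.hom (i + 1) i).hom ((X.d i (i + 1)).hom x)) = (X.d i (i + 1)).hom x := by
  intro x
  have hn : (ComplexShape.up ℤ).Rel i (i + 1) := rfl
  have hp : (ComplexShape.up ℤ).Rel (i - 1) i := sub_add_cancel i 1
  have hc := congrArg (fun φ => (X.d i (i + 1)).hom (φ.hom x)) (H.comm i)
  rw [dNext_eq _ hn, prevD_eq _ hp] at hc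
  simp only [HomologicalComplex.id_f, HomologicalComplex.zero_f, add_zero, ModuleCat.hom_id, LinearMap.id_apply,
    ModuleCat.hom_add, LinearMap.add_apply, ModuleCat.hom_comp, LinearMap.comp_apply, map_add] at hc
  have hdd := congrArg (fun φ => φ.hom ((H.hom i (i - 1)).hom x)) (X.d_comp_d (i - 1) i (i + 1))
  simp only [ModuleCat.hom_comp, LinearMap.comp_apply, ModuleCat.hom_zero, LinearMap.zero_apply] at hdd
  rw [hdd, add_zero] at hc
  exact hc.symm

theorem finProj_range {X : DRing.Cx R} (hX : DRing.TermwiseFiniteProjective X) (H : Homotopy (𝟙 X) 0) (i : ℤ) :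
    Module.Finite R (LinearMap.range (X.d i (i + 1)).hom) ∧ Module.Projective R (LinearMap.range (X.d i (i + 1)).hom) := by
  haveI := (hX i).1
  haveI := (hX (i + 1)).2
  refine ⟨inferInstance, Module.Projective.of_split (LinearMap.range (X.d i (i + 1)).hom).subtype
    ((X.d i (i + 1)).hom.rangeRestrict.comp (H.hom (i + 1) i).hom) ?_⟩
  refine LinearMap.ext fun z => Subtype.ext ?_
  obtain ⟨x, hx⟩ := z.2
  show (X.d i (i + 1)).hom ((H.hom (i + 1) i).hom z.1) = z.1
  rw [← hx]
  exact range_retract H i x

theorem isZero_range {X : DRing.Cx R} (i : ℤ) (h : IsZero (X.X i)) :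
    Subsingleton (LinearMap.range (X.d i (i + 1)).hom) :=
  haveI := ModuleCat.subsingleton_of_isZero h
  (LinearMap.surjective_rangeRestrict (X.d i (i + 1)).hom).subsingleton

variable {B : Type u} [CommRing B] (ψ : R →+* B)

/-- boundaries of a split complex commute with base change -/
theorem free_range {X : DRing.Cx R} (H : Homotopy (𝟙 X) 0) (i : ℤ)
    (hf : Module.Free B ((ModuleCat.extendScalars.{u, u, u} ψ).obj (ModuleCat.of R (LinearMap.range (X.d i (i + 1)).hom)))) :
    Module.Free B (LinearMap.range ((((ModuleCat.extendScalars.{u, u, u} ψ).mapHomologicalComplex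
      (ComplexShape.up ℤ)).obj X).d i (i + 1)).hom) := by
  let F := ModuleCat.extendScalars.{u, u, u} ψ
  let W := ModuleCat.of R (LinearMap.range (X.d i (i + 1)).hom)
  let a : X.X i ⟶ W := ModuleCat.ofHom (X.d i (i + 1)).hom.rangeRestrict
  let b : W ⟶ X.X (i + 1) := ModuleCat.ofHom (LinearMap.range (X.d i (i + 1)).hom).subtype
  let r : X.X (i + 1) ⟶ W := H.hom (i + 1) i ≫ a
  have hbr : b ≫ r = 𝟙 W := ModuleCat.hom_ext (LinearMap.ext fun z => Subtype.ext (by
    obtain ⟨x, hx⟩ := z.2
    show (X.d i (i + 1)).hom ((H.hom (i + 1) i).hom z.1) = z.1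
    rw [← hx]
    exact range_retract H i x))
  haveI : Epi a := ConcreteCategory.epi_of_surjective _ (LinearMap.surjective_rangeRestrict _)
  haveI : Mono b := mono_of_mono_fac hbr
  haveI : Epi (F.map a) := by
    haveI : PreservesColimitsOfSize.{0, 0} F := (ModuleCat.extendRestrictScalarsAdj.{u, u, u} ψ).leftAdjoint_preservesColimits
    exact F.map_epi a
  have hinj : Function.Injective (F.map b).hom := fun x y hxy => by
    have := congrArg (F.map r).hom hxy
    rw [← LinearMap.comp_apply, ← LinearMap.comp_apply, ← ModuleCat.hom_comp, ← F.map_comp, hbr, F.map_id] at this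
    exact this
  have hd : F.map (X.d i (i + 1)) = F.map a ≫ F.map b := by
    rw [← F.map_comp]; rfl
  have hr : LinearMap.range ((((F.mapHomologicalComplex (ComplexShape.up ℤ)).obj X).d i (i + 1))).hom =
      LinearMap.range (F.map b).hom := by
    show LinearMap.range (F.map (X.d i (i + 1))).hom = _
    rw [hd, ModuleCat.hom_comp]
    exact LinearMap.range_comp_of_range_eq_top _
      (LinearMap.range_eq_top.2 ((ModuleCat.epi_iff_surjective _).1 inferInstance))
  exact Module.Free.of_equiv ((LinearEquiv.ofInjective _ hinj).trans (LinearEquiv.ofEq _ _ hr.symm))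

theorem exists_free_away (p : Ideal R) [p.IsPrime] {ι : Type*} (S : Finset ι) (W : ι → ModuleCat.{u} R)
    (hW : ∀ j ∈ S, Module.Finite R (W j) ∧ Module.Projective R (W j)) :
    ∃ r : R, r ∉ p ∧ ∀ j ∈ S, Module.Free (Localization.Away r) (Localization.Away r ⊗[R] (W j)) := by
  classical
  induction S using Finset.induction with
  | empty => exact ⟨1, fun h => ‹p.IsPrime›.ne_top ((Ideal.eq_top_iff_one p).2 h), fun j hj => absurd hj (Finset.notMem_empty j)⟩
  | insert j S hj ih =>
    obtain ⟨r, hr, hrS⟩ := ih fun k hk => hW k (Finset.mem_insert_of_mem hk)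
    obtain ⟨_, _⟩ := hW j (Finset.mem_insert_self j S)
    haveI : Module.FinitePresentation R (W j) := Module.finitePresentation_of_projective _ _
    haveI : Module.Free (Localization.AtPrime p) (LocalizedModule p.primeCompl (W j)) :=
      Module.free_of_flat_of_isLocalRing
    obtain ⟨s, hs, hfree, -⟩ := Module.FinitePresentation.exists_free_localizedModule_powers
      p.primeCompl (LocalizedModule.mkLinearMap p.primeCompl (W j)) (Localization.AtPrime p)
    haveI hs' : Module.Free (Localization.Away s) (Localization.Away s ⊗[R] (W j)) :=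
      Module.Free.of_equiv (LocalizedModule.equivTensorProduct (Submonoid.powers s) (W j))
    refine ⟨r * s, fun h => (‹p.IsPrime›.mem_or_mem h).elim hr hs, fun k hk => ?_⟩
    have key : ∀ (a : R), IsUnit (algebraMap R (Localization.Away (r * s)) a) →
        ∀ (L : Type u) [AddCommGroup L] [Module R L], Module.Free (Localization.Away a) (Localization.Away a ⊗[R] L) →
        Module.Free (Localization.Away (r * s)) (Localization.Away (r * s) ⊗[R] L) := by
      intro a ha L _ _ hL
      letI : Algebra (Localization.Away a) (Localization.Away (r * s)) :=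
        (IsLocalization.Away.lift a ha).toAlgebra
      haveI : IsScalarTower R (Localization.Away a) (Localization.Away (r * s)) :=
        IsScalarTower.of_algebraMap_eq fun x => (IsLocalization.Away.lift_eq a ha x).symm
      exact Module.Free.of_equiv (TensorProduct.AlgebraTensorModule.cancelBaseChange R (Localization.Away a)
        (Localization.Away (r * s)) (Localization.Away (r * s)) L)
    have hu : IsUnit (algebraMap R (Localization.Away (r * s)) (r * s)) := IsLocalization.Away.algebraMap_isUnit (r * s)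
    rw [map_mul] at hu
    rcases Finset.mem_insert.1 hk with rfl | hk
    · exact key s (isUnit_of_mul_isUnit_right hu) _ hs'
    · exact key r (isUnit_of_mul_isUnit_left hu) _ (hrS k hk)

end Away

section Main

variable {R : Type u} [CommRing R]

theorem cone_bounds {M N : DRing.Cx R} (φ : M ⟶ N) {a b : ℤ} (hM : DRing.VanishesOutside M a b)
    (hN : DRing.VanishesOutside N a b) (hMp : DRing.TermwiseFiniteProjective M)
    (hNp : DRing.TermwiseFiniteProjective N) :
    DRing.VanishesOutside (mappingCone φ) (a - 1) b ∧ DRing.TermwiseFiniteProjective (mappingCone φ) := by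
  refine ⟨fun i hi => ?_, fun i => ?_⟩
  · rw [mappingCone.isZero_X_iff]
    exact ⟨hM _ (by omega), hN _ (by omega)⟩
  · haveI := (hMp (i + 1)).1; haveI := (hMp (i + 1)).2
    haveI := (hNp i).1; haveI := (hNp i).2
    exact ⟨Module.Finite.equiv (Groth.L02.PC.coneEquiv φ i (i + 1) rfl).symm,
      Module.Projective.of_equiv (Groth.L02.PC.coneEquiv φ i (i + 1) rfl).symm⟩

theorem exists_away_iso (p : Ideal R) [p.IsPrime]
    (M N : DRing.Cx R) (a b : ℤ) (hM : DRing.VanishesOutside M a b) (hN : DRing.VanishesOutside N a b)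
    (hMp : DRing.TermwiseFiniteProjective M) (hNp : DRing.TermwiseFiniteProjective N)
    (h : Nonempty (DRing.toD M ≅ DRing.toD N)) :
    ∃ f : R, f ∉ p ∧ ∃ P Q : DRing.Cx (Localization.Away f),
      ((∃ a' b' : ℤ, DRing.VanishesOutside P a' b') ∧ DRing.TermwiseFiniteFree P ∧
          (∀ i : ℤ, Module.Free (Localization.Away f) (LinearMap.range (P.d i (i + 1)).hom)) ∧ Nonempty (Homotopy (𝟙 P) 0)) ∧
      ((∃ a' b' : ℤ, DRing.VanishesOutside Q a' b') ∧ DRing.TermwiseFiniteFree Q ∧
          (∀ i : ℤ, Module.Free (Localization.Away f) (LinearMap.range (Q.d i (i + 1)).hom)) ∧ Nonempty (Homotopy (𝟙 Q) 0)) ∧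
      Nonempty ((((ModuleCat.extendScalars (algebraMap R (Localization.Away f))).mapHomologicalComplex (ComplexShape.up ℤ)).obj M) ⊞ P ≅ (((ModuleCat.extendScalars (algebraMap R (Localization.Away f))).mapHomologicalComplex (ComplexShape.up ℤ)).obj N) ⊞ Q) := by
  classical
  obtain ⟨e⟩ := h
  haveI : M.IsKProjective := Groth.L10.DualCx.isKProjective hM hMp
  haveI : N.IsKProjective := Groth.L10.DualCx.isKProjective hN hNp
  have htpy : ∀ {X : DRing.Cx R} [X.IsKProjective] (f g : X ⟶ X), DerivedCategory.Q.map f = DerivedCategory.Q.map g →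
      Nonempty (Homotopy f g) := by
    intro X _ f g hfg
    refine ⟨HomotopyCategory.homotopyOfEq _ _ ((CochainComplex.IsKProjective.Qh_map_bijective X _).1 ?_)⟩
    have n1 := (DerivedCategory.quotientCompQhIso (ModuleCat.{u} R)).hom.naturality f
    have n2 := (DerivedCategory.quotientCompQhIso (ModuleCat.{u} R)).hom.naturality g
    simp only [Functor.comp_map] at n1 n2
    rw [← cancel_mono ((DerivedCategory.quotientCompQhIso (ModuleCat.{u} R)).hom.app X)]
    exact n1.trans ((congrArg (fun k => _ ≫ k) hfg).trans n2.symm)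
  obtain ⟨φ, hφ⟩ := Groth.L02.PC.exists_chainMap e.hom
  obtain ⟨g, hg⟩ := Groth.L02.PC.exists_chainMap e.inv
  obtain ⟨H1⟩ := htpy (φ ≫ g) (𝟙 M) (by rw [Functor.map_comp, hφ, hg, Iso.hom_inv_id, CategoryTheory.Functor.map_id])
  obtain ⟨hv1, hp1⟩ := cone_bounds φ hM hN hMp hNp
  obtain ⟨hv2, hp2⟩ := cone_bounds (𝟙 M) hM hM hMp hMp
  haveI : QuasiIso φ := (DerivedCategory.isIso_Q_map_iff_quasiIso _ φ).1 (hφ ▸ inferInstance)
  haveI : (mappingCone φ).IsKProjective := Groth.L10.DualCx.isKProjective hv1 hp1
  have hz : IsZero (DerivedCategory.Q.obj (mappingCone φ)) := by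
    haveI : QuasiIso (0 : mappingCone φ ⟶ mappingCone φ) :=
      (quasiIso_iff _).2 fun i => (quasiIsoAt_iff_isIso_homologyMap _ i).2
        ⟨⟨0, (Groth.L00.ConeTransfer.acyclic_cone φ i).eq_of_src _ _,
          (Groth.L00.ConeTransfer.acyclic_cone φ i).eq_of_src _ _⟩⟩
    haveI : IsIso (DerivedCategory.Q.map (0 : mappingCone φ ⟶ mappingCone φ)) :=
      (DerivedCategory.isIso_Q_map_iff_quasiIso _ _).2 inferInstance
    refine (IsZero.iff_id_eq_zero _).2 ((IsIso.hom_inv_id (DerivedCategory.Q.map (0 : mappingCone φ ⟶ mappingCone φ))).symm.trans ?_)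
    exact (congrArg (fun t => t ≫ inv (DerivedCategory.Q.map (0 : mappingCone φ ⟶ mappingCone φ)))
      (DerivedCategory.Q.map_zero _ _)).trans zero_comp
  obtain ⟨K1⟩ := htpy (𝟙 (mappingCone φ)) 0 (hz.eq_of_src _ _)
  let K2 : Homotopy (𝟙 (mappingCone (𝟙 M))) 0 := CochainComplex.mappingCone.homotopyToZeroOfId M
  let S := Finset.Icc (a - 1) b
  let J : Finset (Bool × Bool × ℤ) := (Finset.univ : Finset Bool) ×ˢ ((Finset.univ : Finset Bool) ×ˢ S)
  let W : Bool × Bool × ℤ → ModuleCat.{u} R := fun
    | (true, true, i) => (mappingCone φ).X i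
    | (false, true, i) => (mappingCone (𝟙 M)).X i
    | (true, false, i) => ModuleCat.of R (LinearMap.range ((mappingCone φ).d i (i + 1)).hom)
    | (false, false, i) => ModuleCat.of R (LinearMap.range ((mappingCone (𝟙 M)).d i (i + 1)).hom)
  obtain ⟨r, hr, hfree⟩ := exists_free_away p J W (fun j _ => by
    obtain ⟨b1, b2, i⟩ := j
    cases b1 <;> cases b2
    · exact finProj_range hp2 K2 i
    · exact hp2 i
    · exact finProj_range hp1 K1 i
    · exact hp1 i)
  let F := ModuleCat.extendScalars.{u, u, u} (algebraMap R (Localization.Away r))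
  let G := F.mapHomologicalComplex (ComplexShape.up ℤ)
  have hall : ∀ j : Bool × Bool × ℤ, (j.2.2 ∉ S → Subsingleton (W j)) →
      Module.Free (Localization.Away r) (F.obj (W j)) := fun j hj => by
    by_cases hS : j.2.2 ∈ S
    · haveI := hfree j (Finset.mem_product.2 ⟨Finset.mem_univ _, Finset.mem_product.2 ⟨Finset.mem_univ _, hS⟩⟩)
      exact Module.Free.of_equiv (Groth.L29.FlatBC.extEquiv R (Localization.Away r) (W j)).symm
    · haveI := hj hS
      haveI : Subsingleton (F.obj (W j)) :=
        ModuleCat.subsingleton_of_isZero (F.map_isZero (ModuleCat.isZero_of_subsingleton (W j)))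
      exact Module.Free.of_subsingleton _ _
  have hout : ∀ i, i ∉ S → i < a - 1 ∨ b < i := fun i hi => by simp [S] at hi; omega
  have part : ∀ (X : DRing.Cx R) (_ : DRing.VanishesOutside X (a - 1) b) (_ : DRing.TermwiseFiniteProjective X)
      (K : Homotopy (𝟙 X) 0) (_ : ∀ i, Module.Free (Localization.Away r) (F.obj (X.X i)))
      (_ : ∀ i, Module.Free (Localization.Away r) (F.obj (ModuleCat.of R (LinearMap.range (X.d i (i + 1)).hom)))),
      (∃ a' b' : ℤ, DRing.VanishesOutside (G.obj X) a' b') ∧ DRing.TermwiseFiniteFree (G.obj X) ∧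
      (∀ i : ℤ, Module.Free (Localization.Away r) (LinearMap.range ((G.obj X).d i (i + 1)).hom)) ∧
      Nonempty (Homotopy (𝟙 (G.obj X)) 0) := fun X hv hp K hf hfr =>
    ⟨⟨a - 1, b, fun i hi => F.map_isZero (hv i hi)⟩,
      fun i => ⟨haveI := (hp i).1; Module.Finite.equiv (Groth.L29.FlatBC.extEquiv R (Localization.Away r) (X.X i)).symm, hf i⟩,
      fun i => free_range _ K i (hfr i),
      ⟨(Homotopy.ofEq (G.map_id X).symm).trans ((F.mapHomotopy K).trans (Homotopy.ofEq (G.map_zero X X)))⟩⟩
  haveI : PreservesBinaryBiproducts G := preservesBinaryBiproducts_of_preservesBiproducts G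
  refine ⟨r, hr, G.obj (mappingCone φ), G.obj (mappingCone (𝟙 M)),
    part _ hv1 hp1 K1
      (fun i => hall (true, true, i) fun hi => ModuleCat.subsingleton_of_isZero (hv1 i (hout i hi)))
      (fun i => hall (true, false, i) fun hi => isZero_range i (hv1 i (hout i hi))),
    part _ hv2 hp2 K2
      (fun i => hall (false, true, i) fun hi => ModuleCat.subsingleton_of_isZero (hv2 i (hout i hi)))
      (fun i => hall (false, false, i) fun hi => isZero_range i (hv2 i (hout i hi))), ?_⟩
  exact ⟨(G.mapBiprod M (mappingCone φ)).symm ≪≫ G.mapIso (stableIso φ g H1).symm ≪≫ G.mapBiprod N (mappingCone (𝟙 M))⟩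

end Main

end Groth.L10.TrivialSummand
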